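import Cfsg.Agent.FusRankThreeNormal.Tools2
import Cfsg.Agent.FusRankThreeNormal.Pair
import Cfsg.Agent.FusRankThreeNormal.TwoGen

/-!
Two index `p` subgroups of a `p`-group, each with a group of automorphisms that behaves like the
automiser of an essential subgroup, and a common group of automorphisms of the whole group.
-/

set_option autoImplicit false
set_option linter.style.haveILetI false
set_option linter.unusedSectionVars false

namespace Cfsg.Agent.FusRankThreeChar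

open Cfsg Cfsg.FusionSystem Cfsg.Agent.FusSys Subgroup
open Cfsg.Agent.RankThreeEss (Elem)
open Cfsg.Agent.FusRankThreeNormal (Nor zOne mem_zOne zOne_le nor_zOne inf_zOne_ne_bot
  le_zOne_of_card three_le apl_map_mul apl_map_one apl_map_inv apl_map_pow apl_map_comm apl_injective
  pow_apply_fix card_elem_le sectional_of_le card_section_le sectional_quotient wide
  sup_zpowers_eq image_sylow)
open scoped commutatorElement

universe u

variable {Ω : Type u} [Group Ω] {S E Q K₁ K₂ : Subgroup Ω} {p : ℕ}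
variable {D : (X : Subgroup Ω) → Subgroup (MulAut X)}

/-- `Q` is kept by the chosen automorphisms of `E`. -/
def Inv (D : (X : Subgroup Ω) → Subgroup (MulAut X)) (E Q : Subgroup Ω) : Prop :=
  ∀ α ∈ D E, ∀ x ∈ E, x ∈ Q → apl α x ∈ Q

/-- The two distinguished subgroups. -/
def Ess (S K₁ K₂ B : Subgroup Ω) : Prop := (B ≤ S ∧ True) ∧ (B = K₁ ∨ B = K₂)

set_option linter.unusedVariables false in
theorem Inv.iff (h : Inv D E Q) {α : MulAut E} (hα : α ∈ D E) {x : Ω} (hx : x ∈ E) :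
    apl α x ∈ Q ↔ x ∈ Q :=
  ⟨fun h' => by
    have := h α⁻¹ ((D E).inv_mem hα) _ (apl_mem α hx) h'
    rwa [apl_inv_apl α hx] at this, h α hα x hx⟩

theorem Inv.inf {R : Subgroup Ω} (h : Inv D E Q) (h' : Inv D E R) : Inv D E (Q ⊓ R) :=
  fun α hα x hx hxQ => ⟨h α hα x hx hxQ.1, h' α hα x hx hxQ.2⟩

theorem inv_self : Inv D E E := fun α _ _ hx _ => apl_mem α hx

theorem inv_bot : Inv D E ⊥ := fun α _ x _ hx => by
  rw [mem_bot.1 hx, apl_map_one]; exact one_mem _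

/-- The subgroup generated by the images of `Q`. -/
noncomputable def orb (D : (X : Subgroup Ω) → Subgroup (MulAut X)) (E Q : Subgroup Ω) : Subgroup Ω :=
  closure {y | ∃ α ∈ D E, ∃ x ∈ E, x ∈ Q ∧ y = apl α x}

theorem orb_le : orb D E Q ≤ E := (closure_le _).2 (by
  rintro _ ⟨α, -, x, hx, -, rfl⟩; exact apl_mem α hx)

theorem le_orb (hQ : Q ≤ E) : Q ≤ orb D E Q := fun x hx =>
  Subgroup.subset_closure ⟨1, one_mem _, x, hQ hx, hx, (apl_one (hQ hx)).symm⟩

theorem orb_le_of_inv {R : Subgroup Ω} (hR : Inv D E R) (hQ : Q ≤ R) : orb D E Q ≤ R :=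
  (closure_le _).2 (by rintro _ ⟨α, hα, x, hx, hxQ, rfl⟩; exact hR α hα x hx (hQ hxQ))

theorem inv_orb : Inv D E (orb D E Q) := by
  intro α hα x _ hx
  induction hx using Subgroup.closure_induction with
  | mem y hy =>
    obtain ⟨β, hβ, z, hz, hzQ, rfl⟩ := hy
    exact Subgroup.subset_closure ⟨α * β, mul_mem hα hβ, z, hz, hzQ, (apl_mul α β hz).symm⟩
  | one => rw [apl_map_one]; exact one_mem _
  | mul a b ha hb iha ihb =>
    rw [apl_map_mul α (orb_le ha) (orb_le hb)]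
    exact mul_mem (iha (orb_le ha)) (ihb (orb_le hb))
  | inv a ha iha =>
    rw [apl_map_inv α (orb_le ha)]
    exact inv_mem (iha (orb_le ha))

theorem inv_zOne_top : Inv D S (zOne p S) := by
  intro α hα x hx hxZ
  refine ⟨apl_mem α hx, fun y hy => ?_, by rw [← apl_map_pow α hx, hxZ.2.2, apl_map_one]⟩
  have h2 := congrArg (apl α) (hxZ.2.1 _ (apl_mem α⁻¹ hy))
  rwa [apl_map_mul α hx (apl_mem α⁻¹ hy), apl_map_mul α (apl_mem α⁻¹ hy) hx,
    apl_apl_inv α hy] at h2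

/-- The images of the socle of the centre. -/
noncomputable def vOf (p : ℕ) (S : Subgroup Ω) (D : (X : Subgroup Ω) → Subgroup (MulAut X))
    (E : Subgroup Ω) : Subgroup Ω :=
  orb D E (zOne p S)

theorem vOf_le : vOf p S D E ≤ E := orb_le

theorem inv_vOf : Inv D E (vOf p S D E) := inv_orb

/-! ### Stabilisers of series -/

/-- Automorphisms stabilising a series form a `p`-group. -/
theorem isPGroup_of_chain [hp : Fact p.Prime] {P : Type*} [Group P] [Finite P] (hP : IsPGroup p P)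
    (N : ℕ → Subgroup P) (hmono : Monotone N) (n : ℕ) (h0 : N 0 = ⊥) (hn : N n = ⊤)
    (s : Set (MulAut P)) (hs : ∀ f ∈ s, ∀ i < n, ∀ x ∈ N (i + 1), x⁻¹ * f x ∈ N i) :
    IsPGroup p (closure s) := by
  have keep : ∀ f : MulAut P, (∀ i < n, ∀ x ∈ N (i + 1), x⁻¹ * f x ∈ N i) →
      ∀ i ≤ n, ∀ y ∈ N i, f y ∈ N i := by
    intro f hf i hi y hy
    match i with
    | 0 => rw [h0, mem_bot] at hy ⊢; rw [hy, map_one]
    | j + 1 =>
      have := (N (j + 1)).mul_mem hy (hmono j.le_succ (hf j (by omega) y hy))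
      rwa [mul_inv_cancel_left] at this
  have key : ∀ f ∈ closure s, (∀ i < n, ∀ x ∈ N (i + 1), x⁻¹ * f x ∈ N i) ∧
      ∀ i < n, ∀ x ∈ N (i + 1), x⁻¹ * f⁻¹ x ∈ N i := by
    intro f hf
    induction hf using Subgroup.closure_induction with
    | mem f hf =>
      refine ⟨hs f hf, fun i hi x hx => ?_⟩
      have hbij : ∀ y ∈ N (i + 1), f⁻¹ y ∈ N (i + 1) := by
        intro y hy
        have hk : (N (i + 1)).map f.toMonoidHom = N (i + 1) := eq_of_le_of_card_ge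
          (by rintro _ ⟨w, hw, rfl⟩; exact keep f (hs f hf) _ hi w hw)
          (card_map_of_injective (f := f.toMonoidHom) f.injective).ge
        rw [← hk] at hy
        obtain ⟨w, hw, rfl⟩ := hy
        show f⁻¹ (f w) ∈ _
        rw [← MulAut.mul_apply, inv_mul_cancel]
        exact hw
      have := (N i).inv_mem (hs f hf i hi _ (hbij x hx))
      rwa [← MulAut.mul_apply, mul_inv_cancel, MulAut.one_apply, mul_inv_rev, inv_inv] at this
    | one => simp
    | mul f g _ _ ihf ihg =>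
      refine ⟨fun i hi x hx => ?_, fun i hi x hx => ?_⟩
      · rw [MulAut.mul_apply, show x⁻¹ * f (g x) = (x⁻¹ * f x) * f (x⁻¹ * g x) by
          rw [map_mul, map_inv]; group]
        exact (N i).mul_mem (ihf.1 i hi x hx) (keep f ihf.1 i hi.le _ (ihg.1 i hi x hx))
      · rw [mul_inv_rev, MulAut.mul_apply, show x⁻¹ * g⁻¹ (f⁻¹ x) =
          (x⁻¹ * g⁻¹ x) * g⁻¹ (x⁻¹ * f⁻¹ x) by rw [map_mul, map_inv]; group]
        exact (N i).mul_mem (ihg.2 i hi x hx) (keep g⁻¹ ihg.2 i hi.le _ (ihf.2 i hi x hx))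
    | inv f _ ihf => exact ⟨ihf.2, by rw [inv_inv]; exact ihf.1⟩
  obtain ⟨m, hm⟩ := IsPGroup.iff_card.1 hP
  intro ⟨f, hf⟩
  have step : ∀ i ≤ n, ∃ k, ∀ x ∈ N i, (f ^ p ^ k) x = x := by
    intro i
    induction i with
    | zero => exact fun _ => ⟨0, fun x hx => by rw [h0, mem_bot] at hx; rw [hx, map_one]⟩
    | succ i ih =>
      intro hi
      obtain ⟨k, hk⟩ := ih (by omega)
      refine ⟨k + m, fun x hx => ?_⟩
      have h1 := (key _ ((closure s).pow_mem hf (p ^ k))).1 i (by omega) x hx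
      rw [pow_add, pow_mul, pow_apply_fix (hk _ h1), ← hm, pow_card_eq_one', mul_one]
  obtain ⟨k, hk⟩ := step n le_rfl
  exact ⟨k, Subtype.ext (MulEquiv.ext fun x => hk x (hn ▸ mem_top x))⟩

/-! ### The hypotheses -/

/-- The standing hypotheses. -/
structure Setting (p : ℕ) [Fact p.Prime] (S : Subgroup Ω)
    (D : (X : Subgroup Ω) → Subgroup (MulAut X)) (K₁ K₂ : Subgroup Ω) : Prop where
  pS : IsPGroup p S
  odd : Odd p
  rank : SectionalPRankLE p 3 S
  ne : K₁ ≠ K₂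
  left : Ess S K₁ K₂ K₁
  right : Ess S K₁ K₂ K₂
  nor : ∀ E, Ess S K₁ K₂ E → Nor S E
  idx : ∀ E, Ess S K₁ K₂ E → Nat.card S = p * Nat.card E
  conj : ∀ E, Ess S K₁ K₂ E → autInducedBy S E ≤ D E
  conjTop : autInducedBy S S ≤ D S
  np : ∀ E, Ess S K₁ K₂ E → ∃ x ∈ S, x ∉ E ∧ ∃ a ∈ D E, ∃ γ ∈ D E,
    (∀ y ∈ E, apl a y = x * y * x⁻¹) ∧ ¬ IsPGroup p (closure ({a, γ * a * γ⁻¹} : Set (MulAut E)))
  syl : ∀ X, (Ess S K₁ K₂ X ∨ X = S) →
    ∃ R : Sylow p (D X), (R : Subgroup (D X)) = (autInducedBy S X).subgroupOf (D X)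
  ext : ∀ E, Ess S K₁ K₂ E → ∀ α ∈ D E,
    (∀ σ ∈ autInducedBy S E, α * σ * α⁻¹ ∈ autInducedBy S E) →
    ∃ β ∈ D S, ∀ a ∈ E, apl β a = apl α a
  res : ∀ E, Ess S K₁ K₂ E → ∀ β ∈ D S, ∃ α ∈ D E, ∀ a ∈ E, apl α a = apl β a

variable [Finite S] [hp : Fact p.Prime]

namespace Setting

variable (h : Setting p S D K₁ K₂)
include h

theorem exists_conj (hE : Ess S K₁ K₂ E) {s : Ω} (hs : s ∈ S) :
    ∃ α ∈ autInducedBy S E, α ∈ D E ∧ ∀ x ∈ E, apl α x = s * x * s⁻¹ := by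
  obtain ⟨α, hα, hx⟩ := exists_mem_autInducedBy (P := E) hs ((h.nor E hE).mem_normalizer hs)
  exact ⟨α, hα, h.conj E hE hα, hx⟩

theorem exists_conj_top {s : Ω} (hs : s ∈ S) :
    ∃ β ∈ D S, ∀ x ∈ S, apl β x = s * x * s⁻¹ := by
  obtain ⟨α, hα, hx⟩ := exists_mem_autInducedBy (P := S) hs (Subgroup.le_normalizer hs)
  exact ⟨α, h.conjTop hα, hx⟩

theorem nor_ess (hE : Ess S K₁ K₂ E) : Nor S E := h.nor E hE

theorem card_eq (hE : Ess S K₁ K₂ E) : Nat.card S = p * Nat.card E := h.idx E hE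

theorem exists_ext (hE : Ess S K₁ K₂ E) {α : MulAut E} (hα : α ∈ D E)
    (hn : ∀ γ ∈ autInducedBy S E, α * γ * α⁻¹ ∈ autInducedBy S E) :
    ∃ β ∈ D S, ∀ a ∈ E, apl β a = apl α a := h.ext E hE α hα hn

theorem inv_ess (hE : Ess S K₁ K₂ E) : Inv D S E := fun β hβ x _ hx => by
  obtain ⟨α, -, hαx⟩ := h.res E hE β hβ
  rw [← hαx x hx]
  exact apl_mem α hx

theorem inv_inter : Inv D S (K₁ ⊓ K₂) := (h.inv_ess h.left).inf (h.inv_ess h.right)

theorem nor_of_inv (hE : Ess S K₁ K₂ E) (hQ : Q ≤ E) (hi : Inv D E Q) : Nor S Q :=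
  fun s hs x hx => by
    obtain ⟨α, -, hα, hαx⟩ := h.exists_conj hE hs
    rw [← hαx x (hQ hx)]
    exact hi α hα x (hQ hx) hx

theorem nor_of_inv_top (hQ : Q ≤ S) (hi : Inv D S Q) : Nor S Q := fun s hs x hx => by
  obtain ⟨β, hβ, hβx⟩ := h.exists_conj_top hs
  rw [← hβx x (hQ hx)]
  exact hi β hβ x (hQ hx) hx

/-- Invariance follows from invariance on `S` and under the conjugates of `Aut_S(E)`. -/
theorem inv_of_conjugates (hE : Ess S K₁ K₂ E) (hi : Inv D S Q)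
    (hc : ∀ γ ∈ D E, ∀ σ ∈ autInducedBy S E, ∀ x ∈ E, x ∈ Q →
      apl (γ * σ * γ⁻¹) x ∈ Q) : Inv D E Q := by
  haveI := finite_of_le hE.1.1
  haveI : Finite (MulAut E) := Finite.of_injective _ MulEquiv.toEquiv_injective
  obtain ⟨R, hR⟩ := h.syl E (Or.inl hE)
  let St : Submonoid (D E) :=
    { carrier := {α | ∀ x ∈ E, x ∈ Q → apl (α : MulAut E) x ∈ Q}
      one_mem' := fun x hx hxQ => by rw [OneMemClass.coe_one, apl_one hx]; exact hxQ
      mul_mem' := fun {a b} ha hb x hx hxQ => by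
        rw [Subgroup.coe_mul, apl_mul _ _ hx]; exact ha _ (apl_mem _ hx) (hb x hx hxQ) }
  let St' : Subgroup (D E) :=
    { St with
      inv_mem' := fun {x} hx => by
        have e : x⁻¹ = x ^ (orderOf x - 1) := by
          rw [inv_eq_iff_mul_eq_one, ← pow_succ', Nat.sub_add_cancel (orderOf_pos x),
            pow_orderOf_eq_one]
        show x⁻¹ ∈ St
        rw [e]
        exact St.pow_mem hx _ }
  set K := normalClosure ((R : Subgroup (D E)) : Set (D E)) with hK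
  have hKle : K ≤ St' := by
    rw [hK, normalClosure, closure_le]
    intro y hy
    obtain ⟨σ, hσ, hy'⟩ := Group.mem_conjugatesOfSet_iff.1 hy
    obtain ⟨γ, rfl⟩ := isConj_iff.1 hy'
    intro x hx hxQ
    rw [SetLike.mem_coe, hR] at hσ
    exact hc γ γ.2 σ hσ x hx hxQ
  have htop : normalizer ((R : Subgroup (D E)) : Set (D E)) ⊔ K = ⊤ :=
    Sylow.normalizer_sup_eq_top' R (subset_normalClosure)
  have hN : normalizer ((R : Subgroup (D E)) : Set (D E)) ≤ St' := by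
    intro n hn x hx hxQ
    obtain ⟨β, hβ, hβx⟩ := h.exists_ext hE n.2 fun γ hγ => by
      have hγ' : (⟨γ, h.conj _ hE hγ⟩ : D E) ∈
          (R : Subgroup (D E)) := by rw [hR]; exact hγ
      have := (mem_normalizer_iff.1 hn _).1 hγ'
      rw [hR] at this
      exact this
    rw [← hβx x hx]
    exact hi β hβ x (hE.1.1 hx) hxQ
  intro α hα x hx hxQ
  exact (sup_le hN hKle) (htop.symm ▸ mem_top (⟨α, hα⟩ : D E)) x hx hxQ

theorem exists_mul (hE : Ess S K₁ K₂ E) {x : Ω} (hx : x ∈ S) (hxE : x ∉ E) :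
    ∀ s ∈ S, ∃ e ∈ E, ∃ n : ℕ, e * x ^ n = s := by
  intro s hs
  haveI := (h.nor_ess hE).subgroupOf (le_refl S)
  have hES := hE.1.1
  set E' := E.subgroupOf S
  haveI := finite_of_le hES
  have hi : E'.index = p := by
    have h1 := E'.card_mul_index
    rw [h.card_eq hE, Nat.card_congr (subgroupOfEquivOfLe hES).toEquiv, mul_comm p] at h1
    exact Nat.eq_of_mul_eq_mul_left Nat.card_pos h1
  haveI : IsCyclic (S ⧸ E') := isCyclic_of_prime_card (p := p) (by rw [← index_eq_card, hi])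
  have hne : ((⟨x, hx⟩ : S) : S ⧸ E') ≠ 1 := fun e =>
    hxE (mem_subgroupOf.1 ((QuotientGroup.eq_one_iff _).1 e))
  have hmem := mem_zpowers_of_prime_card (by rw [← index_eq_card, hi]) hne
    (g' := ((⟨s, hs⟩ : S) : S ⧸ E'))
  obtain ⟨n, hn⟩ := mem_powers_iff_mem_zpowers.2 hmem
  change ((⟨x, hx⟩ : S) : S ⧸ E') ^ n = _ at hn
  rw [← QuotientGroup.mk_pow, QuotientGroup.eq] at hn
  refine ⟨s * (x ^ n)⁻¹, ?_, n, inv_mul_cancel_right s _⟩
  have h1 := (h.nor_ess hE) _ (S.pow_mem hx n) _ (mem_subgroupOf.1 hn)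
  simpa [mul_assoc] using h1

theorem eq_or_eq (hE : Ess S K₁ K₂ E) {M : Subgroup Ω} (hEM : E ≤ M) (hMS : M ≤ S) :
    M = E ∨ M = S := by
  by_cases hle : M ≤ E
  · exact Or.inl (le_antisymm hle hEM)
  · obtain ⟨x, hxM, hxE⟩ := SetLike.not_le_iff_exists.1 hle
    refine Or.inr (le_antisymm hMS fun s hs => ?_)
    obtain ⟨e, he, n, rfl⟩ := h.exists_mul hE (hMS hxM) hxE s hs
    exact M.mul_mem (hEM he) (M.pow_mem hxM n)

theorem comm_mem_ess (hE : Ess S K₁ K₂ E) {a b : Ω} (ha : a ∈ S) (hb : b ∈ S) :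
    ⁅a, b⁆ ∈ E := by
  by_cases haE : a ∈ E
  · exact ((h.nor_ess hE).comm_mem haE hb).1
  obtain ⟨e, he, n, rfl⟩ := h.exists_mul hE ha haE b hb
  have key : ⁅a, e * a ^ n⁆ = ⁅a, e⁆ := by
    rw [commutatorElement_def, commutatorElement_def]; group
  rw [key]
  exact ((h.nor_ess hE).comm_mem he ha).2

theorem pow_mem_ess (hE : Ess S K₁ K₂ E) {a : Ω} (ha : a ∈ S) : a ^ p ∈ E := by
  haveI := (h.nor_ess hE).subgroupOf (le_refl S)
  haveI := finite_of_le hE.1.1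
  have h1 := (E.subgroupOf S).card_mul_index
  rw [h.card_eq hE, Nat.card_congr (subgroupOfEquivOfLe hE.1.1).toEquiv, mul_comm p] at h1
  have hi := Nat.eq_of_mul_eq_mul_left Nat.card_pos h1
  have h2 := pow_index_mem (E.subgroupOf S) (⟨a, ha⟩ : S)
  rw [hi] at h2
  exact mem_subgroupOf.1 h2

/-- Elements centralising a distinguished subgroup lie in it. -/
theorem self (hE : Ess S K₁ K₂ E) {x : Ω} (hx : x ∈ S) (hc : ∀ y ∈ E, x * y = y * x) : x ∈ E := by
  by_contra hxE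
  haveI := finite_of_le hE.1.1
  obtain ⟨x₀, hx₀, hx₀E, a, -, γ, -, hax, hnp⟩ := h.np E hE
  obtain ⟨e, he, n, rfl⟩ := h.exists_mul hE hx hxE x₀ hx₀
  have h2 : ∀ z ∈ E, x ^ n * z = z * x ^ n := fun z hz =>
    ((show Commute x z from hc z hz).pow_left n).eq
  have haI : a ∈ Inn E := by
    rw [inn_eq_autInducedBy]
    refine mem_autInducedBy_iff.2 ⟨e, he, Subgroup.le_normalizer he, fun y hy => ?_⟩
    rw [hax y hy]
    calc e * x ^ n * y * (e * x ^ n)⁻¹ = e * (x ^ n * y) * (x ^ n)⁻¹ * e⁻¹ := by group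
      _ = e * y * e⁻¹ := by rw [h2 y hy]; group
  have hp' : IsPGroup p (Inn E) :=
    (inn_eq_autInducedBy (P := E)).symm ▸ isPGroup_autInducedBy (h.pS.to_le hE.1.1)
  refine hnp (hp'.to_le ((closure_le _).2 ?_))
  rintro f (rfl | rfl)
  exacts [haI, (inferInstance : (Inn E).Normal).conj_mem _ haI γ]

theorem zOne_le_ess (hE : Ess S K₁ K₂ E) : zOne p S ≤ E := fun z hz =>
  h.self hE hz.1 fun y hy => hz.2.1 y (hE.1.1 hy)

theorem cen_le_ess (hE : Ess S K₁ K₂ E) {x : Ω} (hx : x ∈ S) (hc : ∀ y ∈ S, x * y = y * x) :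
    x ∈ E := h.self hE hx fun y hy => hc y (hE.1.1 hy)

theorem s_ne_bot : S ≠ ⊥ := fun e => by
  obtain ⟨x, hx, hxE, -⟩ := h.np K₁ h.left
  rw [e, mem_bot] at hx
  exact hxE (hx ▸ one_mem _)

theorem zOne_ne_bot : zOne p S ≠ ⊥ := fun e => by
  have := inf_zOne_ne_bot h.pS le_rfl (fun s hs x hx => S.mul_mem (S.mul_mem hs hx) (S.inv_mem hs))
    h.s_ne_bot
  rw [e, inf_bot_eq] at this
  exact this rfl

/-- Every element outside gives conjugates generating a non-`p`-group. -/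
theorem nonpgroup (hE : Ess S K₁ K₂ E) {x : Ω} (hx : x ∈ S) (hxE : x ∉ E) :
    ∃ a ∈ D E, ∃ γ ∈ D E, (∀ y ∈ E, apl a y = x * y * x⁻¹) ∧
      ¬ IsPGroup p (closure ({a, γ * a * γ⁻¹} : Set (MulAut E))) := by
  haveI := finite_of_le hE.1.1
  haveI : Finite (MulAut E) := Finite.of_injective _ MulEquiv.toEquiv_injective
  obtain ⟨a, haI, ha, hax⟩ := h.exists_conj hE hx
  by_contra! hall
  set G := D E with hG
  obtain ⟨R, hR⟩ : ∃ R : Sylow p G, (R : Subgroup G) = (autInducedBy S E).subgroupOf G :=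
    h.syl E (Or.inl hE)
  set I : Subgroup G := (autInducedBy E E).subgroupOf G with hI
  haveI hIn : I.Normal := ⟨fun σ hσ γ => by
    rw [hI, mem_subgroupOf, ← inn_eq_autInducedBy] at hσ ⊢
    exact (inferInstance : (Inn E).Normal).conj_mem _ hσ _⟩
  have hIp : IsPGroup p I := (isPGroup_autInducedBy (h.pS.to_le hE.1.1)).comap_subtype
  have hxpow : ∀ (m : ℕ) y, y ∈ E → apl (a ^ m) y = x ^ m * y * (x ^ m)⁻¹ := fun m y hy => by
    induction m with
    | zero => simp [apl_one hy]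
    | succ m ih => rw [pow_succ', apl_mul _ _ hy, hax _ (apl_mem _ hy), ih]; group
  have hRgen : (R : Subgroup G) ≤ I ⊔ zpowers (⟨a, ha⟩ : G) := by
    intro r hr
    rw [hR] at hr
    obtain ⟨s, hs, -, hsx⟩ := mem_autInducedBy_iff.1 hr
    obtain ⟨e, he, n, rfl⟩ := h.exists_mul hE hx hxE s hs
    obtain ⟨ε, -, hεF, hεx⟩ := h.exists_conj hE (hE.1.1 he)
    have : r = ⟨ε, hεF⟩ * (⟨a, ha⟩ : G) ^ n := Subtype.ext (apl_ext fun y hy => by
      change apl (r : MulAut E) y = apl (ε * a ^ n) y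
      rw [show apl (r : MulAut E) y = _ from hsx y hy, apl_mul _ _ hy, hεx _ (apl_mem _ hy),
        hxpow n y hy]
      group)
    rw [this]
    refine mul_mem (mem_sup_left ?_) (mem_sup_right (pow_mem (mem_zpowers _) n))
    exact mem_subgroupOf.2 (mem_autInducedBy_iff.2 ⟨e, he, Subgroup.le_normalizer he, hεx⟩)
  have hconj : ∀ γ : G, γ * (⟨a, ha⟩ : G) * γ⁻¹ ∈ (R : Subgroup G) := by
    intro γ
    set H := closure ({(⟨a, ha⟩ : G), γ * ⟨a, ha⟩ * γ⁻¹} : Set G) with hH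
    have hHp : IsPGroup p H := by
      have h1 := hall a ha γ γ.2 hax
      intro ⟨w, hw⟩
      have hw' : (w : MulAut E) ∈
          closure ({a, (γ : MulAut E) * a * (γ : MulAut E)⁻¹} : Set (MulAut E)) := by
        have h2 := mem_map_of_mem G.subtype hw
        rw [hH, MonoidHom.map_closure, Set.image_pair] at h2
        exact h2
      obtain ⟨k, hk⟩ := h1 ⟨_, hw'⟩
      refine ⟨k, Subtype.ext (Subtype.ext ?_)⟩
      simpa using congrArg Subtype.val hk
    have hRle : (R : Subgroup G) ≤ I ⊔ H :=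
      hRgen.trans (sup_le_sup_left (zpowers_le.2 (Subgroup.subset_closure (Set.mem_insert _ _))) _)
    exact (R.3 (IsPGroup.to_sup_of_normal_left hIp hHp) hRle).le
      (mem_sup_right (Subgroup.subset_closure (Set.mem_insert_of_mem _ rfl)))
  set N := normalClosure {(⟨a, ha⟩ : G)}
  have hN : N ≤ (R : Subgroup G) := by
    refine (closure_le _).2 ?_
    intro y hy
    obtain ⟨_, rfl, hy'⟩ := Group.mem_conjugatesOfSet_iff.1 hy
    obtain ⟨γ, rfl⟩ := isConj_iff.1 hy'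
    exact hconj γ
  have hNp : IsPGroup p (N ⊔ I : Subgroup G) :=
    IsPGroup.to_sup_of_normal_left (R.2.to_le hN) hIp
  -- the given element
  obtain ⟨x₀, hx₀, hx₀E, a₀, ha₀, γ₀, hγ₀, ha₀x, hnp⟩ := h.np E hE
  obtain ⟨e, he, n, rfl⟩ := h.exists_mul hE hx hxE x₀ hx₀
  obtain ⟨ε, -, hεF, hεx⟩ := h.exists_conj hE (hE.1.1 he)
  have hεI : (⟨ε, hεF⟩ : G) ∈ I :=
    mem_subgroupOf.2 (mem_autInducedBy_iff.2 ⟨e, he, Subgroup.le_normalizer he, hεx⟩)
  have ha₀' : (⟨a₀, ha₀⟩ : G) ∈ N ⊔ I := by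
    have : (⟨a₀, ha₀⟩ : G) = ⟨ε, hεF⟩ * (⟨a, ha⟩ : G) ^ n := Subtype.ext (apl_ext fun y hy => by
      change apl a₀ y = apl (ε * a ^ n) y
      rw [ha₀x y hy, apl_mul _ _ hy, hεx _ (apl_mem _ hy), hxpow n y hy]
      group)
    rw [this]
    exact mul_mem (mem_sup_right hεI)
      (mem_sup_left (pow_mem (subset_normalClosure (Set.mem_singleton _)) n))
  refine hnp ((hNp.map G.subtype).to_le ((closure_le _).2 ?_))
  rintro f (rfl | rfl)
  · exact ⟨_, ha₀', rfl⟩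
  · exact ⟨⟨γ₀, hγ₀⟩ * ⟨a₀, ha₀⟩ * ⟨γ₀, hγ₀⟩⁻¹,
      (inferInstance : (N ⊔ I).Normal).conj_mem _ ha₀' _, rfl⟩

/-! ### Ranks -/

theorem card_elem {A : Subgroup Ω} (hAS : A ≤ S) (hA : Elem p A) : Nat.card A ≤ p ^ 3 := by
  haveI := finite_of_le hAS
  have := card_elem_le (sectional_of_le hAS h.rank) (A := (⊤ : Subgroup A))
    ⟨fun a _ b _ => Subtype.ext (hA.1 a a.2 b b.2), fun a _ => Subtype.ext (hA.2 a a.2)⟩
  rwa [card_top] at this

theorem card_section {N A : Subgroup Ω} (hNA : N ≤ A) (hAS : A ≤ S)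
    (hn : ∀ a ∈ A, ∀ x ∈ N, a * x * a⁻¹ ∈ N) (hcomm : ∀ a ∈ A, ∀ b ∈ A, ⁅a, b⁆ ∈ N)
    (hexp : ∀ a ∈ A, a ^ p ∈ N) : Nat.card A ≤ p ^ 3 * Nat.card N := by
  haveI := finite_of_le hAS
  have := card_section_le (sectional_of_le hAS h.rank) (le_top : N.subgroupOf A ≤ ⊤)
    (fun a _ x hx => hn a a.2 x hx) (fun a _ b _ => hcomm a a.2 b b.2) (fun a _ => hexp a a.2)
  rwa [card_top, Nat.card_congr (subgroupOfEquivOfLe hNA).toEquiv] at this

theorem wide_section {N A M : Subgroup Ω} (hNA : N ≤ A) (hAM : A ≤ M) (hMS : M ≤ S)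
    (hn : ∀ m ∈ M, ∀ x ∈ N, m * x * m⁻¹ ∈ N) (hA : Nat.card A = p ^ 2 * Nat.card N)
    (hAc : ∀ a ∈ A, ∀ m ∈ M, ⁅a, m⁆ ∈ N) (hcomm : ∀ x ∈ M, ∀ y ∈ M, ⁅x, y⁆ ∈ A)
    (hexp : ∀ x ∈ M, x ^ p ∈ N) :
    Nat.card M ≤ p ^ 4 * Nat.card N ∧
      ∃ c ∈ M, ∀ x ∈ M, ∀ y ∈ M, ∃ n : ℤ, (c ^ n)⁻¹ * ⁅x, y⁆ ∈ N := by
  haveI := finite_of_le hMS
  haveI hN : (N.subgroupOf M).Normal := ⟨fun x hx g => hn g g.2 _ hx⟩
  set q := QuotientGroup.mk' (N.subgroupOf M)
  have hq := QuotientGroup.mk'_surjective (N.subgroupOf M)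
  have hNM : Nat.card (N.subgroupOf M) = Nat.card N :=
    Nat.card_congr (subgroupOfEquivOfLe (hNA.trans hAM)).toEquiv
  haveI := finite_of_le (hNA.trans (hAM.trans hMS))
  have hA' : Nat.card ((A.subgroupOf M).map q) = p ^ 2 := by
    have e1 : Nat.card (A.subgroupOf M) = Nat.card A :=
      Nat.card_congr (subgroupOfEquivOfLe hAM).toEquiv
    set r := q.comp (A.subgroupOf M).subtype
    have h1 := r.ker.card_mul_index
    rw [index_ker, MonoidHom.range_comp, range_subtype] at h1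
    have hk : Nat.card r.ker = Nat.card N := by
      rw [← hNM, ← Nat.card_congr (subgroupOfEquivOfLe (show N.subgroupOf M ≤ A.subgroupOf M from
        fun x hx => hNA hx)).toEquiv]
      congr 2
      rw [← MonoidHom.comap_ker, QuotientGroup.ker_mk']
      rfl
    rw [hk, e1, hA, mul_comm (p ^ 2)] at h1
    exact Nat.eq_of_mul_eq_mul_left Nat.card_pos h1
  obtain ⟨hle, c, hc⟩ := wide (Q := M ⧸ N.subgroupOf M) ((h.pS.to_le hMS).to_quotient _)
    (sectional_quotient (sectional_of_le hMS h.rank) _)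
    (fun x => by
      obtain ⟨x, rfl⟩ := hq x
      rw [← map_pow]; exact (QuotientGroup.eq_one_iff _).2 (hexp x x.2))
    hA' (by
      rintro _ ⟨a, ha, rfl⟩ x
      obtain ⟨x, rfl⟩ := hq x
      rw [← commutatorElement_eq_one_iff_mul_comm, ← map_commutatorElement]
      exact (QuotientGroup.eq_one_iff _).2 (hAc a ha x x.2))
    (fun x y => by
      obtain ⟨x, rfl⟩ := hq x
      obtain ⟨y, rfl⟩ := hq y
      rw [← map_commutatorElement]
      exact mem_map_of_mem q (show ⁅x, y⁆ ∈ A.subgroupOf M from hcomm x x.2 y y.2))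
  refine ⟨?_, ?_⟩
  · rw [card_eq_card_quotient_mul_card_subgroup (N.subgroupOf M), hNM]
    exact Nat.mul_le_mul_right _ hle
  obtain ⟨c, rfl⟩ := hq c
  refine ⟨c, c.2, fun x hx y hy => ?_⟩
  obtain ⟨n, hn'⟩ := hc (q ⟨x, hx⟩) (q ⟨y, hy⟩)
  refine ⟨n, ?_⟩
  change q c ^ n = ⁅q ⟨x, hx⟩, q ⟨y, hy⟩⁆ at hn'
  rw [← map_commutatorElement, ← map_zpow] at hn'
  exact mem_subgroupOf.1 (QuotientGroup.eq.1 hn')

/-! ### The subgroup `vOf` -/

theorem zOne_le_vOf (hE : Ess S K₁ K₂ E) : zOne p S ≤ vOf p S D E := le_orb (h.zOne_le_ess hE)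

omit h in
theorem vOf_le : vOf p S D E ≤ E := orb_le

omit h in
theorem inv_vOf : Inv D E (vOf p S D E) := inv_orb

theorem nor_vOf (hE : Ess S K₁ K₂ E) : Nor S (vOf p S D E) := h.nor_of_inv hE orb_le inv_orb

theorem vOf_central (hE : Ess S K₁ K₂ E) {v : Ω} (hv : v ∈ vOf p S D E) :
    (∀ y ∈ E, v * y = y * v) ∧ v ^ p = 1 := by
  induction hv using Subgroup.closure_induction with
  | mem w hw =>
    obtain ⟨α, hα, x, hx, hxZ, rfl⟩ := hw
    refine ⟨fun y hy => ?_, by rw [← apl_map_pow α hx, hxZ.2.2, apl_map_one]⟩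
    have h1 := congrArg (apl α) (hxZ.2.1 _ (hE.1.1 (apl_mem α⁻¹ hy)))
    rwa [apl_map_mul α hx (apl_mem α⁻¹ hy), apl_map_mul α (apl_mem α⁻¹ hy) hx,
      apl_apl_inv α hy] at h1
  | one => exact ⟨fun y _ => by rw [one_mul, mul_one], one_pow p⟩
  | mul a b ha hb iha ihb =>
    refine ⟨fun y hy => ?_, ?_⟩
    · rw [mul_assoc, ihb.1 y hy, ← mul_assoc, iha.1 y hy, mul_assoc]
    · rw [(show Commute a b from iha.1 b (orb_le hb)).mul_pow, iha.2, ihb.2, one_mul]
  | inv a _ iha =>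
    exact ⟨fun y hy => (show Commute a y from iha.1 y hy).inv_left.eq,
      by rw [inv_pow, iha.2, inv_one]⟩

theorem vOf_elem (hE : Ess S K₁ K₂ E) : Elem p (vOf p S D E) :=
  ⟨fun _ ha b hb => (h.vOf_central hE ha).1 b (orb_le hb), fun _ ha => (h.vOf_central hE ha).2⟩

/-- If the socle of the centre moves, the essential subgroup is a centraliser. -/
theorem mem_iff_comm (hE : Ess S K₁ K₂ E) (hne : vOf p S D E ≠ zOne p S) {x : Ω} (hx : x ∈ S) :
    x ∈ E ↔ ∀ v ∈ vOf p S D E, x * v = v * x := by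
  refine ⟨fun hxE v hv => ((h.vOf_central hE hv).1 x hxE).symm, fun hc => ?_⟩
  by_contra hxE
  refine hne (le_antisymm (fun v hv => ?_) (h.zOne_le_vOf hE))
  refine ⟨hE.1.1 (orb_le hv), fun y hy => ?_, (h.vOf_central hE hv).2⟩
  obtain ⟨e, he, n, rfl⟩ := h.exists_mul hE hx hxE y hy
  exact ((show Commute v e from (h.vOf_central hE hv).1 e he).mul_right
    ((show Commute v x from (hc v hv).symm).pow_right n)).eq

/-- Two essential subgroups meet in index `p`. -/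
theorem inter_index {E₁ E₂ : Subgroup Ω} (h1 : Ess S K₁ K₂ E₁) (h2 : Ess S K₁ K₂ E₂)
    (hne : ¬ E₂ ≤ E₁) : (E₁.subgroupOf E₂).index = p := by
  haveI := finite_of_le h1.1.1
  haveI := finite_of_le h2.1.1
  haveI := (h.nor_ess h1).subgroupOf (le_refl S)
  have hi : (E₁.subgroupOf S).index = p := by
    have e := (E₁.subgroupOf S).card_mul_index
    rw [h.card_eq h1, Nat.card_congr (subgroupOfEquivOfLe h1.1.1).toEquiv, mul_comm p] at e
    exact Nat.eq_of_mul_eq_mul_left Nat.card_pos e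
  have hd : (E₁.subgroupOf S).relIndex (E₂.subgroupOf S) ∣ p := hi ▸ relIndex_dvd_index_of_normal _ _
  rw [relIndex_subgroupOf h2.1.1] at hd
  rcases (Nat.dvd_prime hp.out).1 hd with e | e
  · exact absurd (relIndex_eq_one.1 e) hne
  · exact e

/-- A nontrivial normal subgroup contains a central socle of prime order. -/
theorem zOne_le_of_nor (hz : Nat.card (zOne p S) = p) {Q : Subgroup Ω} (hQS : Q ≤ S) (hQ : Nor S Q)
    (hne : Q ≠ ⊥) : zOne p S ≤ Q := by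
  haveI := finite_of_le (zOne_le (p := p) (S := S))
  rcases (Nat.dvd_prime hp.out).1 (hz ▸ card_dvd_of_le (inf_le_right : Q ⊓ zOne p S ≤ zOne p S))
    with e | e
  · exact absurd (card_eq_one.1 e) (inf_zOne_ne_bot h.pS hQS hQ hne)
  · exact inf_eq_right.1 (eq_of_le_of_card_ge inf_le_right (hz.trans e.symm).le)

end Setting

end Cfsg.Agent.FusRankThreeChar
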