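import Cfsg.Agent.FusRankThreeChar.Red

/-!
A moved socle of the centre lying outside some essential subgroup.
-/

set_option autoImplicit false
set_option linter.style.haveILetI false
set_option linter.unusedSectionVars false

namespace Cfsg.Agent.FusRankThreeChar

open Cfsg Cfsg.FusionSystem Cfsg.Agent.FusSys Subgroup
open Cfsg.Agent.RankThreeEss (Elem)
open Cfsg.Agent.FusRankThreeNormal (Nor zOne mem_zOne zOne_le nor_zOne inf_zOne_ne_bot apl_map_mul
  apl_map_one apl_map_inv apl_map_pow apl_map_comm apl_injective commSub mem_commSub commSub_le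
  comm_induction comm_step pow_mem_of_gens pow_apply_fix card_elem_le sectional_of_le exists_coord
  isPGroup_of_stab Neg exists_neg image_sylow sup_zpowers_eq central_of_two mem_bottom
  pow_eq_one_of_mem exists_mul_zpow exists_mul_npow exponent_p_of_gens three_le)
open scoped commutatorElement

universe u

variable {Ω : Type u} [Group Ω] {S K₁ K₂ : Subgroup Ω} {p : ℕ}
variable {D : (X : Subgroup Ω) → Subgroup (MulAut X)}
variable [Finite S] [hp : Fact p.Prime]

set_option maxHeartbeats 1600000 in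
/-- The first case. -/
theorem Red.case_one (h : Red p S D K₁ K₂) {E₁ E₂ : Subgroup Ω} (h1 : Ess S K₁ K₂ E₁)
    (h2 : Ess S K₁ K₂ E₂) (hmove : vOf p S D E₁ ≠ zOne p S) (hnot : ¬ vOf p S D E₁ ≤ E₂) :
    Goal p S K₁ K₂ := by
  classical
  have h1S := h1.1.1
  have h2S := h2.1.1
  haveI := finite_of_le h1S
  haveI := finite_of_le h2S
  obtain ⟨x, hxV, hxE₂⟩ := SetLike.not_le_iff_exists.1 hnot
  have hx1 : x ∈ E₁ := vOf_le hxV
  have hxS : x ∈ S := h1S hx1
  have hxp : x ^ p = 1 := (h.vOf_central h1 hxV).2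
  have hxc : ∀ y ∈ E₁, x * y = y * x := (h.vOf_central h1 hxV).1
  have hne21 : ¬ E₂ ≤ E₁ := fun hle => hxE₂ (by
    have e := eq_of_le_of_card_ge hle (Nat.eq_of_mul_eq_mul_left hp.out.pos
      ((h.card_eq h1).symm.trans (h.card_eq h2))).le
    rw [e]; exact hx1)
  -- the pair
  obtain ⟨a, ha, γ, hγ, hax, hnp⟩ := h.nonpgroup h2 hxS hxE₂
  set T : Subgroup E₂ := E₁.subgroupOf E₂ with hT
  have hTi : T.index = p := h.inter_index h1 h2 hne21
  haveI hTn : T.Normal := (h.nor_ess h1).subgroupOf h2S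
  have haval : ∀ y : E₂, ((a y : E₂) : Ω) = x * y * x⁻¹ := fun y =>
    (apl_coe a y).symm.trans (hax y y.2)
  have haT : ∀ y ∈ T, a y = y := fun y hy => Subtype.ext (by
    rw [haval, hxc _ (mem_subgroupOf.1 hy), mul_inv_cancel_right])
  have hamod : ∀ g, g⁻¹ * a g ∈ T := fun g => by
    show (g : Ω)⁻¹ * (a g : E₂) ∈ E₁
    rw [haval, show (g : Ω)⁻¹ * (x * g * x⁻¹) = ⁅(g : Ω)⁻¹, x⁆ by
      rw [commutatorElement_def]; group]
    exact h.comm_mem_ess h1 (S.inv_mem (h2S g.2)) hxS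
  set b := γ * a * γ⁻¹ with hb
  set T' := T.map γ.toMonoidHom with hT'
  haveI hT'n : T'.Normal := hTn.map _ γ.surjective
  have hT'i : T'.index = p := (index_map_equiv T γ).trans hTi
  have hbT : ∀ y ∈ T', b y = y := by
    rintro _ ⟨w, hw, rfl⟩
    show (γ * a * γ⁻¹) (γ w) = γ w
    rw [MulAut.mul_apply, MulAut.mul_apply, aut_inv_app, haT w hw]
  have hbmod : ∀ g, g⁻¹ * b g ∈ T' := fun g => ⟨(γ⁻¹ g)⁻¹ * a (γ⁻¹ g), hamod _, by
    show γ ((γ⁻¹ g)⁻¹ * a (γ⁻¹ g)) = _
    rw [map_mul, map_inv, aut_app_inv]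
    rfl⟩
  have hPp : IsPGroup p E₂ := h.pS.to_le h2S
  obtain ⟨hTT, ⟨w, hw⟩, t, -, N⟩ := exists_neg hPp h.odd hTi hT'i haT hbT hamod hbmod hnp
  set C0 := T ⊓ T' with hC0
  have hpowC : ∀ g : E₂, g ^ p ∈ C0 := fun g => by
    refine ⟨?_, ?_⟩
    · have := pow_index_mem T g; rwa [hTi] at this
    · have := pow_index_mem T' g; rwa [hT'i] at this
  have hrel : C0.relIndex T = p := by
    have hd : T'.relIndex T ∣ p := hT'i ▸ relIndex_dvd_index_of_normal _ _
    rw [hC0, inf_relIndex_left]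
    rcases (Nat.dvd_prime hp.out).1 hd with e | e
    · exact absurd (eq_of_le_of_card_ge (relIndex_eq_one.1 e) (by
        rw [hT', card_map_of_injective (f := γ.toMonoidHom) γ.injective])) hTT
    · exact e
  obtain ⟨u, huT, huC⟩ : ∃ u ∈ T, u ∉ C0 := by
    by_contra! hall
    rw [relIndex_eq_one.2 hall] at hrel
    exact hp.out.one_lt.ne hrel
  obtain ⟨n, -, hnp1, hnu, hncom⟩ := N.exists_rep hPp h.odd hpowC u
  obtain ⟨e, -, hep1, hew, hecom⟩ := N.exists_rep hPp h.odd hpowC w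
  have hnT : n ∈ T := by
    have := T.mul_mem huT hnu.1
    rwa [mul_inv_cancel_left] at this
  have hnC : n ∉ C0 := fun hn => huC (by
    have := C0.mul_mem hn (C0.inv_mem hnu)
    rwa [mul_inv_rev, inv_inv, mul_inv_cancel_left] at this)
  -- `a` moves `e` outside `C0`
  set d := a e * e⁻¹ with hd
  have hdC : d ∉ C0 := fun hdc => hw (by
    have hc0 : w⁻¹ * e ∈ C0 := hew
    have e1 : w⁻¹ * a w = (w⁻¹ * e) * (e⁻¹ * d * e⁻¹⁻¹) * (w⁻¹ * e)⁻¹ := by
      have e2 : a w = a e * (w⁻¹ * e)⁻¹ := by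
        conv_lhs => rw [show w = e * (w⁻¹ * e)⁻¹ by group, map_mul, map_inv, haT _ hc0.1]
      rw [e2, hd]
      group
    rw [e1]
    exact C0.mul_mem (C0.mul_mem hc0 ((inferInstance : C0.Normal).conj_mem _ hdc _))
      (C0.inv_mem hc0))
  have heT : e ∉ T := fun he => hdC (by rw [hd, haT e he, mul_inv_cancel]; exact one_mem _)
  have hTgen : C0 ⊔ zpowers n = T := sup_zpowers_eq inf_le_left hrel hnT hnC
  have hPgen : T ⊔ zpowers e = ⊤ :=
    sup_zpowers_eq le_top (by rw [relIndex_top_right, hTi]) (mem_top e) heT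
  -- `C0` is `⟨k⟩` times the commutator of `n` and `e`, and central
  set z' := ⁅n, e⁆ with hz'
  have hcomC : ∀ g k : E₂, ⁅g, k⁆ ∈ C0 := by
    have key : ∀ (M : Subgroup E₂) [M.Normal], M.index = p → ∀ g k : E₂, ⁅g, k⁆ ∈ M := by
      intro M _ hM g k
      haveI : IsCyclic (E₂ ⧸ M) := isCyclic_of_prime_card (p := p) (by rw [← index_eq_card, hM])
      letI := IsCyclic.commGroup (α := E₂ ⧸ M)
      rw [← QuotientGroup.eq_one_iff, ← QuotientGroup.mk'_apply, map_commutatorElement,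
        commutatorElement_eq_one_iff_mul_comm]
      exact mul_comm _ _
    exact fun g k => ⟨key T hTi g k, key T' hT'i g k⟩
  have hz'C : z' ∈ C0 := hcomC n e
  obtain ⟨hCcomm, c0, hc0C, hCcl⟩ := central_of_two hPp (sectional_of_le h2S h.rank) hTgen hPgen
    hnp1 hep1 hncom hecom hz'C (by
      have hPc := T.card_mul_index
      have hTc : Nat.card C0 * C0.relIndex T = Nat.card T := by
        rw [← Nat.card_congr (subgroupOfEquivOfLe (inf_le_left : C0 ≤ T)).toEquiv]
        exact card_mul_index _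
      rw [hTi, ← hTc, hrel] at hPc
      exact hPc.symm)
  have hz'c : ∀ g : E₂, g * z' = z' * g := hCcomm z' hz'C
  -- back in the ambient group
  set C : Subgroup Ω := C0.map E₂.subtype with hC
  have hCS : ∀ c ∈ C, c ∈ S ∧ ∀ s ∈ S, c * s = s * c := by
    rintro _ ⟨c, hc, rfl⟩
    refine ⟨h2S c.2, fun s hs => ?_⟩
    obtain ⟨g, hg, j, rfl⟩ := h.exists_mul h2 hxS hxE₂ s hs
    have h5 : Commute (c : Ω) x := (hxc _ (mem_subgroupOf.1 hc.1)).symm
    have h6 : Commute (c : Ω) g := (congrArg Subtype.val (hCcomm c hc ⟨g, hg⟩)).symm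
    exact (h6.mul_right (h5.pow_right j)).eq
  set z : Ω := ⁅x, (e : Ω)⁆ with hz
  have hzd : z = (d : Ω) := by
    rw [hz, hd, commutatorElement_def, Subgroup.coe_mul, Subgroup.coe_inv, haval]
  have hzV : z ∈ vOf p S D E₁ := ((h.nor_vOf h1).comm_mem hxV (h2S e.2)).1
  have hzp : z ^ p = 1 := (h.vOf_central h1 hzV).2
  have hzc : ∀ y ∈ E₁, z * y = y * z := (h.vOf_central h1 hzV).1
  have hdT : d ∈ T := by
    show (d : Ω) ∈ E₁
    rw [← hzd]; exact vOf_le hzV
  have hzC : z ∉ C := by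
    rintro ⟨y, hy, hyz⟩
    rw [hzd] at hyz
    exact hdC (Subtype.ext hyz ▸ hy)
  set TT : Subgroup Ω := C ⊔ zpowers z with hTT'
  have hTmap : T.map E₂.subtype = TT := by
    have hTd : C0 ⊔ zpowers d = T := sup_zpowers_eq inf_le_left hrel hdT hdC
    rw [← hTd, Subgroup.map_sup, MonoidHom.map_zpowers, coe_subtype, ← hzd]
  have hTTmem : ∀ y, y ∈ E₁ → y ∈ E₂ → y ∈ TT := fun y hy1 hy2 =>
    hTmap ▸ ⟨⟨y, hy2⟩, hy1, rfl⟩
  have hTTE : TT ≤ E₁ ∧ TT ≤ E₂ := by
    rw [← hTmap]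
    exact ⟨by rintro _ ⟨y, hy, rfl⟩; exact hy, map_subtype_le _⟩
  set A : Subgroup Ω := TT ⊔ zpowers x with hA
  have hA1 : A = E₁ := by
    refine le_antisymm (sup_le hTTE.1 (zpowers_le.2 hx1)) fun s hs => ?_
    obtain ⟨g, hg, j, rfl⟩ := h.exists_mul h2 hxS hxE₂ s (h1S hs)
    have hg1 : g ∈ E₁ := by
      have := E₁.mul_mem hs (E₁.inv_mem (E₁.pow_mem hx1 j))
      rwa [mul_inv_cancel_right] at this
    exact mul_mem_sup (hTTmem g hg1 hg) (pow_mem (mem_zpowers x) j)
  have hE1comm : ∀ u ∈ E₁, ∀ v ∈ E₁, u * v = v * u := by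
    intro u hu v hv
    have hle : A ≤ centralizer ({v} : Set Ω) := sup_le (sup_le (fun c hc =>
      mem_centralizer_singleton_iff.2 ((hCS c hc).2 v (h1S hv)))
      (zpowers_le.2 (mem_centralizer_singleton_iff.2 (hzc v hv))))
      (zpowers_le.2 (mem_centralizer_singleton_iff.2 (hxc v hv)))
    exact mem_centralizer_singleton_iff.1 (hle (hA1 ▸ hu))
  -- orders
  haveI := finite_of_le (hTTE.2.trans h2S)
  have hCle : C ≤ S := fun c hc => (hCS c hc).1
  haveI := finite_of_le hCle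
  obtain ⟨m0, hm0⟩ := IsPGroup.iff_card.1 (h.pS.to_le hCle)
  have hC0card : Nat.card C0 = Nat.card C :=
    (card_map_of_injective E₂.subtype_injective).symm
  have hE2card : Nat.card E₂ = Nat.card C * p * p := by
    have hPc := T.card_mul_index
    have hTc : Nat.card C0 * C0.relIndex T = Nat.card T := by
      rw [← Nat.card_congr (subgroupOfEquivOfLe (inf_le_left : C0 ≤ T)).toEquiv]
      exact card_mul_index _
    rw [hTi, ← hTc, hrel, hC0card] at hPc
    exact hPc.symm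
  have hScard : Nat.card S = p ^ (m0 + 3) := by
    rw [h.card_eq h2, hE2card, hm0]; ring
  -- `C` is cyclic
  set z'' : Ω := (z' : Ω) with hz''
  have hz''C : z'' ∈ C := ⟨z', hz'C, rfl⟩
  have hz'p : z'' ^ p = 1 := by
    have e1 : z' ^ p = 1 := by
      have hcz : ∀ g : E₂, g * z' = z' * g := hz'c
      have e2 : ∀ j : ℕ, n ^ j * e * (n ^ j)⁻¹ = z' ^ j * e := fun j => by
        induction j with
        | zero => simp
        | succ j ih =>
          calc n ^ (j + 1) * e * (n ^ (j + 1))⁻¹ = n * (n ^ j * e * (n ^ j)⁻¹) * n⁻¹ := by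
                rw [pow_succ']; group
            _ = n * z' ^ j * (e * n⁻¹) := by rw [ih]; group
            _ = z' ^ j * (n * e * n⁻¹) := by
              rw [(show Commute n (z' ^ j) from (show Commute n z' from hcz n).pow_right j).eq]; group
            _ = z' ^ (j + 1) * e := by rw [pow_succ, hz', commutatorElement_def]; group
      have e3 := e2 p
      rw [hnp1, one_mul, inv_one, mul_one, eq_comm, mul_eq_right] at e3
      exact e3
    rw [hz'', ← SubgroupClass.coe_pow, e1]; rfl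
  obtain ⟨c, hcC, hcgen⟩ : ∃ c ∈ C, C = zpowers c := by
    by_cases h0 : z'' = 1
    · refine ⟨(c0 : Ω), ⟨c0, hc0C, rfl⟩, ?_⟩
      rw [hC, ← hCcl, MonoidHom.map_closure, Set.image_pair, coe_subtype, ← hz'', h0,
        closure_insert_one, ← zpowers_eq_closure]
    set cΩ : Ω := (c0 : Ω) with hcΩ
    have hcC : cΩ ∈ C := ⟨c0, hc0C, rfl⟩
    have hclo : C = zpowers z'' ⊔ zpowers cΩ := by
      rw [hC, ← hCcl, MonoidHom.map_closure, Set.image_pair, coe_subtype, ← hz'', ← hcΩ,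
        ← Set.union_singleton, Subgroup.closure_union, ← zpowers_eq_closure, ← zpowers_eq_closure,
        sup_comm]
    have hzE : z ∈ E₁ := vOf_le hzV
    obtain ⟨k, hk⟩ := IsPGroup.iff_orderOf.1 (h.pS.to_le hCle) ⟨cΩ, hcC⟩
    rw [Subgroup.orderOf_mk] at hk
    rcases Nat.eq_zero_or_pos k with rfl | hk0
    · refine ⟨z'', hz''C, ?_⟩
      rw [pow_zero, orderOf_eq_one_iff] at hk
      rw [hclo, hk, zpowers_one_eq_bot, sup_bot_eq]
    set y := cΩ ^ p ^ (k - 1) with hy
    have hyC : y ∈ C := C.pow_mem hcC _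
    have hyp : y ^ p = 1 := by
      rw [hy, ← pow_mul, ← pow_succ, show k - 1 + 1 = k by omega, ← hk, pow_orderOf_eq_one]
    have hy1 : y ≠ 1 := fun e1 => by
      have := orderOf_dvd_of_pow_eq_one e1
      rw [hk, Nat.pow_dvd_pow_iff_le_right hp.out.one_lt] at this
      omega
    refine ⟨cΩ, hcC, ?_⟩
    have hzy : z'' ∈ zpowers cΩ := by
      by_contra hno
      -- an elementary abelian subgroup of order `p⁴`
      set y' : E₁ := ⟨y, by
        have := hTTE.1 (mem_sup_left hyC)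
        exact this⟩
      have helem0 : Elem p (⊥ : Subgroup E₁) := RankThreeEss.elem_bot
      have hall : ∀ u v : E₁, u * v = v * u := fun u v => Subtype.ext (hE1comm u u.2 v v.2)
      obtain ⟨he1, hc1⟩ := helem0.extend (x := y') (Subtype.ext hyp) (fun _ _ => hall _ _)
        (fun hm => hy1 (congrArg Subtype.val (mem_bot.1 hm)))
      set zz : E₁ := ⟨z'', hTTE.1 (mem_sup_left hz''C)⟩
      obtain ⟨he2, hc2⟩ := he1.extend (x := zz) (Subtype.ext hz'p) (fun _ _ => hall _ _) (fun hm => by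
        rw [bot_sup_eq] at hm
        obtain ⟨i, hi⟩ := hm
        refine hno ?_
        rw [show z'' = y ^ i from (congrArg Subtype.val hi).symm, hy]
        exact zpow_mem (pow_mem (mem_zpowers _) _) i)
      set z1 : E₁ := ⟨z, hzE⟩
      obtain ⟨he3, hc3⟩ := he2.extend (x := z1) (Subtype.ext hzp) (fun _ _ => hall _ _) (fun hm => by
        refine hzC ?_
        have hle : ((⊥ : Subgroup E₁) ⊔ zpowers y' ⊔ zpowers zz) ≤ C.subgroupOf E₁ :=
          sup_le (sup_le bot_le (zpowers_le.2 hyC)) (zpowers_le.2 hz''C)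
        exact hle hm)
      set x1 : E₁ := ⟨x, hx1⟩
      obtain ⟨he4, hc4⟩ := he3.extend (x := x1) (Subtype.ext hxp) (fun _ _ => hall _ _) (fun hm => by
        refine hxE₂ (hTTE.2 ?_)
        have hle : ((⊥ : Subgroup E₁) ⊔ zpowers y' ⊔ zpowers zz ⊔ zpowers z1) ≤ TT.subgroupOf E₁ :=
          sup_le (sup_le (sup_le bot_le (zpowers_le.2 (mem_sup_left hyC)))
            (zpowers_le.2 (mem_sup_left hz''C))) (zpowers_le.2 (mem_sup_right (mem_zpowers z)))
        exact hle hm)
      have h5 := card_elem_le (sectional_of_le h1S h.rank) he4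
      rw [card_bot] at hc1
      have h6 : p ^ 4 ≤ p ^ 3 := by
        calc p ^ 4 = 1 * p * p * p * p := by ring
          _ ≤ _ := ((Nat.mul_le_mul_right _ ((Nat.mul_le_mul_right _ ((Nat.mul_le_mul_right _ hc1).trans
            hc2)).trans hc3)).trans hc4).trans h5
      exact absurd ((Nat.pow_le_pow_iff_right hp.out.one_lt).1 h6) (by norm_num)
    rw [hclo]
    exact le_antisymm (sup_le (zpowers_le.2 hzy) le_rfl) le_sup_right
  have hm : orderOf c = p ^ m0 := by rw [← Nat.card_zpowers, ← hcgen, hm0]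
  -- decomposition of `S`
  have heS : (e : Ω) ∈ S := h2S e.2
  have hSdec : ∀ s ∈ S, ∃ l i k r : ℕ, s = c ^ l * ((e : Ω) ^ i * z ^ k * x ^ r) := by
    intro s hs
    obtain ⟨g, hg, r, rfl⟩ := h.exists_mul h2 hxS hxE₂ s hs
    obtain ⟨y, hy, i, hyi⟩ := exists_mul_npow (A := T) (g := e)
      (by rw [normalizer_eq_top T]; exact mem_top _) (hPgen.symm ▸ mem_top (⟨g, hg⟩ : E₂))
    have hyTT : (y : Ω) ∈ TT := hTmap ▸ ⟨y, hy, rfl⟩
    haveI : Finite TT := finite_of_le (hTTE.2.trans h2S)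
    have hy' : e ^ i * (e ^ i)⁻¹ * y * (e ^ i) = y * e ^ i := by group
    set y1 := (e ^ i)⁻¹ * y * (e ^ i) with hy1d
    have hy1 : y1 ∈ T := by
      have := hTn.conj_mem y hy (e ^ i)⁻¹
      rwa [inv_inv] at this
    have hg' : g = ((e ^ i * y1 : E₂) : Ω) := by
      rw [show e ^ i * y1 = y * e ^ i by rw [hy1d]; group, hyi]
    have hy1T : (y1 : Ω) ∈ TT := hTmap ▸ ⟨y1, hy1, rfl⟩
    obtain ⟨cc', hcc', k, hk⟩ := exists_mul_zpow (A := C) (g := z)
      (mem_normalizer_iff.2 fun w => by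
        have hzS : z ∈ S := h1S (vOf_le hzV)
        refine ⟨fun hw => ?_, fun hw => ?_⟩
        · rw [← (hCS w hw).2 z hzS, mul_inv_cancel_right]; exact hw
        · have e1 := (hCS _ hw).2 z hzS
          have e2 : z * w * z⁻¹ = w := by
            have e3 : w * z = z * w := by
              calc w * z = z⁻¹ * ((z * w * z⁻¹) * z) * z := by group
                _ = z⁻¹ * (z * (z * w * z⁻¹)) * z := by rw [e1]
                _ = z * w := by group
            rw [← e3, mul_inv_cancel_right]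
          rwa [e2] at hw)
      hy1T
    obtain ⟨k', hk'⟩ : ∃ k' : ℕ, z ^ k' = z ^ k :=
      (isOfFinOrder_iff_pow_eq_one.2 ⟨p, hp.out.pos, hzp⟩).mem_powers_iff_mem_zpowers.2
        (zpow_mem (mem_zpowers z) k)
    obtain ⟨l, hl⟩ : ∃ l : ℕ, c ^ l = cc' := by
      have hfin : IsOfFinOrder c := isOfFinOrder_iff_pow_eq_one.2
        ⟨p ^ m0, pow_pos hp.out.pos _, hm ▸ pow_orderOf_eq_one c⟩
      exact hfin.mem_powers_iff_mem_zpowers.2 (hcgen ▸ hcc')
    refine ⟨l, i, k', r, ?_⟩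
    rw [hg', Subgroup.coe_mul, SubgroupClass.coe_pow, ← hk, ← hl, ← hk', ← mul_assoc,
      ← (hCS _ (C.pow_mem hcC l)).2 _ (S.pow_mem heS i)]
    group
  -- conjugation by `e`
  have hex : (e : Ω) * x * (e : Ω)⁻¹ = z⁻¹ * x := by
    rw [hz, commutatorElement_def]; group
  set w'' : Ω := ⁅(e : Ω), z⁆ with hw''
  have hw''C : w'' ∈ C := by
    refine ⟨⁅e, d⁆, hcomC e d, ?_⟩
    rw [hw'', hzd]; rfl
  have hw''p : ∃ j : ℕ, z'' ^ j = w'' ∧ (z'' ≠ 1 → w'' ≠ 1) := by
    obtain ⟨c1, hc1, j, hj⟩ := exists_mul_npow (A := C0) (g := n)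
      (by rw [normalizer_eq_top C0]; exact mem_top _) (hTgen.symm ▸ hdT)
    have e1 : ∀ i : ℕ, ⁅n ^ i, e⁆ = z' ^ i := fun i => by
      induction i with
      | zero => simp
      | succ i ih =>
        have e2 : ⁅n ^ (i + 1), e⁆ = n * ⁅n ^ i, e⁆ * n⁻¹ * ⁅n, e⁆ := by
          rw [pow_succ']; simp only [commutatorElement_def]; group
        rw [e2, ih, (show Commute n (z' ^ i) from (show Commute n z' from hz'c n).pow_right i).eq,
          mul_inv_cancel_right, pow_succ, hz']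
    have e3 : ⁅e, d⁆ = (z' ^ j)⁻¹ := by
      rw [← hj, ← e1 j, commutatorElement_inv]
      have hce : e * c1 = c1 * e := hCcomm c1 hc1 e
      calc ⁅e, c1 * n ^ j⁆ = (e * c1) * n ^ j * e⁻¹ * (n ^ j)⁻¹ * c1⁻¹ := by
            rw [commutatorElement_def]; group
        _ = c1 * ⁅e, n ^ j⁆ * c1⁻¹ := by rw [hce, commutatorElement_def]; group
        _ = ⁅e, n ^ j⁆ := by rw [← hCcomm c1 hc1, mul_inv_cancel_right]
    obtain ⟨j', hj'⟩ : ∃ j' : ℕ, z'' ^ j' = (z'' ^ j)⁻¹ :=
      (isOfFinOrder_iff_pow_eq_one.2 ⟨p, hp.out.pos, hz'p⟩).mem_powers_iff_mem_zpowers.2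
        (inv_mem (pow_mem (mem_zpowers z'') j))
    have e4 : w'' = (z'' ^ j)⁻¹ := by
      rw [hw'', hzd, hz'', ← SubgroupClass.coe_pow, ← Subgroup.coe_inv, ← e3]; rfl
    refine ⟨j', hj'.trans e4.symm, fun hne h0 => ?_⟩
    rw [e4, inv_eq_one] at h0
    have hdvd : p ∣ j := by
      by_contra hnd
      refine hne ?_
      obtain ⟨u, v, huv⟩ : IsCoprime (j : ℤ) (p : ℤ) := Int.isCoprime_iff_nat_coprime.2 (by
        simpa using ((Nat.Prime.coprime_iff_not_dvd hp.out).2 hnd).symm)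
      rw [← zpow_one z'', ← huv, zpow_add, mul_comm u, mul_comm v, zpow_mul, zpow_natCast, h0,
        one_zpow, zpow_mul, zpow_natCast, hz'p, one_zpow, one_mul]
    obtain ⟨q, hq⟩ := hdvd
    refine hdC ?_
    rw [← hj, hq, pow_mul, hnp1, one_pow, mul_one]; exact hc1
  -- the second factor has `p`-th powers in `⟨z''⟩`
  have hpowmod : ∀ i k r : ℕ, ((e : Ω) ^ i * z ^ k * x ^ r) ^ p ∈ zpowers z'' := by
    haveI hNn : ((zpowers z'').subgroupOf S).Normal := ⟨fun y hy g => by
      have h0 : (g : Ω) * y * (g : Ω)⁻¹ = y := by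
        rw [← (hCS _ ((zpowers_le.2 hz''C) (show (y : Ω) ∈ zpowers z'' from hy))).2 g g.2, mul_inv_cancel_right]
      show (g : Ω) * y * (g : Ω)⁻¹ ∈ zpowers z''
      rw [h0]; exact hy⟩
    set q := QuotientGroup.mk' ((zpowers z'').subgroupOf S)
    set qe := q ⟨e, heS⟩
    set qz := q ⟨z, h1S (vOf_le hzV)⟩
    set qx := q ⟨x, hxS⟩
    set H := closure ({qe, qz, qx} : Set _) with hH
    have hq1 : ∀ u : S, q u = 1 ↔ (u : Ω) ∈ zpowers z'' := fun u => QuotientGroup.eq_one_iff u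
    have hzx : qz * qx = qx * qz := by
      rw [← map_mul, ← map_mul]; exact congrArg q (Subtype.ext (hzc x hx1))
    have hze : qe * qz = qz * qe := by
      rw [← commutatorElement_eq_one_iff_mul_comm, ← map_commutatorElement, hq1]
      obtain ⟨j, hj, -⟩ := hw''p
      show w'' ∈ _
      rw [← hj]; exact pow_mem (mem_zpowers _) j
    have hxe : ⁅qx, qe⁆ = qz := by rw [← map_commutatorElement]; rfl
    have hzcen : ∀ g ∈ H, qz * g = g * qz := fun g hg =>
      (mem_centralizer_singleton_iff.1 (((closure_le _).2 (by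
        rintro w (rfl | rfl | rfl) <;> rw [SetLike.mem_coe, mem_centralizer_singleton_iff]
        exacts [hze, hzx.symm]) : H ≤ centralizer ({qz} : Set _)) hg)).symm
    have gmem : ∀ w ∈ ({qe, qz, qx} : Set _), w ∈ H := fun w hw => Subgroup.subset_closure hw
    set g1 : H := ⟨qe, gmem _ (Or.inl rfl)⟩
    set g2 : H := ⟨qz, gmem _ (Or.inr (Or.inl rfl))⟩
    set g3 : H := ⟨qx, gmem _ (Or.inr (Or.inr rfl))⟩
    have hcl : closure ({g1, g2, g3} : Set H) = ⊤ := by
      refine map_injective H.subtype_injective ?_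
      rw [MonoidHom.map_closure, ← MonoidHom.range_eq_map, range_subtype]
      simp only [Set.image_insert_eq, Set.image_singleton, coe_subtype]
      exact hH.symm
    have hcc : RankThreeEss.CommCentral H := by
      refine RankThreeEss.commCentral_of_gens hcl ?_
      have c2 : ∀ g : H, g2 * g = g * g2 := fun g => Subtype.ext (hzcen g g.2)
      rintro u (rfl | rfl | rfl) v (rfl | rfl | rfl) g
      all_goals first
        | (rw [commutatorElement_self, one_mul, mul_one])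
        | (rw [commutatorElement_eq_one_iff_mul_comm.2 (c2 _).symm, one_mul, mul_one])
        | (rw [commutatorElement_eq_one_iff_mul_comm.2 (c2 _), one_mul, mul_one])
        | (rw [show ⁅g3, g1⁆ = g2 from Subtype.ext hxe]; exact c2 g)
        | (rw [← commutatorElement_inv g3 g1, show ⁅g3, g1⁆ = g2 from Subtype.ext hxe]
           exact ((show Commute g2 g from c2 g).inv_left).eq)
    have hexp : ∀ g : H, g ^ p = 1 := fun g =>
      exponent_p_of_gens h.odd (s := ({g1, g2, g3} : Set H)) (H := ⊤) hcl (by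
        rintro w (rfl | rfl | rfl) <;>
          refine Subtype.ext ?_ <;> show q _ ^ p = 1 <;> rw [← map_pow, hq1]
        · show (e : Ω) ^ p ∈ _
          rw [← SubgroupClass.coe_pow, hep1]; exact one_mem _
        · show z ^ p ∈ _
          rw [hzp]; exact one_mem _
        · show x ^ p ∈ _
          rw [hxp]; exact one_mem _)
        (fun u _ v _ w _ => hcc u v w) g (mem_top g)
    intro i k r
    have := congrArg Subtype.val (hexp (g1 ^ i * g2 ^ k * g3 ^ r))
    simp only [SubgroupClass.coe_pow, Subgroup.coe_mul, OneMemClass.coe_one] at this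
    change (qe ^ i * qz ^ k * qx ^ r) ^ p = 1 at this
    rw [← map_pow, ← map_pow, ← map_pow, ← map_mul, ← map_mul, ← map_pow, hq1] at this
    exact this
  rcases Nat.lt_or_ge m0 1 with hm0' | hm0'
  · -- order `p³`
    obtain rfl : m0 = 0 := by omega
    have hCbot : C = ⊥ := card_eq_one.1 (by rw [hm0, pow_zero])
    have hz''1 : z'' = 1 := mem_bot.1 (hCbot ▸ hz''C)
    have hc1 : c = 1 := mem_bot.1 (hCbot ▸ hcC)
    have hzcS : ∀ s ∈ S, z * s = s * z := by
      intro s hs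
      obtain ⟨l, i, k, r, rfl⟩ := hSdec s hs
      have hze : Commute z (e : Ω) :=
        (commutatorElement_eq_one_iff_mul_comm.1 (mem_bot.1 (hCbot ▸ hw''C))).symm
      rw [hc1, one_pow, one_mul]
      exact (((hze.pow_right i).mul_right ((Commute.refl z).pow_right k)).mul_right
        ((show Commute z x from hzc x hx1).pow_right r)).eq
    refine Or.inl fun y hy s hs => ?_
    have hE12 : E₁ ≠ E₂ := fun e => hxE₂ (e ▸ hx1)
    rw [← inf_eq h1 h2 hE12] at hy
    have hyT := hTTmem y hy.1 hy.2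
    rw [hTT', hCbot, bot_sup_eq] at hyT
    obtain ⟨i, rfl⟩ := hyT
    exact ((show Commute z s from hzcS s hs).zpow_left i).eq
  rcases Nat.lt_or_ge m0 2 with hm0'' | hm0''
  · obtain rfl : m0 = 1 := by omega
    exact Or.inr hScard
  · -- exponent at least `p²`
    exfalso
    set R := zpowers (c ^ p ^ (m0 - 1)) with hR
    have hzR : z'' ∈ R := mem_bottom hm (hcgen ▸ hz''C) hz'p
    have hpowS : ∀ s ∈ S, s ^ p ^ (m0 - 1) ∈ R := by
      intro s hs
      obtain ⟨l, i, k, r, rfl⟩ := hSdec s hs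
      rw [(show Commute (c ^ l) _ from (hCS _ (C.pow_mem hcC l)).2 _
        (S.mul_mem (S.mul_mem (S.pow_mem heS i) (S.pow_mem (h1S (vOf_le hzV)) k))
          (S.pow_mem hxS r))).mul_pow]
      refine R.mul_mem ?_ ?_
      · rw [← pow_mul, mul_comm, pow_mul]; exact pow_mem (mem_zpowers _) l
      · rw [show m0 - 1 = (m0 - 2) + 1 by omega, pow_succ', pow_mul]
        exact R.pow_mem ((zpowers_le.2 hzR) (hpowmod i k r)) _
    have hinv : ∀ B : Subgroup Ω, B ≤ S → c ∈ B → Inv D B R := by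
      intro B hBS hcB α hα y _ hyR
      obtain ⟨i, rfl⟩ := hyR
      have hfin : IsOfFinOrder (c ^ p ^ (m0 - 1)) :=
        (isOfFinOrder_iff_pow_eq_one.2 ⟨p ^ m0, pow_pos hp.out.pos _, hm ▸ pow_orderOf_eq_one c⟩).pow
      obtain ⟨i', hi'⟩ := hfin.mem_powers_iff_mem_zpowers.2 (zpow_mem (mem_zpowers _) i)
      change (c ^ p ^ (m0 - 1)) ^ i' = (c ^ p ^ (m0 - 1)) ^ i at hi'
      show apl α ((c ^ p ^ (m0 - 1)) ^ i) ∈ R
      rw [← hi', ← pow_mul, mul_comm, pow_mul, apl_map_pow α (B.pow_mem hcB i')]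
      exact hpowS _ (hBS (apl_mem α (B.pow_mem hcB i')))
    have hcS := (hCS c hcC).1
    have hRZ : R ≤ zOne p S := by
      refine zpowers_le.2 ⟨S.pow_mem hcS _, fun y hy => ?_, ?_⟩
      · exact ((show Commute c y from (hCS c hcC).2 y hy).pow_left _).eq
      · rw [← pow_mul, ← pow_succ, show m0 - 1 + 1 = m0 by omega, ← hm, pow_orderOf_eq_one]
    have hbot := h.red R hRZ (hinv S le_rfl hcS)
      fun B hB => hinv B hB.1.1 (h.cen_le_ess hB hcS (hCS c hcC).2)
    rw [hR, zpowers_eq_bot] at hbot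
    have := orderOf_dvd_of_pow_eq_one hbot
    rw [hm, Nat.pow_dvd_pow_iff_le_right hp.out.one_lt] at this
    omega

end Cfsg.Agent.FusRankThreeChar
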