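import Cfsg.Agent.FusRankThreeChar.KillBase

/-!
An invariant elementary abelian subgroup of order `p ^ 3` containing a moved socle is impossible.
-/

set_option autoImplicit false
set_option linter.style.haveILetI false
set_option linter.unusedSectionVars false

namespace Cfsg.Agent.FusRankThreeChar

open Cfsg Cfsg.FusionSystem Cfsg.Agent.FusSys Subgroup
open Cfsg.Agent.RankThreeEss (Elem)
open Cfsg.Agent.FusRankThreeNormal (Nor zOne apl_map_mul apl_map_one apl_map_inv apl_map_pow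
  apl_map_comm comm_step comm_induction commSub mem_commSub commSub_le)
open scoped commutatorElement

universe u

variable {Ω : Type u} [Group Ω] {S E Q K₁ K₂ : Subgroup Ω} {p : ℕ}
variable {D : (X : Subgroup Ω) → Subgroup (MulAut X)}
variable [Finite S] [hp : Fact p.Prime]

set_option maxHeartbeats 3200000 in
/-- The case of order `p ^ 3`. -/
theorem Red.kill_three (h : Red p S D K₁ K₂) {Q : Subgroup Ω} (hel : Elem p Q)
    (hQ : ∀ B, Ess S K₁ K₂ B → Q ≤ B) (hQS : Inv D S Q)
    (hQi : ∀ B, Ess S K₁ K₂ B → Inv D B Q) {E : Subgroup Ω} (hE : Ess S K₁ K₂ E)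
    (hmove : vOf p S D E ≠ zOne p S) (hV : vOf p S D E ≤ Q) (hQc : Nat.card Q = p ^ 3) : False := by
  classical
  obtain ⟨B, hB, hBE⟩ := h.exists_other hE
  have hES := hE.1.1
  have hBS := hB.1.1
  have hp1 := hp.out.one_lt
  have hQle : Q ≤ S := (hQ E hE).trans hES
  haveI := finite_of_le hQle
  haveI := finite_of_le hES
  haveI := finite_of_le hBS
  have hQn : Nor S Q := h.nor_of_inv_top hQle hQS
  have hQc' : ∀ a ∈ Q, ∀ b ∈ Q, a * b = b * a := hel.1
  set I := K₁ ⊓ K₂ with hI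
  have hIE : I ≤ E := h.inter_le hE
  have hIB : I ≤ B := h.inter_le hB
  have hQI : Q ≤ I := le_inf (hQ _ h.left) (hQ _ h.right)
  have hIS : I ≤ S := hIE.trans hES
  haveI := finite_of_le hIS
  have hne : Q ≠ ⊥ := fun e => by
    rw [e, card_bot] at hQc
    exact (one_lt_pow₀ hp1 (by norm_num : 3 ≠ 0)).ne hQc
  obtain ⟨x, hxE, hxB⟩ := h.exists_not_mem hB hE hBE.symm
  have hxS : x ∈ S := hES hxE
  obtain ⟨m, hm, hmE⟩ := h.exists_not_mem hE hB hBE
  have hmS : m ∈ S := hBS hm
  -- an element centralising `Q` lies in both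
  have hin : ∀ F, Ess S K₁ K₂ F → ∀ y ∈ S, (∀ q ∈ Q, y * q = q * y) → y ∈ F := by
    intro F hF y hy hc
    by_contra hyF
    refine h.elem_series_false hF (hQ F hF) hel hQc (hQi F hF) hy hyF (N := ser2 Q F)
      (ser2_mono (hQ F hF)) rfl (n := 1) le_rfl (fun i hi => ?_) fun i hi w hw hwN => ?_
    · match i with
      | 0 => exact inv_bot
      | 1 => exact hQi F hF
      | k + 2 => exact inv_self
    · obtain rfl : i = 0 := by omega
      rw [hc w hwN, mul_inv_cancel_right, inv_mul_cancel]; exact one_mem _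
  have hnc : ∀ F, Ess S K₁ K₂ F → ¬ ∀ y ∈ F, ∀ q ∈ Q, y * q = q * y := by
    intro F hF hc
    obtain ⟨F', hF', hne'⟩ := h.exists_other hF
    obtain ⟨y, hy, hyF'⟩ := h.exists_not_mem hF' hF hne'.symm
    exact hyF' (hin F' hF' y (hF.1.1 hy) (hc y hy))
  -- the socle and the moved socle
  set V := vOf p S D E with hVdef
  have hzV : zOne p S ≤ V := h.zOne_le_vOf hE
  have hVc : ∀ v ∈ V, ∀ y ∈ E, v * y = y * v := fun v hv => (h.vOf_central hE hv).1
  have hzS : zOne p S ≤ S := fun z hz => hz.1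
  haveI := finite_of_le hzS
  have hVS : V ≤ S := hV.trans hQle
  haveI := finite_of_le hVS
  have hVQ : V ≠ Q := fun e => hnc E hE fun y hy q hq => (hVc q (e ▸ hq) y hy).symm
  have hVpos := h.card_lt_step hzV (Ne.symm hmove) hVS
  have hVlt := h.card_lt_step hV hVQ hQle
  have hz : Nat.card (zOne p S) = p ∧ Nat.card V = p ^ 2 := by
    obtain ⟨j, hj⟩ := IsPGroup.iff_card.1 (h.pS.to_le hzS)
    obtain ⟨k, hk⟩ := IsPGroup.iff_card.1 (h.pS.to_le hVS)
    have hj0 : j ≠ 0 := fun e => h.zOne_ne_bot (card_eq_one.1 (by rw [hj, e, pow_zero]))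
    rw [hj, hk, ← pow_succ'] at hVpos
    rw [hk, hQc, ← pow_succ'] at hVlt
    have := (Nat.pow_le_pow_iff_right hp1).1 hVpos
    have := (Nat.pow_le_pow_iff_right hp1).1 hVlt
    rw [hj, hk, show j = 1 by omega, show k = 2 by omega, pow_one]
    exact ⟨rfl, rfl⟩
  obtain ⟨hz, hVcard⟩ := hz
  have hVn : Nor S V := h.nor_vOf hE
  have hzn : Nor S (zOne p S) := Cfsg.Agent.FusRankThreeNormal.nor_zOne
  have hzQ : zOne p S ≤ Q := hzV.trans hV
  have hQV : ∀ q ∈ Q, ∀ s ∈ S, ⁅q, s⁆ ∈ V :=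
    comm_step h.pS hV hQle hVn hQn (by rw [hQc, hVcard]; ring)
  have hVm : V ≠ zOne p S := hmove
  have hzE : ¬ Inv D E (zOne p S) := fun hi =>
    hVm (le_antisymm (orb_le_of_inv hi le_rfl) hzV)
  -- the fixed points of `B` on `Q`
  set C₂ := (B ⊓ Subgroup.centralizer (B : Set Ω)) ⊓ Q with hC₂
  have hC₂i : Inv D B C₂ := (inv_self.centralizer le_rfl).inf (hQi B hB)
  have hmemC₂ : ∀ q ∈ Q, (∀ y ∈ B, y * q = q * y) → q ∈ C₂ := fun q hq hc =>
    ⟨⟨hQ B hB hq, mem_centralizer_iff.2 hc⟩, hq⟩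
  have hC₂Q : C₂ ≤ Q := inf_le_right
  have hC₂n : Nor S C₂ := h.nor_of_inv hB (hC₂Q.trans (hQ B hB)) hC₂i
  have hzC₂ : zOne p S ≤ C₂ := fun z hz' =>
    hmemC₂ z (hzQ hz') fun y hy => (hz'.2.1 y (hBS hy)).symm
  have hC₂z : C₂ = zOne p S := by
    by_contra hne₂
    have hC₂Qne : C₂ ≠ Q := fun e => hnc B hB fun y hy q hq => by
      rw [← e] at hq
      exact mem_centralizer_iff.1 hq.1.2 y hy
    have hc2 : Nat.card C₂ = p * Nat.card (zOne p S) := by
      haveI := finite_of_le (hC₂Q.trans hQle)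
      have a1 := h.card_lt_step hzC₂ (Ne.symm hne₂) (hC₂Q.trans hQle)
      have a2 := h.card_lt_step hC₂Q hC₂Qne hQle
      rw [hQc, show p ^ 3 = p * (p * p) by ring] at a2
      exact le_antisymm (by rw [hz]; exact Nat.le_of_mul_le_mul_left a2 hp.out.pos) a1
    have hC₂step := comm_step h.pS hzC₂ (hC₂Q.trans hQle) hzn hC₂n hc2
    have hnle : ¬ V ≤ C₂ := fun hle => hmE ((h.mem_iff_comm hE hmove hmS).2 fun v hv =>
      mem_centralizer_iff.1 (hle hv).1.2 m hm)
    have hsup : Q = V ⊔ C₂ := (h.eq_of_step le_sup_left (fun e => hnle (fun v hv => by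
        have h3 : C₂ ≤ V := e ▸ le_sup_right
        haveI := finite_of_le hVS
        rw [eq_of_le_of_card_ge h3 (by rw [hc2, hz, hVcard, pow_two])]
        exact hv)) (sup_le hV hC₂Q) hQle (by rw [hQc, hVcard]; ring)).symm
    set M := commSub Q E with hM
    have hMz : M ≤ zOne p S := commSub_le fun q hq y hy => by
      refine comm_induction (S := S) hzn (s := (V : Set Ω) ∪ C₂) ?_ ?_ q ?_
      · rintro w (hw | hw)
        exacts [hVS hw, (hC₂Q.trans hQle) hw]
      · rintro w (hw | hw)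
        · rw [commutatorElement_eq_one_iff_mul_comm.2 (hVc w hw y hy)]; exact one_mem _
        · exact hC₂step w hw y (hES hy)
      · rw [Subgroup.closure_union, closure_eq, closure_eq, ← hsup]; exact hq
    have hMi : Inv D E M := inv_commSub (hQ E hE) le_rfl (hQi E hE) inv_self
    have hMne : M ≠ ⊥ := fun e => hnc E hE fun y hy q hq =>
      (commutatorElement_eq_one_iff_mul_comm.1 (mem_bot.1 (e ▸ mem_commSub hq hy))).symm
    have hMeq : M = zOne p S := le_antisymm hMz (h.zOne_le_of_nor hz (hMz.trans hzS)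
      (h.nor_of_inv hE (hMz.trans (hzQ.trans (hQ E hE))) hMi) hMne)
    exact hzE (hMeq ▸ hMi)
  have hzB : Inv D B (zOne p S) := hC₂z ▸ hC₂i
  have hfixB : ∀ q ∈ Q, (∀ y ∈ B, y * q = q * y) → q ∈ zOne p S := fun q hq hc =>
    hC₂z ▸ hmemC₂ q hq hc
  -- a series of `Q` under `B`
  have hser : ∀ R : Subgroup Ω, zOne p S ≤ R → R ≤ Q → Inv D B R → (∀ r ∈ R, ⁅r, x⁆ ∈ zOne p S) →
      (∀ q ∈ Q, ⁅q, x⁆ ∈ R) → False := by
    intro R hzR hRQ hRi hR1 hR2
    refine h.elem_series_false hB (hQ B hB) hel hQc (hQi B hB) hxS hxB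
      (N := ser3 (zOne p S) R Q) (ser3_mono hzR hRQ) rfl (n := 3) le_rfl (fun i hi => ?_)
      fun i hi y hy hyN => ?_
    · match i with
      | 0 => exact inv_bot
      | 1 => exact hzB
      | 2 => exact hRi
      | k + 3 => exact hQi B hB
    · have e : y⁻¹ * (x * y * x⁻¹) = ⁅y⁻¹, x⁆ := by rw [commutatorElement_def]; group
      match i, hi with
      | 0, _ =>
        have hy' : y ∈ zOne p S := hyN
        rw [← hy'.2.1 x hxS, mul_inv_cancel_right, inv_mul_cancel]; exact one_mem _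
      | 1, _ => rw [e]; exact hR1 _ (R.inv_mem hyN)
      | 2, _ => rw [e]; exact hR2 _ (Q.inv_mem hyN)
  -- the commutators of `Q` and `B`
  have hQB : ∀ q ∈ Q, ∀ y ∈ B, ⁅q, y⁆ ∈ zOne p S := by
    have hzQne : zOne p S ≠ Q := fun e => hVQ (le_antisymm hV (e ▸ hzV))
    obtain ⟨R, hzR, hRQ, hRn, hRc⟩ := exists_step h.pS hzQ hzQne hQle hzn hQn
    have hR1 := comm_step h.pS hzR (hRQ.trans hQle) hzn hRn hRc
    have hR2 := comm_step h.pS hRQ hQle hRn hQn (by rw [hQc, hRc, hz]; ring)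
    have hcB : commSub Q B ≤ B := (commSub_le fun q hq y hy => hR2 q hq y (hBS hy)).trans
      (hRQ.trans (hQ B hB))
    set L := commSub Q B ⊔ zOne p S with hL
    have hLi : Inv D B L := (inv_commSub (hQ B hB) le_rfl (hQi B hB) inv_self).sup hzB hcB
      (hzQ.trans (hQ B hB))
    have hLz : zOne p S = L := by
      by_contra hne₂
      have e := h.eq_of_step (le_sup_right : zOne p S ≤ L) hne₂
        (sup_le (commSub_le fun q hq y hy => hR2 q hq y (hBS hy)) hzR) (hRQ.trans hQle) hRc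
      exact hser R hzR hRQ (e ▸ hLi) (fun r hr => hR1 r hr x hxS) fun q hq => hR2 q hq x hxS
    intro q hq y hy
    rw [hLz]
    exact mem_sup_left (mem_commSub hq hy)
  -- `Q` in the centraliser
  set C := Subgroup.centralizer (Q : Set Ω) ⊓ S with hC
  have hmemC : ∀ y ∈ C, ∀ q ∈ Q, y * q = q * y := fun y hy q hq =>
    (mem_centralizer_iff.1 hy.1 q hq).symm
  have hCI : C ≤ I := fun y hy =>
    ⟨hin _ h.left y hy.2 (hmemC y hy), hin _ h.right y hy.2 (hmemC y hy)⟩
  have hQC : Q ≤ C := fun q hq => ⟨mem_centralizer_iff.2 fun r hr => hQc' r hr q hq, hQle hq⟩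
  have hCS : C ≤ S := inf_le_right
  haveI := finite_of_le hCS
  have hCn : Nor S C := fun s hs y hy => by
    refine ⟨mem_centralizer_iff.2 fun q hq => ?_, S.mul_mem (S.mul_mem hs hy.2) (S.inv_mem hs)⟩
    have hq' : s⁻¹ * q * s ∈ Q := by
      have := hQn s⁻¹ (S.inv_mem hs) q hq
      rwa [inv_inv] at this
    have e := hmemC y hy _ hq'
    calc q * (s * y * s⁻¹) = s * (s⁻¹ * q * s * y) * s⁻¹ := by group
      _ = s * (y * (s⁻¹ * q * s)) * s⁻¹ := by rw [e]
      _ = s * y * s⁻¹ * q := by group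
  have hCne : C ≠ I := by
    intro e
    have hcomm : ∀ q ∈ Q, ⁅q, m⁆ = 1 → q ∈ zOne p S := fun q hq he => hfixB q hq fun y hy => by
      obtain ⟨g, hg, k, rfl⟩ := h.exists_mul hE hmS hmE y (hBS hy)
      have hgB : g ∈ B := by
        have := B.mul_mem hy (B.inv_mem (B.pow_mem hm k))
        rwa [mul_inv_cancel_right] at this
      have hgI : g ∈ I := by rw [hI, ← inf_eq hE hB hBE.symm]; exact ⟨hg, hgB⟩
      exact ((show Commute g q from hmemC g (e ▸ hgI) q hq).mul_left
        ((show Commute m q from (commutatorElement_eq_one_iff_mul_comm.1 he).symm).pow_left k)).eq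
    let f : Q →* Ω := MonoidHom.mk' (fun q => ⁅(q : Ω), m⁆) fun q r => by
      have h0 := (hQB r r.2 m hm).2.1 q (hQle q.2)
      show ⁅((q * r : Q) : Ω), m⁆ = ⁅(q : Ω), m⁆ * ⁅(r : Ω), m⁆
      have h1 := (hQB q q.2 m hm).2.1 _ (hzS (hQB r r.2 m hm))
      rw [Subgroup.coe_mul, h1,
        show ⁅(q : Ω) * r, m⁆ = (q : Ω) * ⁅(r : Ω), m⁆ * (q : Ω)⁻¹ * ⁅(q : Ω), m⁆ by
          simp only [commutatorElement_def]; group,
        ← h0, mul_inv_cancel_right]
    have hr : f.range ≤ zOne p S := by rintro _ ⟨q, rfl⟩; exact hQB q q.2 m hm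
    have hk : f.ker ≤ (zOne p S).subgroupOf Q := fun q hq => hcomm q q.2 hq
    have h2 : Nat.card Q ≤ p * p := by
      rw [← f.ker.card_mul_index, index_ker]
      refine Nat.mul_le_mul ((card_le_of_le hk).trans_eq ?_) ((card_le_of_le hr).trans_eq hz)
      rw [Nat.card_congr (subgroupOfEquivOfLe hzQ).toEquiv, hz]
    rw [hQc, ← pow_two] at h2
    exact absurd ((Nat.pow_le_pow_iff_right hp1).1 h2) (by norm_num)
  -- the quotient
  have hnp : ∀ F, Ess S K₁ K₂ F → ∃ y ∈ S, y ∉ F ∧ ∃ a ∈ D F, ∃ γ ∈ D F,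
      (∀ w ∈ F, apl a w = y * w * y⁻¹) ∧
      ¬ IsPGroup p (closure ({a, γ * a * γ⁻¹} : Set (MulAut F))) ∧
      ∀ t ∈ closure ({a, γ * a * γ⁻¹} : Set (MulAut F)),
        (∀ e ∈ F, e⁻¹ * apl t e ∈ Q) → ∃ k, t ^ p ^ k = 1 := by
    intro F hF
    by_cases hFE : F = E
    · subst hFE
      obtain ⟨a, ha, γ, hγ, hax, hnot⟩ := h.nonpgroup hE hmS hmE
      refine ⟨m, hmS, hmE, a, ha, γ, hγ, hax, hnot, fun t ht htQ => ?_⟩
      have htD := h.pair_le hE ha hγ ht
      set N1 : ℕ → Subgroup Ω := fun i => if i = 0 then V else Q with hN1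
      have hs : ∀ q ∈ Q, q⁻¹ * apl t q ∈ V := fun q hq =>
        h.pair_stab hE ha hγ hax (N := N1) (n := 1)
          (fun i _ => by
            match i with
            | 0 => exact inv_vOf
            | k + 1 => exact hQi F hF)
          (fun i hi w hw hwN => by
            obtain rfl : i = 0 := by omega
            rw [show w⁻¹ * (m * w * m⁻¹) = ⁅w⁻¹, m⁆ by rw [commutatorElement_def]; group]
            exact hQV _ (Q.inv_mem hwN) m hmS) t ht 0 (by norm_num) q (hQ F hF hq) hq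
      set M := commSub Q F with hM
      have hMV : M ≤ V := commSub_le fun q hq y hy => hQV q hq y (hES hy)
      have hMi : Inv D F M := inv_commSub (hQ F hF) le_rfl (hQi F hF) inv_self
      have hMne : M ≠ ⊥ := fun e => hnc F hF fun y hy q hq =>
        (commutatorElement_eq_one_iff_mul_comm.1 (mem_bot.1 (e ▸ mem_commSub hq hy))).symm
      have hVM : V ≤ M := orb_le_of_inv hMi (h.zOne_le_of_nor hz (hMV.trans hVS)
        (h.nor_of_inv hE (hMV.trans (hV.trans (hQ F hF))) hMi) hMne)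
      have hfix : M ≤ fixSub t := commSub_le fun u hu v hv => by
        refine ⟨hQ F hF (hV (hMV (mem_commSub hu hv))), ?_⟩
        set r := u⁻¹ * apl t u with hr
        set q := v⁻¹ * apl t v with hq
        have hr' : apl t u = u * r := (mul_inv_cancel_left _ _).symm
        have hq' : apl t v = v * q := (mul_inv_cancel_left _ _).symm
        have hrV : r ∈ V := hs u hu
        have hqQ : q ∈ Q := htQ v hv
        rw [apl_map_comm t (hQ F hF hu) hv, hr', hq']
        have e1 : ⁅u * r, v * q⁆ = u * ⁅r, v * q⁆ * u⁻¹ * ⁅u, v * q⁆ := by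
          simp only [commutatorElement_def]; group
        have e2 : ⁅u, v * q⁆ = ⁅u, v⁆ * (v * ⁅u, q⁆ * v⁻¹) := by
          simp only [commutatorElement_def]; group
        rw [e1, commutatorElement_eq_one_iff_mul_comm.2 (hVc r hrV _ (F.mul_mem hv (hQ F hF hqQ))),
          e2, commutatorElement_eq_one_iff_mul_comm.2 (hQc' u hu q hqQ)]
        group
      refine h.pow_eq_one_of_series hE (N := ser3 V Q F) (n := 3) (ser3_mono hV (hQ F hF)) rfl
        (le_refl F) fun i hi w hw hwN => ?_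
      match i, hi with
      | 0, _ =>
        show _ ∈ (⊥ : Subgroup Ω)
        rw [(hfix (hVM hwN)).2, inv_mul_cancel]; exact one_mem _
      | 1, _ => exact hs w hwN
      | 2, _ => exact htQ w hw
    · obtain rfl : F = B := by
        rcases hF.2 with rfl | rfl <;> rcases hB.2 with rfl | rfl <;> rcases hE.2 with rfl | rfl <;>
          first | rfl | exact absurd rfl hFE | exact absurd rfl hBE
      obtain ⟨a, ha, γ, hγ, hax, hnot⟩ := h.nonpgroup hF hxS hxB
      refine ⟨x, hxS, hxB, a, ha, γ, hγ, hax, hnot, fun t ht htQ => ?_⟩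
      have htz : ∀ z ∈ zOne p S, apl t z = z := fun z hz' =>
        (inv_mul_eq_one.1 (mem_bot.1 (h.pair_stab hF ha hγ hax (N := ser2 (zOne p S) F) (n := 1)
          (fun i _ => by
            match i with
            | 0 => exact inv_bot
            | 1 => exact hzB
            | k + 2 => exact inv_self)
          (fun i hi w hw hwN => by
            obtain rfl : i = 0 := by omega
            have hw' : w ∈ zOne p S := hwN
            rw [← hw'.2.1 x hxS, mul_inv_cancel_right, inv_mul_cancel]; exact one_mem _)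
          t ht 0 (by norm_num) z ((hzQ.trans (hQ F hF)) hz') hz'))).symm
      have htq : ∀ q ∈ Q, q⁻¹ * apl t q ∈ zOne p S := by
        intro q hq
        have hqF := hQ F hF hq
        have hdQ : q⁻¹ * apl t q ∈ Q := htQ q hqF
        refine hfixB _ hdQ fun y hy => ?_
        set d := q⁻¹ * apl t q with hd
        have hd' : apl t q = q * d := (mul_inv_cancel_left _ _).symm
        have hr' : apl t y = y * (y⁻¹ * apl t y) := (mul_inv_cancel_left _ _).symm
        set r := y⁻¹ * apl t y with hr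
        have hrQ : r ∈ Q := htQ y hy
        have h1 := htz _ (hQB q hq y hy)
        rw [apl_map_comm t hqF hy, hd', hr'] at h1
        have e1 : ⁅q * d, y * r⁆ = ⁅q * d, y⁆ * (y * ⁅q * d, r⁆ * y⁻¹) := by
          simp only [commutatorElement_def]; group
        have e2 : ⁅q * d, y⁆ = q * ⁅d, y⁆ * q⁻¹ * ⁅q, y⁆ := by
          simp only [commutatorElement_def]; group
        rw [e1, e2, commutatorElement_eq_one_iff_mul_comm.2 (hQc' _ (Q.mul_mem hq hdQ) r hrQ),
          mul_one, mul_inv_cancel, mul_one, mul_eq_right] at h1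
        have h2 : ⁅d, y⁆ = 1 := by
          calc ⁅d, y⁆ = q⁻¹ * (q * ⁅d, y⁆ * q⁻¹) * q := by group
            _ = 1 := by rw [h1]; group
        exact (commutatorElement_eq_one_iff_mul_comm.1 h2).symm
      refine h.pow_eq_one_of_series hF (N := ser3 (zOne p S) Q F) (n := 3)
        (ser3_mono hzQ (hQ F hF)) rfl (le_refl F) fun i hi w hw hwN => ?_
      match i, hi with
      | 0, _ =>
        show _ ∈ (⊥ : Subgroup Ω)
        rw [htz w hwN, inv_mul_cancel]; exact one_mem _
      | 1, _ => exact htq w hwN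
      | 2, _ => exact htQ w hw
  have hCQ : ∀ y ∈ C, ∀ s ∈ S, ⁅y, s⁆ ∈ Q := by
    rcases h.quot_cases h.ih hne hQ hQS hQi hnp with hL | ⟨hc, -⟩
    · exact fun y hy => hL y (hCI hy)
    intro y hy s hs
    by_cases e : Q = C
    · rw [← e] at hy; exact (hQn.comm_mem hy hs).1
    refine comm_step h.pS hQC hCS hQn hCn ?_ y hy s hs
    have hIc : Nat.card I = p ^ 5 := by
      have e1 := h.card_eq hB
      rw [hc, hQc, h.card_inter hE hB hBE.symm, ← hI, show p ^ 4 * p ^ 3 = p * (p * p ^ 5) by ring]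
        at e1
      exact (Nat.eq_of_mul_eq_mul_left hp.out.pos (Nat.eq_of_mul_eq_mul_left hp.out.pos e1)).symm
    have a1 := h.card_lt_step hQC e hCS
    have a2 := h.card_lt_step hCI hCne hIS
    rw [hIc, show p ^ 5 = p * (p * p ^ 3) by ring] at a2
    exact le_antisymm (hQc ▸ Nat.le_of_mul_le_mul_left a2 hp.out.pos) a1
  have hCeq : Q = C := by
    by_contra hQCne
    obtain ⟨W, hQW, hWC, hWn, hWc⟩ := exists_step h.pS hQC hQCne hCS hQn hCn
    obtain ⟨y, hyW, hyQ⟩ := SetLike.not_le_iff_exists.1 (show ¬ W ≤ Q from fun hle => by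
      have := card_le_of_le hle
      rw [hWc, hQc] at this
      have := pow_pos hp.out.pos 3
      nlinarith)
    have hyC := hWC hyW
    have hypQ : y ^ p ∈ Q := h.pow_mem_step hQW (hWC.trans hCS) hQn hWc hyW
    have hcent : ∀ c ∈ C, c ^ p ∈ Q → c ^ p ∈ zOne p S := by
      intro c hc hcp
      refine ⟨hQle hcp, fun s hs => ?_, hel.2 _ hcp⟩
      set q := c⁻¹ * (s * c * s⁻¹) with hq
      have hqQ : q ∈ Q := by
        rw [hq, show c⁻¹ * (s * c * s⁻¹) = ⁅c⁻¹, s⁆ by rw [commutatorElement_def]; group]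
        exact hCQ _ (C.inv_mem hc) s hs
      have e : s * c ^ p * s⁻¹ = c ^ p := by
        rw [← conj_pow, show s * c * s⁻¹ = c * q from (mul_inv_cancel_left _ _).symm,
          (show Commute c q from hmemC c hc q hqQ).mul_pow, hel.2 q hqQ, mul_one]
      calc c ^ p * s = (s * c ^ p * s⁻¹) * s := by rw [e]
        _ = s * c ^ p := by group
    have hyp1 : y ^ p ≠ 1 := fun e =>
      hyQ (h.mem_elem hQle hel hQc (hCS hyC) e (hmemC y hyC))
    have hyz := hcent y hyC hypQ
    refine hzE fun α hα z hzE' hzz => ?_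
    obtain ⟨k, hk⟩ := mem_powers_iff_mem_zpowers.2 (mem_zpowers_of_prime_card (p := p) hz
      (show (⟨y ^ p, hyz⟩ : zOne p S) ≠ 1 from fun e => hyp1 (congrArg Subtype.val e))
      (g' := ⟨z, hzz⟩))
    have hk' : (y ^ p) ^ k = z := congrArg Subtype.val hk
    have hyE : y ∈ E := hIE (hCI hyC)
    have hαC : apl α y ∈ C := by
      refine ⟨mem_centralizer_iff.2 fun q hq => ?_, hES (apl_mem α hyE)⟩
      have hq' : apl α⁻¹ q ∈ Q := hQi E hE _ (inv_mem hα) q (hQ E hE hq) hq
      have h2 := congrArg (apl α) (hmemC y hyC _ hq')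
      rw [apl_map_mul α hyE (apl_mem _ (hQ E hE hq)), apl_map_mul α (apl_mem _ (hQ E hE hq)) hyE,
        apl_apl_inv α (hQ E hE hq)] at h2
      exact h2.symm
    rw [← hk', apl_map_pow α (E.pow_mem hyE p), apl_map_pow α hyE]
    refine pow_mem (hcent _ hαC ?_) k
    rw [← apl_map_pow α hyE]
    exact hQi E hE α hα _ (E.pow_mem hyE p) hypQ
  -- the order of `E`
  obtain ⟨q₀, hq₀, hq₀V⟩ := SetLike.not_le_iff_exists.1
    (fun hle : Q ≤ V => hVQ (le_antisymm hV hle))
  have hq₀S : q₀ ∈ S := hQle hq₀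
  have hgenQ : V ⊔ zpowers q₀ = Q := h.eq_of_step le_sup_left
    (fun e => hq₀V (e ▸ mem_sup_right (mem_zpowers q₀))) (sup_le hV (zpowers_le.2 hq₀)) hQle
    (by rw [hQc, hVcard]; ring)
  let φ : E →* Ω := MonoidHom.mk' (fun e => ⁅(e : Ω), q₀⁆) fun a b => by
    have hV1 : ∀ c : E, ⁅(c : Ω), q₀⁆ ∈ V := fun c => by
      rw [← commutatorElement_inv q₀ (c : Ω)]
      exact inv_mem (hQV q₀ hq₀ c (hES c.2))
    show ⁅((a * b : E) : Ω), q₀⁆ = ⁅(a : Ω), q₀⁆ * ⁅(b : Ω), q₀⁆
    rw [Subgroup.coe_mul,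
      show ⁅(a : Ω) * b, q₀⁆ = (a : Ω) * ⁅(b : Ω), q₀⁆ * (a : Ω)⁻¹ * ⁅(a : Ω), q₀⁆ by
        simp only [commutatorElement_def]; group,
      ← hVc _ (hV1 b) a a.2, mul_inv_cancel_right]
    exact hQc' _ (hV (hV1 b)) _ (hV (hV1 a))
  have hrange : φ.range = V := by
    refine le_antisymm (by
      rintro _ ⟨e, rfl⟩
      show ⁅(e : Ω), q₀⁆ ∈ V
      rw [← commutatorElement_inv q₀ (e : Ω)]
      exact inv_mem (hQV q₀ hq₀ e (hES e.2))) ?_
    set M := commSub Q E with hM
    have hMi : Inv D E M := inv_commSub (hQ E hE) le_rfl (hQi E hE) inv_self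
    have hMV : M ≤ V := commSub_le fun q hq y hy => hQV q hq y (hES hy)
    have hMne : M ≠ ⊥ := fun e => hnc E hE fun y hy q hq =>
      (commutatorElement_eq_one_iff_mul_comm.1 (mem_bot.1 (e ▸ mem_commSub hq hy))).symm
    refine (orb_le_of_inv hMi (h.zOne_le_of_nor hz (hMV.trans hVS)
      (h.nor_of_inv hE (hMV.trans (hV.trans (hQ E hE))) hMi) hMne)).trans
      (commSub_le fun q hq y hy => ?_)
    obtain ⟨v, hv, i, hi⟩ := Cfsg.Agent.FusRankThreeNormal.exists_mul_zpow (A := V) (g := q₀)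
      (hVn.mem_normalizer hq₀S) (hgenQ.symm ▸ hq)
    obtain ⟨k, hk⟩ : ∃ k : ℕ, q₀ ^ k = q₀ ^ i :=
      (isOfFinOrder_iff_pow_eq_one.2 ⟨p, hp.out.pos, hel.2 q₀ hq₀⟩).mem_powers_iff_mem_zpowers.2
        (zpow_mem (mem_zpowers q₀) i)
    rw [← hk] at hi
    subst hi
    rw [← commutatorElement_inv y]
    refine inv_mem ⟨⟨y, hy⟩ ^ k, ?_⟩
    rw [map_pow]
    show ⁅y, q₀⁆ ^ k = _
    have hyq : ⁅y, q₀⁆ ∈ V := by
      rw [← commutatorElement_inv q₀ y]; exact inv_mem (hQV q₀ hq₀ y (hES hy))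
    have hq₀c : ∀ w ∈ V, Commute q₀ w := fun w hw => hQc' q₀ hq₀ w (hV hw)
    rw [show ⁅y, v * q₀ ^ k⁆ = ⁅y, v⁆ * (v * ⁅y, q₀ ^ k⁆ * v⁻¹) by
      simp only [commutatorElement_def]; group,
      commutatorElement_eq_one_iff_mul_comm.2 (hVc v hv y hy).symm, one_mul,
      comm_pow_right (hq₀c _ hyq),
      hQc' v (hV hv) _ (Q.pow_mem (hV hyq) k), mul_inv_cancel_right]
  have hkerφ : φ.ker = Q.subgroupOf E := by
    ext e
    refine ⟨fun he => ?_, fun he => commutatorElement_eq_one_iff_mul_comm.2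
      (hQc' e he q₀ hq₀)⟩
    have hce : (e : Ω) * q₀ = q₀ * e := commutatorElement_eq_one_iff_mul_comm.1 he
    show (e : Ω) ∈ Q
    rw [hCeq]
    refine ⟨mem_centralizer_iff.2 fun q hq => ?_, hES e.2⟩
    have hle : V ⊔ zpowers q₀ ≤ Subgroup.centralizer ({(e : Ω)} : Set Ω) := sup_le
      (fun v hv => mem_centralizer_singleton_iff.2 (hVc v hv e e.2))
      (zpowers_le.2 (mem_centralizer_singleton_iff.2 hce.symm))
    exact mem_centralizer_singleton_iff.1 (hle (hgenQ.symm ▸ hq))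
  have hEc : Nat.card E = p ^ 5 := by
    rw [← φ.ker.card_mul_index, index_ker, hrange, hkerφ,
      Nat.card_congr (subgroupOfEquivOfLe (hQ E hE)).toEquiv, hQc, hVcard]
    ring
  have hIc : Nat.card I = p ^ 4 := by
    have e1 := h.card_inter hB hE hBE
    rw [hEc, show p ^ 5 = p * p ^ 4 by ring, ← hI] at e1
    exact (Nat.eq_of_mul_eq_mul_left hp.out.pos e1).symm
  have hBc : Nat.card B = p ^ 5 := by
    rw [h.card_inter hE hB hBE.symm, ← hI, hIc]; ring
  have hIQ : ∀ u ∈ I, ∀ s ∈ S, ⁅u, s⁆ ∈ Q :=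
    comm_step h.pS hQI hIS hQn h.nor_inter (by rw [hIc, hQc]; ring)
  -- the generators of `B`
  obtain ⟨c, hcI, hcQ⟩ := SetLike.not_le_iff_exists.1 (fun hle : I ≤ Q => by
    have := card_le_of_le hle
    rw [hIc, hQc] at this
    exact absurd ((Nat.pow_le_pow_iff_right hp1).1 this) (by norm_num))
  have hcS : c ∈ S := hIS hcI
  have hIgen : I = Q ⊔ zpowers c := (h.eq_of_step le_sup_left
    (fun (e : Q = Q ⊔ zpowers c) => hcQ (e ▸ mem_sup_right (mem_zpowers c))) (sup_le hQI (zpowers_le.2 hcI)) hIS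
    (by rw [hIc, hQc]; ring)).symm
  set c₀ := ⁅c, m⁆ with hc₀
  have hc₀Q : c₀ ∈ Q := hIQ c hcI m hmS
  set N := zOne p S ⊔ zpowers c₀ with hN
  have hNQ : N ≤ Q := sup_le hzQ (zpowers_le.2 hc₀Q)
  have hNS : N ≤ S := hNQ.trans hQle
  have hNn : Nor B N := fun y hy q hq => by
    rw [show y * q * y⁻¹ = (⁅q, y⁆)⁻¹ * q by rw [commutatorElement_def]; group]
    exact N.mul_mem (N.inv_mem (mem_sup_left (hQB q (hNQ hq) y hy))) hq
  set s0 : Set Ω := (Q : Set Ω) ∪ {c, m} with hs0
  have hs0B : s0 ⊆ B := by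
    rintro y (hy | rfl | rfl)
    exacts [hQ B hB hy, hIB hcI, hm]
  have hgenB : ∀ y ∈ B, y ∈ closure s0 := by
    intro y hy
    obtain ⟨g, hg, k, rfl⟩ := h.exists_mul hE hmS hmE y (hBS hy)
    have hgB : g ∈ B := by
      have := B.mul_mem hy (B.inv_mem (B.pow_mem hm k))
      rwa [mul_inv_cancel_right] at this
    have hgI : g ∈ Q ⊔ zpowers c := by
      rw [← hIgen, hI, ← inf_eq hE hB hBE.symm]; exact ⟨hg, hgB⟩
    refine Subgroup.mul_mem _ ?_ (Subgroup.pow_mem _ (Subgroup.subset_closure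
      (Set.mem_union_right _ (Set.mem_insert_of_mem _ (Set.mem_singleton _)))) k)
    have hle : Q ⊔ zpowers c ≤ closure s0 := sup_le
      (fun q hq => Subgroup.subset_closure (Or.inl hq))
      (zpowers_le.2 (Subgroup.subset_closure (Set.mem_union_right _ (Set.mem_insert _ _))))
    exact hle hgI
  have hBN : ∀ u ∈ B, ∀ v ∈ B, ⁅u, v⁆ ∈ N := fun u hu v hv => by
    refine comm_gen hNn (T := B) hs0B ?_ u (hgenB u hu) v (hgenB v hv)
    intro a ha b hb
    rcases ha with ha | ha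
    · exact mem_sup_left (hQB a ha b (hs0B hb))
    rcases hb with hb | hb
    · rw [← commutatorElement_inv b a]
      exact inv_mem (mem_sup_left (hQB b hb a (hs0B (Or.inr ha))))
    rcases ha with rfl | rfl <;> rcases hb with rfl | rfl
    · rw [commutatorElement_self]; exact one_mem _
    · exact mem_sup_right (mem_zpowers _)
    · rw [← commutatorElement_inv b a]; exact inv_mem (mem_sup_right (mem_zpowers _))
    · rw [commutatorElement_self]; exact one_mem _
  have hNne : N ≠ Q := by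
    intro e
    have hc0p : c₀ ^ p = 1 := hel.2 _ hc₀Q
    haveI := finite_of_le (zpowers_le.2 (hQle hc₀Q))
    have h1 : Nat.card (N : Set Ω) ≤ Nat.card (zOne p S : Set Ω) * Nat.card (zpowers c₀ : Set Ω) := by
      rw [hN, coe_mul_of_left_le_normalizer_right]
      · exact Set.natCard_mul_le
      · intro z hz'
        exact mem_normalizer_fintype (S := (zpowers c₀ : Set Ω)) fun w hw => by
          rw [hz'.2.1 w (hQle (zpowers_le.2 hc₀Q hw)), mul_inv_cancel_right]; exact hw
    rw [e] at h1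
    change Nat.card Q ≤ Nat.card (zOne p S) * Nat.card (zpowers c₀) at h1
    rw [hQc, hz, Nat.card_zpowers] at h1
    have h2 := h1.trans (Nat.mul_le_mul_left p (orderOf_le_of_pow_eq_one hp.out.pos hc0p))
    rw [← pow_two] at h2
    exact absurd ((Nat.pow_le_pow_iff_right hp1).1 h2) (by norm_num)
  have hBz : ∀ u ∈ B, ∀ v ∈ B, ⁅u, v⁆ ∈ zOne p S := by
    have hBB : commSub B B ≤ B := (commSub_le hBN).trans (hNQ.trans (hQ B hB))
    set R := commSub B B ⊔ zOne p S with hR
    have hRi : Inv D B R := (inv_commSub le_rfl le_rfl inv_self inv_self).sup hzB hBB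
      (hzQ.trans (hQ B hB))
    have hRN : R ≤ N := sup_le (commSub_le hBN) le_sup_left
    have hRn : Nor S R := h.nor_of_inv hB (hRN.trans (hNQ.trans (hQ B hB))) hRi
    have hReq : zOne p S = R := by
      by_contra hne₂
      haveI := finite_of_le hNS
      haveI := finite_of_le (hRN.trans hNS)
      have hRc : Nat.card R = p * Nat.card (zOne p S) := by
        refine le_antisymm ?_ (h.card_lt_step le_sup_right hne₂ (hRN.trans hNS))
        have a1 := h.card_lt_step hNQ hNne hQle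
        rw [hQc, show p ^ 3 = p * (p * p) by ring] at a1
        exact (card_le_of_le hRN).trans (hz.symm ▸ Nat.le_of_mul_le_mul_left a1 hp.out.pos)
      have hR1 := comm_step h.pS le_sup_right (hRN.trans hNS) hzn hRn hRc
      have hR2 := comm_step h.pS (hRN.trans hNQ) hQle hRn hQn (by rw [hQc, hRc, hz]; ring)
      exact hser R le_sup_right (hRN.trans hNQ) hRi (fun r hr => hR1 r hr x hxS)
        fun q hq => hR2 q hq x hxS
    intro u hu v hv
    rw [hReq]
    exact mem_sup_left (mem_commSub hu hv)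
  have hexp : ∀ u ∈ B, u ^ p ∈ zOne p S := by
    intro u hu
    have key : ∀ v ∈ B, Commute (u ^ p) v := by
      intro v hv
      have h1 := hBz u hu v hv
      rw [← commutatorElement_eq_one_iff_commute,
        comm_pow_left (show Commute u ⁅u, v⁆ from (h1.2.1 u (hBS hu)).symm), h1.2.2]
    refine hfixB _ ?_ fun y hy => (key y hy).symm.eq
    rw [hCeq]
    exact ⟨mem_centralizer_iff.2 fun q hq => (key q (hQ B hB hq)).symm.eq, S.pow_mem (hBS hu) p⟩
  have hfin := h.card_section (N := zOne p S) (A := B) (hzQ.trans (hQ B hB)) hBS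
    (fun a ha z hz' => hzn a (hBS ha) z hz') hBz hexp
  rw [hBc, hz, ← pow_succ] at hfin
  exact absurd ((Nat.pow_le_pow_iff_right hp1).1 hfin) (by norm_num)

end Cfsg.Agent.FusRankThreeChar
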