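import Cfsg.Agent.FusRankThreeChar.KillTwo
import Cfsg.Agent.FusRankThreeChar.KillThree

/-!
No elementary abelian subgroup of both distinguished subgroups, kept by all the chosen
automorphisms, contains a moved socle.
-/

set_option autoImplicit false
set_option linter.unusedSectionVars false

namespace Cfsg.Agent.FusRankThreeChar

open Cfsg Cfsg.FusionSystem Cfsg.Agent.FusSys Subgroup
open Cfsg.Agent.RankThreeEss (Elem)
open Cfsg.Agent.FusRankThreeNormal (zOne)

universe u

variable {Ω : Type u} [Group Ω] {S K₁ K₂ : Subgroup Ω} {p : ℕ}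
variable {D : (X : Subgroup Ω) → Subgroup (MulAut X)}
variable [Finite S] [hp : Fact p.Prime]

/-- The kill lemma. -/
theorem Red.kill (h : Red p S D K₁ K₂) {Q : Subgroup Ω} (hel : Elem p Q)
    (hQ : ∀ B, Ess S K₁ K₂ B → Q ≤ B) (hQS : Inv D S Q)
    (hQi : ∀ B, Ess S K₁ K₂ B → Inv D B Q) {E : Subgroup Ω} (hE : Ess S K₁ K₂ E)
    (hmove : vOf p S D E ≠ zOne p S) (hV : vOf p S D E ≤ Q) : False := by
  have hQle : Q ≤ S := (hQ E hE).trans hE.1.1
  haveI := finite_of_le hQle
  haveI := finite_of_le (hV.trans hQle)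
  have hzS : zOne p S ≤ S := fun z hz => hz.1
  haveI := finite_of_le hzS
  obtain ⟨j, hj⟩ := IsPGroup.iff_card.1 (h.pS.to_le hQle)
  obtain ⟨i, hi⟩ := IsPGroup.iff_card.1 (h.pS.to_le hzS)
  have hi0 : i ≠ 0 := fun e => h.zOne_ne_bot (card_eq_one.1 (by rw [hi, e, pow_zero]))
  have h1 := h.card_lt_step (h.zOne_le_vOf hE) (Ne.symm hmove) (hV.trans hQle)
  have h2 := h1.trans (card_le_of_le hV)
  rw [hi, hj, ← pow_succ'] at h2
  have h3 := h.card_elem hQle hel
  rw [hj] at h3
  have := (Nat.pow_le_pow_iff_right hp.out.one_lt).1 h2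
  have := (Nat.pow_le_pow_iff_right hp.out.one_lt).1 h3
  rcases (show j = 2 ∨ j = 3 by omega) with rfl | rfl
  · exact h.kill_two hel hQ hQS hQi hE hmove hV hj
  · exact h.kill_three hel hQ hQS hQi hE hmove hV hj

end Cfsg.Agent.FusRankThreeChar
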