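import Cfsg.Agent.FusRankThreeChar.CaseTwoBase
import Cfsg.Agent.FusRankThreeChar.Kill

/-!
The images of the moved socles generate abelian groups: impossible.
-/

set_option autoImplicit false
set_option linter.style.haveILetI false
set_option linter.unusedSectionVars false

namespace Cfsg.Agent.FusRankThreeChar

open Cfsg Cfsg.FusionSystem Cfsg.Agent.FusSys Subgroup
open Cfsg.Agent.RankThreeEss (Elem)
open Cfsg.Agent.FusRankThreeNormal (Nor zOne mem_zOne zOne_le nor_zOne inf_zOne_ne_bot apl_map_mul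
  apl_map_one apl_map_inv apl_map_pow apl_map_comm apl_injective commSub mem_commSub commSub_le
  comm_induction comm_step pow_mem_of_gens pow_apply_fix card_elem_le sectional_of_le exists_coord
  isPGroup_of_stab Neg exists_neg image_sylow sup_zpowers_eq central_of_two mem_bottom
  pow_eq_one_of_mem exists_mul_zpow exists_mul_npow exponent_p_of_gens three_le)
open scoped commutatorElement

universe u

variable {Ω : Type u} [Group Ω] {S K₁ K₂ : Subgroup Ω} {p : ℕ}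
variable {DF : (X : Subgroup Ω) → Subgroup (MulAut X)}
variable [Finite S] [hp : Fact p.Prime]

set_option maxHeartbeats 1600000 in
/-- The abelian case. -/
theorem Two.abelian_false (t : Two p S DF K₁ K₂)
    (hW : ∀ B, Ess S K₁ K₂ B → ∀ a ∈ orb DF B (pSub p S DF K₁ K₂), ∀ b ∈ orb DF B (pSub p S DF K₁ K₂), a * b = b * a) :
    False := by
  classical
  have h := t.hyp
  have hp1 := hp.out.one_lt
  obtain ⟨E₁, hE₁⟩ := t.exists_moved
  have h1 := hE₁.1
  have h1S := h1.1.1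
  haveI := finite_of_le h1S
  set P := pSub p S DF K₁ K₂ with hPdef
  haveI := finite_of_le t.pSub_le_S
  have hWS : ∀ B, Ess S K₁ K₂ B → orb DF B P ≤ S := fun B hB => orb_le.trans hB.1.1
  have hWexp : ∀ B, Ess S K₁ K₂ B → ∀ a ∈ orb DF B P, a ^ p = 1 := by
    intro B hB a ha
    induction ha using Subgroup.closure_induction with
    | mem y hy =>
      obtain ⟨α, -, w, hwB, hw, rfl⟩ := hy
      rw [← apl_map_pow α hwB, t.elem_pSub.2 w hw, apl_map_one]
    | one => exact one_pow p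
    | mul a b ha hb iha ihb =>
      rw [(show Commute a b from hW B hB a ha b hb).mul_pow, iha, ihb, one_mul]
    | inv a _ iha => rw [inv_pow, iha, inv_one]
  have hW3 : ∀ B, Ess S K₁ K₂ B → Nat.card (orb DF B P) ≤ p ^ 3 := fun B hB =>
    h.card_elem (hWS B hB) ⟨hW B hB, hWexp B hB⟩
  have hPle : ∀ B, Ess S K₁ K₂ B → P ≤ orb DF B P := fun B hB => le_orb (t.pSub_le hB)
  -- some image is bigger
  obtain ⟨E₂, h2, hW2⟩ : ∃ B, Ess S K₁ K₂ B ∧ orb DF B P ≠ P := by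
    by_contra! hall
    exact h.kill t.elem_pSub (fun B hB => t.pSub_le hB) t.inv_pSub
      (fun B hB => (congrArg (Inv DF B) (hall B hB)).mp inv_orb) h1 hE₁.2 (vOf_le_pSub hE₁)
  have hP2 : Nat.card P ≤ p ^ 2 := by
    obtain ⟨k, hk⟩ := IsPGroup.iff_card.1 (h.pS.to_le t.pSub_le_S)
    haveI := finite_of_le (hWS E₂ h2)
    obtain ⟨j, hj⟩ := IsPGroup.iff_card.1 (h.pS.to_le (hWS E₂ h2))
    have hlt : Nat.card P < Nat.card (orb DF E₂ P) :=
      lt_of_le_of_ne (card_le_of_le (hPle E₂ h2)) fun e =>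
        hW2 (eq_of_le_of_card_ge (hPle E₂ h2) e.ge).symm
    have h3 := hW3 E₂ h2
    rw [hk, hj] at hlt
    rw [hj] at h3
    have := (Nat.pow_lt_pow_iff_right hp1).1 hlt
    have := (Nat.pow_le_pow_iff_right hp1).1 h3
    rw [hk]; exact Nat.pow_le_pow_right hp.out.pos (by omega)
  have hVall : ∀ E, Moved p S DF K₁ K₂ E → vOf p S DF E = P ∧ Nat.card P = p ^ 2 := by
    intro E hE
    obtain ⟨k, hk, hk2, -⟩ := t.card_vOf hE
    haveI := finite_of_le ((vOf_le_pSub hE).trans t.pSub_le_S)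
    have h5 : p ^ 2 ≤ Nat.card (vOf p S DF E) := hk ▸ Nat.pow_le_pow_right hp.out.pos hk2
    have e := eq_of_le_of_card_ge (vOf_le_pSub hE) (hP2.trans h5)
    exact ⟨e, le_antisymm hP2 (h5.trans (by rw [e]))⟩
  obtain ⟨hV, hVc⟩ := hVall E₁ hE₁
  have huniq : ∀ E, Moved p S DF K₁ K₂ E → E = E₁ := fun E hE =>
    t.eq_of_vOf_eq hE hE₁ ((hVall E hE).1.trans hV.symm)
  have hz : Nat.card (zOne p S) = p := by
    haveI := finite_of_le (zOne_le (p := p) (S := S))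
    obtain ⟨j, hj⟩ := IsPGroup.iff_card.1 (h.pS.to_le (zOne_le (p := p) (S := S)))
    have hj0 : j ≠ 0 := fun e => h.zOne_ne_bot (card_eq_one.1 (by rw [hj, e, pow_zero]))
    have hlt : Nat.card (zOne p S) < Nat.card P := by
      rw [← hV]
      haveI := finite_of_le ((vOf_le (p := p) (S := S) (D := DF) (E := E₁)).trans h1S)
      refine lt_of_le_of_ne (card_le_of_le (h.zOne_le_vOf h1)) fun e => hE₁.2 ?_
      exact (eq_of_le_of_card_ge (h.zOne_le_vOf h1) e.ge).symm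
    rw [hj, hVc] at hlt
    have := (Nat.pow_lt_pow_iff_right hp1).1 hlt
    rw [hj, show j = 1 by omega, pow_one]
  have hVnor : Nor S P := hV ▸ h.nor_vOf h1
  have hVinv1 : Inv DF E₁ P := hV ▸ inv_orb
  have hW1 : orb DF E₁ P = P := le_antisymm (orb_le_of_inv hVinv1 le_rfl) (hPle E₁ h1)
  have hcentV : ∀ x ∈ S, (x ∈ E₁ ↔ ∀ v ∈ P, x * v = v * x) := fun x hx => by
    rw [← hV]; exact h.mem_iff_comm h1 hE₁.2 hx
  have hne12 : ¬ E₂ ≤ E₁ := fun hle => hW2 (by
    haveI := finite_of_le h2.1.1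
    rw [eq_of_le_of_card_ge hle (Nat.eq_of_mul_eq_mul_left hp.out.pos
      ((h.card_eq h1).symm.trans (h.card_eq h2))).le]
    exact hW1)
  -- the big image `U`
  set U := orb DF E₂ P with hUdef
  have hUS : U ≤ S := hWS E₂ h2
  haveI := finite_of_le hUS
  have hUc : Nat.card U = p ^ 3 := by
    obtain ⟨j, hj⟩ := IsPGroup.iff_card.1 (h.pS.to_le hUS)
    have hlt : Nat.card P < Nat.card U :=
      lt_of_le_of_ne (card_le_of_le (hPle E₂ h2)) fun e =>
        hW2 (eq_of_le_of_card_ge (hPle E₂ h2) e.ge).symm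
    have h3 := hW3 E₂ h2
    rw [hj, hVc] at hlt
    rw [hj] at h3
    have := (Nat.pow_lt_pow_iff_right hp1).1 hlt
    have := (Nat.pow_le_pow_iff_right hp1).1 h3
    rw [hj, show j = 3 by omega]
  -- every image, big or small
  have hWnor : ∀ B, Ess S K₁ K₂ B → Nor S (orb DF B P) := fun B hB =>
    h.nor_of_inv hB orb_le inv_orb
  have hWE1 : ∀ B, Ess S K₁ K₂ B → orb DF B P ≤ E₁ := fun B hB u hu =>
    (hcentV u (hWS B hB hu)).2 fun v hv => hW B hB u hu v (hPle B hB hv)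
  have hWcomm : ∀ B, Ess S K₁ K₂ B → ∀ u ∈ orb DF B P, ∀ s ∈ S, ⁅u, s⁆ ∈ P := by
    intro B hB
    haveI := finite_of_le (hWS B hB)
    obtain ⟨j, hj⟩ := IsPGroup.iff_card.1 (h.pS.to_le (hWS B hB))
    have hle := card_le_of_le (hPle B hB)
    have h3 := hW3 B hB
    rw [hj, hVc] at hle
    rw [hj] at h3
    have := (Nat.pow_le_pow_iff_right hp1).1 hle
    have := (Nat.pow_le_pow_iff_right hp1).1 h3
    rcases (show j = 2 ∨ j = 3 by omega) with rfl | rfl
    · have e := eq_of_le_of_card_ge (hPle B hB) (hj.trans hVc.symm).le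
      intro u hu s hs
      exact (hVnor.comm_mem (e.symm ▸ hu) hs).1
    · exact comm_step h.pS (hPle B hB) (hWS B hB) hVnor (hWnor B hB) (by rw [hj, hVc]; ring)
  -- generated groups inside `E₁`
  have cenP : ∀ c ∈ P, ∀ e ∈ E₁, c * e = e * c := fun c hc e he =>
    ((hcentV e (h1S he)).1 he c hc).symm
  have small : ∀ (Y : Subgroup Ω) (s : Set Ω), Y = closure s → P ≤ Y → Y ≤ E₁ →
      (∀ y ∈ s, y ^ p = 1) → (∀ y ∈ Y, ∀ z ∈ Y, ⁅y, z⁆ ∈ P) →
      (∀ x ∈ Y, x ^ p = 1) ∧ ((∀ a ∈ Y, ∀ b ∈ Y, a * b = b * a) ∨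
        (Nat.card Y ≤ p ^ 4 ∧ Nat.card (commSub Y Y) ≤ p ∧ commSub Y Y ≤ P)) := by
    intro Y s hYs hPY hY1 hgen hcomm
    have hYS : Y ≤ S := hY1.trans h1S
    have hexp : ∀ x ∈ Y, x ^ p = 1 := by
      intro x hx
      refine mem_bot.1 (pow_mem_of_gens h.odd (N := ⊥) (fun _ _ y hy => by
          rw [mem_bot.1 hy, mul_one, mul_inv_cancel]; exact one_mem _) (s := s)
        (fun y hy => hYS (hYs ▸ Subgroup.subset_closure hy)) (fun y hy => mem_bot.2 (hgen y hy))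
        (fun a ha b hb c hc => ?_) x (hYs ▸ hx))
      rw [← hYs] at ha hb hc
      rw [mem_bot, commutatorElement_eq_one_iff_mul_comm]
      exact cenP _ (hcomm a ha b hb) c (hY1 hc)
    refine ⟨hexp, ?_⟩
    by_cases hab : ∀ a ∈ Y, ∀ b ∈ Y, a * b = b * a
    · exact Or.inl hab
    obtain ⟨hle, c, hc, hcw⟩ := h.wide_section (N := ⊥) (A := P) (M := Y) bot_le hPY hYS
      (fun m _ x hx => by rw [mem_bot.1 hx, mul_one, mul_inv_cancel]; exact one_mem _)
      (by rw [hVc, card_bot, mul_one])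
      (fun a ha m hm => mem_bot.2 (commutatorElement_eq_one_iff_mul_comm.2 (cenP a ha m (hY1 hm))))
      hcomm (fun x hx => mem_bot.2 (hexp x hx))
    rw [card_bot, mul_one] at hle
    refine Or.inr ⟨hle, ?_, commSub_le hcomm⟩
    have hsub : commSub Y Y ≤ zpowers c := commSub_le fun x hx y hy => by
      obtain ⟨n, hn⟩ := hcw x hx y hy
      rw [mem_bot, inv_mul_eq_one] at hn
      rw [← hn]; exact zpow_mem (mem_zpowers c) n
    haveI : Finite (zpowers c) := finite_of_le (zpowers_le.2 (hYS hc))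
    exact (card_le_of_le hsub).trans (by
      rw [Nat.card_zpowers]; exact orderOf_le_of_pow_eq_one hp.out.pos (hexp c hc))
  -- the orbit of all the images is `U`
  set s0 : Set Ω := {y | ∃ B, Ess S K₁ K₂ B ∧ ∃ α ∈ DF E₁, ∃ w ∈ E₁,
    w ∈ orb DF B P ∧ y = apl α w} with hs0
  have hY0E : closure s0 ≤ E₁ := (closure_le _).2 (by
    rintro _ ⟨B, -, α, -, w, hwE, -, rfl⟩; exact apl_mem α hwE)
  have hY0inv : Inv DF E₁ (closure s0) := by
    intro α hα x _ hx
    induction hx using Subgroup.closure_induction with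
    | mem y hy =>
      obtain ⟨B, hB, β, hβ, w, hwE, hw, rfl⟩ := hy
      exact Subgroup.subset_closure ⟨B, hB, α * β, mul_mem hα hβ, w, hwE, hw, (apl_mul α β hwE).symm⟩
    | one => rw [apl_map_one]; exact one_mem _
    | mul a b ha hb iha ihb =>
      rw [apl_map_mul α (hY0E ha) (hY0E hb)]; exact mul_mem (iha (hY0E ha)) (ihb (hY0E hb))
    | inv a ha iha => rw [apl_map_inv α (hY0E ha)]; exact inv_mem (iha (hY0E ha))
  have hWY0 : ∀ B, Ess S K₁ K₂ B → orb DF B P ≤ closure s0 := fun B hB w hw =>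
    Subgroup.subset_closure ⟨B, hB, 1, one_mem _, w, hWE1 B hB hw, hw, (apl_one (hWE1 B hB hw)).symm⟩
  have hY0comm : ∀ y ∈ closure s0, ∀ z ∈ closure s0, ⁅y, z⁆ ∈ P := by
    intro y hy z hz'
    refine comm_induction (S := S) hVnor (fun w hw => (hY0E.trans h1S) (Subgroup.subset_closure hw))
      ?_ y hy
    rintro _ ⟨B, hB, α, hα, w, hwE, hw, rfl⟩
    have hzE := hY0E hz'
    rw [show ⁅apl α w, z⁆ = apl α ⁅w, apl α⁻¹ z⁆ by
      rw [apl_map_comm α hwE (apl_mem _ hzE), apl_apl_inv α hzE]]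
    have hm := hWcomm B hB w hw _ (h1S (apl_mem α⁻¹ hzE))
    exact hVinv1 α hα _ (t.pSub_le h1 hm) hm
  obtain ⟨hY0exp, hY0⟩ := small _ s0 rfl ((hPle E₂ h2).trans (hWY0 E₂ h2)) hY0E (by
    rintro _ ⟨B, hB, α, -, w, hwE, hw, rfl⟩
    rw [← apl_map_pow α hwE, hWexp B hB w hw, apl_map_one]) hY0comm
  have hY0ab : ∀ a ∈ closure s0, ∀ b ∈ closure s0, a * b = b * a := by
    rcases hY0 with hab | ⟨-, hDc, hDP⟩
    · exact hab
    by_contra hno
    push Not at hno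
    obtain ⟨a, ha, b, hb, hab⟩ := hno
    set D := commSub (closure s0) (closure s0)
    have hDE : D ≤ E₁ := hDP.trans (t.pSub_le h1)
    have hDinv : Inv DF E₁ D := inv_commSub hY0E hY0E hY0inv hY0inv
    have hDne : D ≠ ⊥ := fun e => hab (commutatorElement_eq_one_iff_mul_comm.1
      (mem_bot.1 (e ▸ mem_commSub ha hb)))
    have hzD := h.zOne_le_of_nor hz (hDE.trans h1S) (h.nor_of_inv h1 hDE hDinv) hDne
    haveI := finite_of_le (hDE.trans h1S)
    have := card_le_of_le (orb_le_of_inv hDinv hzD)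
    rw [show orb DF E₁ (zOne p S) = P from hV, hVc] at this
    exact absurd ((Nat.pow_le_pow_iff_right hp1).1 ((this.trans hDc).trans (pow_one p).ge))
      (by norm_num)
  have hY0U : closure s0 = U := by
    haveI := finite_of_le (hY0E.trans h1S)
    exact (eq_of_le_of_card_ge (hWY0 E₂ h2)
      (hUc ▸ h.card_elem (hY0E.trans h1S) ⟨hY0ab, hY0exp⟩)).symm
  have hUinv1 : Inv DF E₁ U := hY0U ▸ hY0inv
  have hdich : ∀ B, Ess S K₁ K₂ B → orb DF B P = P ∨ orb DF B P = U := by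
    intro B hB
    have hle : orb DF B P ≤ U := hY0U ▸ hWY0 B hB
    haveI := finite_of_le (hWS B hB)
    obtain ⟨j, hj⟩ := IsPGroup.iff_card.1 (h.pS.to_le (hWS B hB))
    have h4 := card_le_of_le (hPle B hB)
    have h5 := card_le_of_le hle
    rw [hj, hVc] at h4
    rw [hj, hUc] at h5
    have := (Nat.pow_le_pow_iff_right hp1).1 h4
    have := (Nat.pow_le_pow_iff_right hp1).1 h5
    rcases (show j = 2 ∨ j = 3 by omega) with rfl | rfl
    · exact Or.inl (eq_of_le_of_card_ge (hPle B hB) (hj.trans hVc.symm).le).symm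
    · exact Or.inr (eq_of_le_of_card_ge hle (hUc.trans hj.symm).le)
  have hUinvS : Inv DF S U := h.inv_top_orb h2 _
  -- some essential subgroup does not keep `U`
  obtain ⟨E₃, h3, hU3⟩ : ∃ B, Ess S K₁ K₂ B ∧ ¬ Inv DF B U := by
    by_contra! hall
    refine h.kill (Q := U) ⟨hW E₂ h2, hWexp E₂ h2⟩ (fun B hB => ?_) hUinvS hall h1 hE₁.2
      ((vOf_le_pSub hE₁).trans (hPle E₂ h2))
    rcases hdich B hB with e | e
    · intro u hu
      have hPinv : Inv DF B P := (congrArg (Inv DF B) e).mp inv_orb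
      refine h.mem_of_stab hB hPinv (hUS hu) (fun q _ hq => ?_) (fun e' he' => ?_)
      · rw [hW E₂ h2 u hu q (hPle E₂ h2 hq), mul_inv_cancel_right]
      · rw [show e'⁻¹ * (u * e' * u⁻¹) = e'⁻¹ * ⁅u, e'⁆ * e'⁻¹⁻¹ by
          rw [commutatorElement_def]; group]
        exact hVnor _ (S.inv_mem (hB.1.1 he')) _ (hWcomm E₂ h2 u hu e' (hB.1.1 he'))
    · exact e ▸ orb_le
  haveI := finite_of_le h3.1.1
  have hW3' : orb DF E₃ P = P := (hdich E₃ h3).resolve_right fun e =>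
    hU3 ((congrArg (Inv DF E₃) e).mp inv_orb)
  have hPinv3 : Inv DF E₃ P := (congrArg (Inv DF E₃) hW3').mp inv_orb
  have hne3 : ¬ E₃ ≤ E₁ := fun hle => hU3 (by
    rw [eq_of_le_of_card_ge hle (Nat.eq_of_mul_eq_mul_left hp.out.pos
      ((h.card_eq h1).symm.trans (h.card_eq h3))).le]
    exact hUinv1)
  have hU3le : U ≤ E₃ := fun u hu => by
    refine h.mem_of_stab h3 hPinv3 (hUS hu) (fun q _ hq => ?_) (fun e' he' => ?_)
    · rw [hW E₂ h2 u hu q (hPle E₂ h2 hq), mul_inv_cancel_right]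
    · rw [show e'⁻¹ * (u * e' * u⁻¹) = e'⁻¹ * ⁅u, e'⁆ * e'⁻¹⁻¹ by
        rw [commutatorElement_def]; group]
      exact hVnor _ (S.inv_mem (h3.1.1 he')) _ (hWcomm E₂ h2 u hu e' (h3.1.1 he'))
  set Y := orb DF E₃ U with hY
  have hYS : Y ≤ S := orb_le.trans h3.1.1
  haveI := finite_of_le hYS
  have hYU : U ≤ Y := le_orb hU3le
  have hY1 : Y ≤ E₁ := (closure_le _).2 (by
    rintro _ ⟨α, hα, w, hwE, hw, rfl⟩
    refine (hcentV _ (h3.1.1 (apl_mem α hwE))).2 fun v hv => ?_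
    have hvE := t.pSub_le h3 hv
    have hv' : apl α⁻¹ v ∈ P := hPinv3 _ (inv_mem hα) v hvE hv
    rw [← apl_apl_inv α hvE, ← apl_map_mul α hwE (apl_mem _ hvE),
      ← apl_map_mul α (apl_mem _ hvE) hwE, hW E₂ h2 w hw _ (hPle E₂ h2 hv')])
  have hYcomm : ∀ y ∈ Y, ∀ e ∈ E₃, ⁅y, e⁆ ∈ P := by
    intro y hy e he
    refine comm_induction (S := S) hVnor (fun w hw => hYS (Subgroup.subset_closure hw)) ?_ y hy
    rintro _ ⟨α, hα, w, hwE, hw, rfl⟩
    rw [show ⁅apl α w, e⁆ = apl α ⁅w, apl α⁻¹ e⁆ by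
      rw [apl_map_comm α hwE (apl_mem _ he), apl_apl_inv α he]]
    have hm := hWcomm E₂ h2 w hw _ (h3.1.1 (apl_mem α⁻¹ he))
    exact hPinv3 α hα _ (t.pSub_le h3 hm) hm
  obtain ⟨hYexp, hYcase⟩ := small Y _ rfl ((hPle E₂ h2).trans hYU) hY1 (by
    rintro _ ⟨α, -, w, hwE, hw, rfl⟩
    rw [← apl_map_pow α hwE, hWexp E₂ h2 w hw, apl_map_one]) (fun y hy z hz' => hYcomm y hy z (orb_le hz'))
  have hYne : Y ≠ U := fun e => hU3 (e ▸ inv_orb)
  have hYlt : Nat.card U < Nat.card Y :=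
    lt_of_le_of_ne (card_le_of_le hYU) fun e => hYne (eq_of_le_of_card_ge hYU e.ge).symm
  rcases hYcase with hab | ⟨hYc4, hDc, hDP⟩
  · have := h.card_elem hYS ⟨hab, hYexp⟩
    rw [hUc] at hYlt
    omega
  have hYc : Nat.card Y = p * Nat.card U := by
    obtain ⟨j, hj⟩ := IsPGroup.iff_card.1 (h.pS.to_le hYS)
    rw [hj, hUc] at hYlt
    rw [hj] at hYc4
    have := (Nat.pow_lt_pow_iff_right hp1).1 hYlt
    have := (Nat.pow_le_pow_iff_right hp1).1 hYc4
    rw [hj, hUc, show j = 4 by omega]; ring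
  obtain ⟨a, haY, haU⟩ : ∃ a ∈ Y, a ∉ U :=
    SetLike.not_le_iff_exists.1 fun hle => hYne (le_antisymm hle hYU)
  have haS := hYS haY
  have haE1 : a ∈ E₁ := hY1 haY
  have hUnor : Nor S U := hWnor E₂ h2
  have haN : a ∈ normalizer (U : Set Ω) := hUnor.mem_normalizer haS
  have hYgen : U ⊔ zpowers a = Y := by
    have hle : U ⊔ zpowers a ≤ Y := sup_le hYU (zpowers_le.2 haY)
    haveI := finite_of_le (hle.trans hYS)
    obtain ⟨j, hj⟩ := IsPGroup.iff_card.1 (h.pS.to_le (hle.trans hYS))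
    have hlt : Nat.card U < Nat.card (U ⊔ zpowers a : Subgroup Ω) :=
      lt_of_le_of_ne (card_le_of_le le_sup_left) fun e => haU
        ((eq_of_le_of_card_ge le_sup_left e.ge).symm ▸ mem_sup_right (mem_zpowers a))
    refine eq_of_le_of_card_ge hle ?_
    rw [hj, hUc] at hlt
    have := (Nat.pow_lt_pow_iff_right hp1).1 hlt
    rw [hYc, hUc, hj, show p * p ^ 3 = p ^ 4 by ring]
    exact Nat.pow_le_pow_right hp.out.pos (by omega)
  have hYnor : Nor S Y := h.nor_of_inv h3 orb_le inv_orb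
  have hUnab : ¬ ∀ w ∈ U, a * w = w * a := by
    intro hall
    have hel : Elem p Y := by
      haveI : IsMulCommutative Y := by
        rw [← hYgen, ← Subgroup.closure_eq U, zpowers_eq_closure, ← Subgroup.closure_union]
        refine isMulCommutative_closure ?_
        rintro u (hu | rfl) v (hv | rfl)
        exacts [hW E₂ h2 u hu v hv, (hall u hu).symm, hall v hv, rfl]
      exact ⟨fun u hu v hv => congrArg Subtype.val
        (IsMulCommutative.is_comm.comm (⟨u, hu⟩ : Y) ⟨v, hv⟩), hYexp⟩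
    have := h.card_elem hYS hel
    rw [hUc] at hYlt
    omega
  have hDinv : Inv DF E₃ (commSub Y Y) := inv_commSub orb_le orb_le inv_orb inv_orb
  have hDz : commSub Y Y = zOne p S := by
    have hDE : commSub Y Y ≤ E₃ := hDP.trans (t.pSub_le h3)
    haveI := finite_of_le (hDE.trans h3.1.1)
    have hne : commSub Y Y ≠ ⊥ := fun e => hUnab fun w hw =>
      commutatorElement_eq_one_iff_mul_comm.1 (mem_bot.1 (e ▸ mem_commSub haY (hYU hw)))
    exact (eq_of_le_of_card_ge (h.zOne_le_of_nor hz (hDE.trans h3.1.1)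
      (h.nor_of_inv h3 hDE hDinv) hne) (hDc.trans hz.ge)).symm
  -- an element of `E₁` acting outside `Z`
  obtain ⟨u₁, hu₁, f, hf, huf⟩ : ∃ u ∈ U, ∃ f ∈ E₁, ⁅f, u⁆ ∉ zOne p S := by
    by_contra! hall
    have hUle : U ≤ E₁ := hWE1 E₂ h2
    have hD1z : commSub E₁ U ≤ zOne p S := commSub_le fun e he u hu => hall u hu e he
    have hD1 : commSub E₁ U ≤ E₁ := hD1z.trans (h.zOne_le_ess h1)
    have hD1i : Inv DF E₁ (commSub E₁ U) := inv_commSub le_rfl hUle inv_self hUinv1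
    have hD1ne : commSub E₁ U ≠ ⊥ := fun e => hUnab fun w hw =>
      commutatorElement_eq_one_iff_mul_comm.1 (mem_bot.1 (e ▸ mem_commSub haE1 hw))
    have hle := orb_le_of_inv hD1i
      (h.zOne_le_of_nor hz (hD1.trans h1S) (h.nor_of_inv h1 hD1 hD1i) hD1ne)
    rw [show orb DF E₁ (zOne p S) = P from hV] at hle
    haveI := finite_of_le (zOne_le (p := p) (S := S))
    have := card_le_of_le (hle.trans hD1z)
    rw [hVc, hz] at this
    exact absurd ((Nat.pow_le_pow_iff_right hp1).1 (this.trans (pow_one p).ge)) (by norm_num)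
  have hfS := h1S hf
  set v₁ := ⁅f, u₁⁆ with hv₁
  have hv₁P : v₁ ∈ P := by
    have := hWcomm E₂ h2 u₁ hu₁ f hfS
    rw [hv₁, ← commutatorElement_inv u₁ f]; exact P.inv_mem this
  have hu₁P : u₁ ∉ P := fun hin => huf (by
    rw [hv₁, commutatorElement_eq_one_iff_mul_comm.2 (cenP u₁ hin f hf).symm]
    exact one_mem _)
  have hUgen : P ⊔ zpowers u₁ = U := by
    have hle : P ⊔ zpowers u₁ ≤ U := sup_le (hPle E₂ h2) (zpowers_le.2 hu₁)
    haveI := finite_of_le (hle.trans hUS)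
    obtain ⟨j, hj⟩ := IsPGroup.iff_card.1 (h.pS.to_le (hle.trans hUS))
    have hlt : Nat.card P < Nat.card (P ⊔ zpowers u₁ : Subgroup Ω) :=
      lt_of_le_of_ne (card_le_of_le le_sup_left) fun e => hu₁P
        ((eq_of_le_of_card_ge le_sup_left e.ge).symm ▸ mem_sup_right (mem_zpowers u₁))
    refine eq_of_le_of_card_ge hle ?_
    rw [hj, hVc] at hlt
    have := (Nat.pow_lt_pow_iff_right hp1).1 hlt
    rw [hUc, hj]
    exact Nat.pow_le_pow_right hp.out.pos (by omega)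
  have cen_U : ∀ g : Ω, (∀ v ∈ P, g * v = v * g) → g * u₁ = u₁ * g → ∀ u ∈ U, g * u = u * g :=
    fun g hv hu u hu' => ((mem_centralizer_singleton_iff).1 ((sup_le
      (fun v hvP => mem_centralizer_singleton_iff.2 (hv v hvP).symm)
      (zpowers_le.2 (mem_centralizer_singleton_iff.2 hu.symm)) :
        P ⊔ zpowers u₁ ≤ centralizer ({g} : Set Ω)) (hUgen.symm ▸ hu'))).symm
  -- in `E₂` the commutators with `U` are central
  have hU2inv : Inv DF E₂ U := inv_orb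
  have hUle2 : U ≤ E₂ := orb_le
  have hVnot2 : ¬ Inv DF E₂ P := fun hi =>
    hW2 (le_antisymm (orb_le_of_inv hi le_rfl) (hPle E₂ h2))
  have hD2 : ∀ e ∈ E₂, ∀ u ∈ U, ⁅u, e⁆ ∈ zOne p S := by
    set D := commSub U E₂
    have hDle : D ≤ P := commSub_le fun u hu e he => hWcomm E₂ h2 u hu e (h2.1.1 he)
    have hDi : Inv DF E₂ D := inv_commSub hUle2 le_rfl hU2inv inv_self
    have hDn := h.nor_of_inv h2 (hDle.trans (t.pSub_le h2)) hDi
    have hDne : D ≠ ⊥ := fun e => hne12 fun g hg => (hcentV g (h2.1.1 hg)).2 fun v hv =>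
      (commutatorElement_eq_one_iff_mul_comm.1
        (mem_bot.1 (e ▸ mem_commSub (hPle E₂ h2 hv) hg))).symm
    haveI := finite_of_le (hDle.trans t.pSub_le_S)
    have hDlt : Nat.card D < p ^ 2 := by
      rw [← hVc]
      refine lt_of_le_of_ne (card_le_of_le hDle) fun e => hVnot2 ?_
      rw [← eq_of_le_of_card_ge hDle e.ge]; exact hDi
    obtain ⟨j, hj⟩ := IsPGroup.iff_card.1 (h.pS.to_le (hDle.trans t.pSub_le_S))
    rw [hj] at hDlt
    have := (Nat.pow_lt_pow_iff_right hp1).1 hDlt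
    have heq := eq_of_le_of_card_ge (h.zOne_le_of_nor hz (hDle.trans t.pSub_le_S) hDn hDne) (by
      rw [hz, hj]
      calc p ^ j ≤ p ^ 1 := Nat.pow_le_pow_right hp.out.pos (by omega)
        _ = p := pow_one p)
    intro e he u hu
    rw [heq]; exact mem_commSub hu he
  have hcS : ∀ g ∈ S, (∀ u ∈ U, g * u = u * g) → g ∈ E₂ := by
    intro g hg hgU
    by_contra hgE
    obtain ⟨e, he, n, hen⟩ := h.exists_mul h2 hg hgE f hfS
    refine huf ?_
    have hgn : g ^ n * u₁ = u₁ * g ^ n := ((show Commute g u₁ from hgU u₁ hu₁).pow_left n).eq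
    rw [hv₁, show ⁅f, u₁⁆ = ⁅e, u₁⁆ by
      rw [← hen, commutatorElement_def, commutatorElement_def]
      calc e * g ^ n * u₁ * (e * g ^ n)⁻¹ * u₁⁻¹
          = e * (g ^ n * u₁) * (g ^ n)⁻¹ * e⁻¹ * u₁⁻¹ := by group
        _ = e * u₁ * e⁻¹ * u₁⁻¹ := by rw [hgn]; group,
      ← commutatorElement_inv u₁ e]
    exact inv_mem (hD2 e he u₁ hu₁)
  obtain ⟨m, hm, hmE⟩ : ∃ m ∈ E₂, m ∉ E₁ := SetLike.not_le_iff_exists.1 hne12
  have hmS := h2.1.1 hm
  set z₁ := ⁅m, u₁⁆ with hz₁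
  set z₂ := ⁅m, v₁⁆ with hz₂
  have hinvz : ∀ u ∈ U, ⁅m, u⁆ ∈ zOne p S := fun u hu => by
    rw [← commutatorElement_inv u m]; exact inv_mem (hD2 m hm u hu)
  have hz₁Z : z₁ ∈ zOne p S := hinvz u₁ hu₁
  have hz₂Z : z₂ ∈ zOne p S := hinvz v₁ (hPle E₂ h2 hv₁P)
  have hz₂ne : z₂ ≠ 1 := by
    intro e
    have hmv : m * v₁ = v₁ * m := commutatorElement_eq_one_iff_mul_comm.1 e
    refine hmE ((hcentV m hmS).2 fun v hv => ?_)
    have hgen : zOne p S ⊔ zpowers v₁ = P := by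
      have hle : zOne p S ⊔ zpowers v₁ ≤ P :=
        sup_le (hV ▸ h.zOne_le_vOf h1) (zpowers_le.2 hv₁P)
      haveI := finite_of_le (hle.trans t.pSub_le_S)
      obtain ⟨j, hj⟩ := IsPGroup.iff_card.1 (h.pS.to_le (hle.trans t.pSub_le_S))
      have hlt : Nat.card (zOne p S) < Nat.card (zOne p S ⊔ zpowers v₁ : Subgroup Ω) :=
        lt_of_le_of_ne (card_le_of_le le_sup_left) fun e' => huf
          ((eq_of_le_of_card_ge le_sup_left e'.ge).symm ▸ mem_sup_right (mem_zpowers v₁))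
      refine eq_of_le_of_card_ge hle ?_
      rw [hj, hz] at hlt
      have : 1 < j := (Nat.pow_lt_pow_iff_right hp1).1 ((pow_one p).symm ▸ hlt)
      rw [hVc, hj]
      exact Nat.pow_le_pow_right hp.out.pos this
    exact ((mem_centralizer_singleton_iff).1 ((sup_le
      (fun w hw => mem_centralizer_singleton_iff.2 (hw.2.1 m hmS))
      (zpowers_le.2 (mem_centralizer_singleton_iff.2 hmv.symm)) :
        zOne p S ⊔ zpowers v₁ ≤ centralizer ({m} : Set Ω)) (hgen.symm ▸ hv))).symm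
  set n := ⁅m, f⁆ with hn
  have hn2 : n ∈ E₂ := ((h.nor_ess h2).comm_mem hm hfS).1
  have hn1 : n ∈ E₁ := h.comm_mem_ess h1 hmS hfS
  have cz : ∀ z ∈ zOne p S, ∀ g ∈ S, g * z = z * g := fun z hz' g hg => (hz'.2.1 g hg).symm
  have hcv : v₁ * f = f * v₁ := cenP v₁ hv₁P f hf
  have ef : f⁻¹ * u₁ * f = v₁⁻¹ * u₁ := by
    calc f⁻¹ * u₁ * f = f⁻¹ * (v₁⁻¹ * (f * u₁ * f⁻¹)) * f := by
          rw [hv₁, commutatorElement_def]; group
      _ = v₁⁻¹ * u₁ := by rw [← mul_assoc f⁻¹, show f⁻¹ * v₁⁻¹ = v₁⁻¹ * f⁻¹ by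
            rw [← mul_inv_rev, ← mul_inv_rev, hcv]]; group
  have hu₁S := hUS hu₁
  have hv₁S := t.pSub_le_S hv₁P
  have emi : m⁻¹ * (v₁⁻¹ * u₁) * m = z₂ * v₁⁻¹ * (z₁⁻¹ * u₁) := by
    have a1 : m⁻¹ * u₁ * m = z₁⁻¹ * u₁ := by
      calc m⁻¹ * u₁ * m = m⁻¹ * (z₁⁻¹ * (m * u₁ * m⁻¹)) * m := by
            rw [hz₁, commutatorElement_def]; group
        _ = z₁⁻¹ * u₁ := by
            rw [← mul_assoc m⁻¹, cz _ (inv_mem hz₁Z) m⁻¹ (S.inv_mem hmS)]; group
    have a2 : m⁻¹ * v₁ * m = z₂⁻¹ * v₁ := by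
      calc m⁻¹ * v₁ * m = m⁻¹ * (z₂⁻¹ * (m * v₁ * m⁻¹)) * m := by
            rw [hz₂, commutatorElement_def]; group
        _ = z₂⁻¹ * v₁ := by
            rw [← mul_assoc m⁻¹, cz _ (inv_mem hz₂Z) m⁻¹ (S.inv_mem hmS)]; group
    calc m⁻¹ * (v₁⁻¹ * u₁) * m = (m⁻¹ * v₁ * m)⁻¹ * (m⁻¹ * u₁ * m) := by group
      _ = v₁⁻¹ * z₂ * (z₁⁻¹ * u₁) := by rw [a1, a2]; group
      _ = z₂ * v₁⁻¹ * (z₁⁻¹ * u₁) := by rw [cz _ hz₂Z _ (S.inv_mem hv₁S)]
  have hnu : n * u₁ * n⁻¹ = z₂ * u₁ := by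
    have b1 : f * (z₂ * v₁⁻¹ * (z₁⁻¹ * u₁)) * f⁻¹ = z₂ * z₁⁻¹ * u₁ := by
      calc f * (z₂ * v₁⁻¹ * (z₁⁻¹ * u₁)) * f⁻¹
          = (f * z₂) * (v₁⁻¹ * z₁⁻¹) * u₁ * f⁻¹ := by group
        _ = (z₂ * f) * (z₁⁻¹ * v₁⁻¹) * u₁ * f⁻¹ := by
          rw [cz _ hz₂Z f hfS, cz _ (inv_mem hz₁Z) _ (S.inv_mem hv₁S)]
        _ = z₂ * (f * z₁⁻¹) * v₁⁻¹ * u₁ * f⁻¹ := by group
        _ = z₂ * (z₁⁻¹ * f) * (f⁻¹ * u₁ * f) * f⁻¹ := by
          rw [cz _ (inv_mem hz₁Z) f hfS, ef]; group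
        _ = z₂ * z₁⁻¹ * u₁ := by group
    calc n * u₁ * n⁻¹ = m * (f * (m⁻¹ * (f⁻¹ * u₁ * f) * m) * f⁻¹) * m⁻¹ := by
          rw [hn, commutatorElement_def]; group
      _ = m * (z₂ * z₁⁻¹ * u₁) * m⁻¹ := by rw [ef, emi, b1]
      _ = (m * (z₂ * z₁⁻¹)) * u₁ * m⁻¹ := by group
      _ = z₂ * z₁⁻¹ * (m * u₁ * m⁻¹) := by rw [cz _ (mul_mem hz₂Z (inv_mem hz₁Z)) m hmS]; group
      _ = z₂ * u₁ := by rw [hz₁, commutatorElement_def]; group
  set z₃ := ⁅a, u₁⁆ with hz₃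
  have hz₃Z : z₃ ∈ zOne p S := hDz ▸ mem_commSub haY (hYU hu₁)
  have hz₃ne : z₃ ≠ 1 := fun e => hUnab (cen_U a (fun v hv => (cenP v hv a haE1).symm)
    (commutatorElement_eq_one_iff_mul_comm.1 e))
  have hapow : ∀ i : ℕ, a ^ i * u₁ * (a ^ i)⁻¹ = z₃ ^ i * u₁ := by
    intro i
    induction i with
    | zero => simp
    | succ i ih =>
      calc a ^ (i + 1) * u₁ * (a ^ (i + 1))⁻¹ = a * (a ^ i * u₁ * (a ^ i)⁻¹) * a⁻¹ := by
            rw [pow_succ']; group
        _ = a * z₃ ^ i * u₁ * a⁻¹ := by rw [ih]; group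
        _ = z₃ ^ i * (a * u₁ * a⁻¹) := by rw [cz _ (pow_mem hz₃Z i) a haS]; group
        _ = z₃ ^ i * z₃ * u₁ := by rw [hz₃, commutatorElement_def]; group
        _ = z₃ ^ (i + 1) * u₁ := by rw [pow_succ]
  obtain ⟨i, hi⟩ : ∃ i : ℕ, z₃ ^ i = z₂ := by
    haveI := finite_of_le (zOne_le (p := p) (S := S))
    obtain ⟨i, hi⟩ := mem_powers_iff_mem_zpowers.2 (mem_zpowers_of_prime_card hz
      (show (⟨z₃, hz₃Z⟩ : zOne p S) ≠ 1 from fun e => hz₃ne (congrArg Subtype.val e))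
      (g' := (⟨z₂, hz₂Z⟩ : zOne p S)))
    exact ⟨i, congrArg Subtype.val hi⟩
  have ha2 : a ∈ E₂ := by
    have hai : a ^ i ∈ E₂ := by
      have hg : n⁻¹ * a ^ i ∈ E₂ := by
        refine hcS _ (S.mul_mem (S.inv_mem (h1S hn1)) (S.pow_mem haS i)) (cen_U _ (fun v hv => ?_) ?_)
        · exact (cenP v hv _ (E₁.mul_mem (E₁.inv_mem hn1) (E₁.pow_mem haE1 i))).symm
        · calc n⁻¹ * a ^ i * u₁ = n⁻¹ * (a ^ i * u₁ * (a ^ i)⁻¹) * a ^ i := by group
            _ = n⁻¹ * (z₂ * u₁) * a ^ i := by rw [hapow, hi]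
            _ = u₁ * (n⁻¹ * a ^ i) := by rw [← hnu]; group
      have := E₂.mul_mem hn2 hg
      rwa [mul_inv_cancel_left] at this
    have hnd : ¬ p ∣ i := by
      rintro ⟨q, rfl⟩
      refine hz₂ne ?_
      rw [← hi, pow_mul, hz₃Z.2.2, one_pow]
    obtain ⟨u, v, huv⟩ : IsCoprime (i : ℤ) (p : ℤ) := Int.isCoprime_iff_nat_coprime.2 (by
      simpa using ((Nat.Prime.coprime_iff_not_dvd hp.out).2 hnd).symm)
    have hpow : a ^ (u * i + v * p : ℤ) ∈ E₂ := by
      rw [zpow_add, mul_comm u, mul_comm v, zpow_mul, zpow_mul, zpow_natCast, zpow_natCast,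
        hYexp a haY, one_zpow, mul_one]
      exact E₂.zpow_mem hai u
    rwa [huv, zpow_one] at hpow
  -- the images of `Y` in `E₂`
  have hY2 : Y ≤ E₂ := hYgen ▸ sup_le hUle2 (zpowers_le.2 ha2)
  set M := orb DF E₂ Y with hM
  have hMS : M ≤ S := orb_le.trans h2.1.1
  haveI := finite_of_le hMS
  have hYM : Y ≤ M := le_orb hY2
  have hYstep : ∀ y ∈ Y, ∀ s ∈ S, ⁅y, s⁆ ∈ U :=
    comm_step h.pS hYU hYS hUnor hYnor hYc
  have hMcomm : ∀ y ∈ M, ∀ e ∈ E₂, ⁅y, e⁆ ∈ U := by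
    intro y hy e he
    refine comm_induction (S := S) hUnor (fun w hw => hMS (Subgroup.subset_closure hw)) ?_ y hy
    rintro _ ⟨α, hα, w, hwE, hw, rfl⟩
    rw [show ⁅apl α w, e⁆ = apl α ⁅w, apl α⁻¹ e⁆ by
      rw [apl_map_comm α hwE (apl_mem _ he), apl_apl_inv α he]]
    have hm' := hYstep w hw _ (h2.1.1 (apl_mem α⁻¹ he))
    exact hU2inv α hα _ (hUle2 hm') hm'
  have hMexp : ∀ x ∈ M, x ^ p ∈ zOne p S := by
    refine pow_mem_of_gens h.odd nor_zOne (fun w hw => hMS (Subgroup.subset_closure hw)) ?_ ?_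
    · rintro _ ⟨α, -, w, hwE, hw, rfl⟩
      rw [← apl_map_pow α hwE, hYexp w hw, apl_map_one]; exact one_mem _
    · intro x hx y hy c hc
      exact hD2 c (orb_le hc) _ (hMcomm x hx y (orb_le hy))
  have hzU : zOne p S ≤ U := (hV ▸ h.zOne_le_vOf h1).trans (hPle E₂ h2)
  obtain ⟨hMc, c, hcM, hcw⟩ := h.wide_section (N := zOne p S) (A := U) (M := M) hzU (hYU.trans hYM)
    hMS (fun g hg x hx => nor_zOne g (hMS hg) x hx) (by rw [hUc, hz]; ring)
    (fun u hu g hg => hD2 g (orb_le hg) u hu) (fun x hx y hy => hMcomm x hx y (orb_le hy)) hMexp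
  obtain ⟨k, hk⟩ := IsPGroup.iff_card.1 (h.pS.to_le hMS)
  have hk5 : k ≤ 5 := by
    rw [hk, hz, ← pow_succ] at hMc
    exact (Nat.pow_le_pow_iff_right hp1).1 hMc
  have hk4 : 4 ≤ k := by
    have := card_le_of_le hYM
    rw [hYc, hUc, hk, show p * p ^ 3 = p ^ 4 by ring] at this
    exact (Nat.pow_le_pow_iff_right hp1).1 this
  rcases (show k = 4 ∨ k = 5 by omega) with rfl | rfl
  · -- then `V`, the centre of `Y`, is kept by `E₂`
    have hMY : M = Y := (eq_of_le_of_card_ge hYM (by rw [hk, hYc, hUc]; ring_nf; exact le_rfl)).symm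
    refine hVnot2 fun α hα v hvE hv => ?_
    have hvY : v ∈ Y := hYU (hPle E₂ h2 hv)
    have hw : apl α v ∈ Y := hMY ▸ inv_orb α hα v hvE (le_orb hY2 hvY)
    have hcen : ∀ y ∈ Y, apl α v * y = y * apl α v := by
      intro y hy
      have hy' : apl α⁻¹ y ∈ Y := hMY ▸ inv_orb _ (inv_mem hα) y (hY2 hy) (le_orb hY2 hy)
      rw [← apl_apl_inv α (hY2 hy), ← apl_map_mul α hvE (apl_mem _ (hY2 hy)),
        ← apl_map_mul α (apl_mem _ (hY2 hy)) hvE, cenP v hv _ (hY1 hy')]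
    -- an element of `Y` central in `Y` lies in `P`
    obtain ⟨u, hu, j, hj⟩ := exists_mul_zpow haN (hYgen.symm ▸ hw : apl α v ∈ U ⊔ zpowers a)
    obtain ⟨j', hj'⟩ : ∃ j' : ℕ, a ^ j' = a ^ j :=
      (isOfFinOrder_iff_pow_eq_one.2 ⟨p, hp.out.pos, hYexp a haY⟩).mem_powers_iff_mem_zpowers.2
        (zpow_mem (mem_zpowers a) j)
    rw [← hj'] at hj
    have hz3o : orderOf z₃ = p := orderOf_eq_prime hz₃Z.2.2 hz₃ne
    have hj0 : p ∣ j' := by
      have h1' := hcen u₁ (hYU hu₁)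
      rw [← hj] at h1'
      have h2' : u * (z₃ ^ j' * u₁) = u * u₁ := by
        rw [← hapow]
        calc u * (a ^ j' * u₁ * (a ^ j')⁻¹) = (u * a ^ j' * u₁) * (a ^ j')⁻¹ := by group
          _ = (u₁ * (u * a ^ j')) * (a ^ j')⁻¹ := by rw [h1']
          _ = u * u₁ := by rw [← mul_assoc u₁, mul_inv_cancel_right, hW E₂ h2 u hu u₁ hu₁]
      rw [mul_right_inj, mul_eq_right] at h2'
      exact hz3o ▸ orderOf_dvd_of_pow_eq_one h2'
    obtain ⟨q, rfl⟩ := hj0
    rw [pow_mul, hYexp a haY, one_pow, mul_one] at hj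
    rw [← hj] at hcen ⊢
    obtain ⟨w, hwP, l, hl⟩ := exists_mul_zpow (hVnor.mem_normalizer hu₁S) (hUgen.symm ▸ hu)
    obtain ⟨l', hl'⟩ : ∃ l' : ℕ, u₁ ^ l' = u₁ ^ l :=
      (isOfFinOrder_iff_pow_eq_one.2 ⟨p, hp.out.pos, hWexp E₂ h2 u₁ hu₁⟩).mem_powers_iff_mem_zpowers.2
        (zpow_mem (mem_zpowers u₁) l)
    rw [← hl'] at hl
    have hwa : w * a = a * w := cenP w hwP a haE1
    have hl0 : p ∣ l' := by
      have h1' := hcen a haY
      rw [← hl] at h1'
      have e : ∀ r : ℕ, a * u₁ ^ r * a⁻¹ = z₃ ^ r * u₁ ^ r := fun r => by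
        rw [← (show Commute z₃ u₁ from hz₃Z.2.1 u₁ hu₁S).mul_pow, ← conj_pow, hz₃,
          commutatorElement_def, inv_mul_cancel_right]
      have h2' : a * u₁ ^ l' * a⁻¹ = u₁ ^ l' := by
        have h3' : a * (w * u₁ ^ l') * a⁻¹ = w * u₁ ^ l' := by
          rw [← h1', mul_inv_cancel_right]
        rw [← mul_assoc, ← hwa] at h3'
        have : w * (a * u₁ ^ l' * a⁻¹) = w * u₁ ^ l' := by rw [← h3']; group
        exact mul_left_cancel this
      rw [e, mul_eq_right] at h2'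
      exact hz3o ▸ orderOf_dvd_of_pow_eq_one h2'
    obtain ⟨q', rfl⟩ := hl0
    rw [pow_mul, hWexp E₂ h2 u₁ hu₁, one_pow, mul_one] at hl
    exact hl ▸ hwP
  · -- the commutators give a second plane
    set D := commSub M M ⊔ zOne p S with hD
    have hDU : D ≤ U := sup_le (commSub_le fun x hx y hy => hMcomm x hx y (orb_le hy)) hzU
    have hDi : Inv DF E₂ (commSub M M) := inv_commSub orb_le orb_le inv_orb inv_orb
    have hzinv : Inv DF E₂ (zOne p S) := by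
      have hvz : vOf p S DF E₂ = zOne p S := by
        by_contra hne
        exact hne12 (huniq E₂ ⟨h2, hne⟩).le
      rw [← hvz]; exact inv_orb
    have hDinv2 : Inv DF E₂ D := by
      intro α hα x _ hx
      have hDE : D ≤ E₂ := hDU.trans hUle2
      have hn : commSub M M ≤ normalizer ((zOne p S : Subgroup Ω) : Set Ω) :=
        ((le_sup_left.trans hDU).trans hUS).trans nor_zOne.le_normalizer
      rw [← SetLike.mem_coe, hD, coe_mul_of_left_le_normalizer_right _ _ hn] at hx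
      obtain ⟨y, hy, z, hz', rfl⟩ := hx
      rw [apl_map_mul α (hDE (mem_sup_left hy)) (hDE (mem_sup_right hz'))]
      exact mul_mem_sup (hDi α hα y (hDE (mem_sup_left hy)) hy)
        (hzinv α hα z (hDE (mem_sup_right hz')) hz')
    have hDS : D ≤ S := hDU.trans hUS
    haveI := finite_of_le hDS
    -- `D` has order `p²`
    have hDle2 : Nat.card D ≤ p ^ 2 := by
      haveI := finite_of_le (zOne_le (p := p) (S := S))
      have hcn : c ∈ normalizer ((zOne p S : Subgroup Ω) : Set Ω) := nor_zOne.mem_normalizer (hMS hcM)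
      have hle : D ≤ zOne p S ⊔ zpowers c := sup_le (commSub_le fun x hx y hy => by
        obtain ⟨n, hn⟩ := hcw x hx y hy
        rw [show ⁅x, y⁆ = c ^ n * ((c ^ n)⁻¹ * ⁅x, y⁆) by group]
        exact mul_mem (mem_sup_right (zpow_mem (mem_zpowers c) n)) (mem_sup_left hn)) le_sup_left
      have hsub : ((zOne p S ⊔ zpowers c : Subgroup Ω) : Set Ω) ⊆
          Set.range fun q : zOne p S × Fin p => (q.1 : Ω) * c ^ (q.2 : ℕ) := by
        intro x hx
        haveI : Finite (zpowers c) := finite_of_le (zpowers_le.2 (hMS hcM))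
        obtain ⟨w, hw, n, rfl⟩ := exists_mul_zpow hcn hx
        obtain ⟨n', hn'⟩ : ∃ n' : ℕ, c ^ n' = c ^ n :=
          (isOfFinOrder_iff_pow_eq_one.2
          ⟨p * p, Nat.mul_pos hp.out.pos hp.out.pos, by rw [pow_mul, (hMexp c hcM).2.2]⟩).mem_powers_iff_mem_zpowers.2
            (zpow_mem (mem_zpowers c) n)
        refine ⟨(⟨w * (c ^ p) ^ (n' / p), mul_mem hw (pow_mem (hMexp c hcM) _)⟩,
          ⟨n' % p, Nat.mod_lt _ hp.out.pos⟩), ?_⟩
        simp only
        rw [mul_assoc, ← pow_mul, ← pow_add, Nat.div_add_mod, hn']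
      haveI := finite_of_le (sup_le (zOne_le (p := p) (S := S)) (zpowers_le.2 (hMS hcM)))
      refine (card_le_of_le hle).trans ((Nat.card_mono (Set.finite_range _) hsub).trans
        ((Finite.card_range_le _).trans ?_))
      rw [Nat.card_prod, hz, Nat.card_fin, pow_two]
    have hDne : D ≠ zOne p S := by
      intro e
      have := h.card_section (N := zOne p S) (A := M) (hzU.trans (hYU.trans hYM)) hMS
        (fun g hg x hx => nor_zOne g (hMS hg) x hx)
        (fun x hx y hy => e ▸ mem_sup_left (mem_commSub hx hy)) hMexp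
      rw [hk, hz, ← pow_succ] at this
      exact absurd ((Nat.pow_le_pow_iff_right hp1).1 this) (by norm_num)
    have hDc : Nat.card D = p * Nat.card (zOne p S) := by
      obtain ⟨j, hj⟩ := IsPGroup.iff_card.1 (h.pS.to_le hDS)
      have hlt : Nat.card (zOne p S) < Nat.card D :=
        lt_of_le_of_ne (card_le_of_le le_sup_right) fun e =>
          hDne (eq_of_le_of_card_ge le_sup_right e.ge).symm
      rw [hj, hz] at hlt
      rw [hj] at hDle2
      have : 1 < j := (Nat.pow_lt_pow_iff_right hp1).1 ((pow_one p).symm ▸ hlt)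
      have := (Nat.pow_le_pow_iff_right hp1).1 hDle2
      rw [hj, hz, show j = 2 by omega, pow_two]
    have hDnor : Nor S D := h.nor_of_inv h2 (hDU.trans hUle2) hDinv2
    have hDstep := comm_step h.pS (le_sup_right : zOne p S ≤ D) hDS nor_zOne hDnor hDc
    have hnP : ¬ D ≤ P := fun hle => hVnot2 (by
      rw [← eq_of_le_of_card_ge hle (by rw [hVc, hDc, hz, pow_two])]
      exact hDinv2)
    obtain ⟨d, hd, hdP⟩ := SetLike.not_le_iff_exists.1 hnP
    have hPd : P ⊔ zpowers d = U := by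
      have hle : P ⊔ zpowers d ≤ U := sup_le (hPle E₂ h2) (zpowers_le.2 (hDU hd))
      haveI := finite_of_le (hle.trans hUS)
      obtain ⟨j, hj⟩ := IsPGroup.iff_card.1 (h.pS.to_le (hle.trans hUS))
      have hlt : Nat.card P < Nat.card (P ⊔ zpowers d : Subgroup Ω) :=
        lt_of_le_of_ne (card_le_of_le le_sup_left) fun e => hdP
          ((eq_of_le_of_card_ge le_sup_left e.ge).symm ▸ mem_sup_right (mem_zpowers d))
      refine eq_of_le_of_card_ge hle ?_
      rw [hj, hVc] at hlt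
      have := (Nat.pow_lt_pow_iff_right hp1).1 hlt
      rw [hUc, hj]
      exact Nat.pow_le_pow_right hp.out.pos (by omega)
    obtain ⟨w, hwP, l, hl⟩ := exists_mul_zpow (hVnor.mem_normalizer (hDS hd)) (hPd.symm ▸ hu₁)
    refine huf ?_
    rw [hv₁, ← hl]
    have e : ⁅f, w * d ^ l⁆ = ⁅f, w⁆ * (w * ⁅f, d ^ l⁆ * w⁻¹) := by
      simp only [commutatorElement_def]; group
    rw [e, commutatorElement_eq_one_iff_mul_comm.2 (cenP w hwP f hf).symm, one_mul]
    refine nor_zOne w (t.pSub_le_S hwP) _ ?_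
    rw [← commutatorElement_inv (d ^ l) f]
    exact inv_mem (hDstep _ (D.zpow_mem hd l) f hfS)

end Cfsg.Agent.FusRankThreeChar
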