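import Cfsg.Agent.FusRankThreeChar.Red

/-!
A central plane on which the transvections of the essential subgroups leave a common line: such a
line is normal in the system.
-/

set_option autoImplicit false
set_option linter.style.haveILetI false
set_option linter.unusedSectionVars false

namespace Cfsg.Agent.FusRankThreeChar

open Cfsg Cfsg.FusionSystem Cfsg.Agent.FusSys Subgroup
open Cfsg.Agent.RankThreeEss (Elem)
open Cfsg.Agent.FusRankThreeNormal (Nor zOne mem_zOne zOne_le nor_zOne inf_zOne_ne_bot apl_map_mul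
  apl_map_one apl_map_inv apl_map_pow apl_map_comm apl_injective commSub mem_commSub commSub_le
  comm_induction comm_step pow_mem_of_gens pow_apply_fix card_elem_le sectional_of_le exists_coord
  isPGroup_of_stab Neg exists_neg image_sylow sup_zpowers_eq central_of_two mem_bottom
  pow_eq_one_of_mem exists_mul_zpow exists_mul_npow exponent_p_of_gens three_le)
open scoped commutatorElement

universe u

variable {Ω : Type u} [Group Ω] {S E Q K₁ K₂ : Subgroup Ω} {p : ℕ}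
variable {D : (X : Subgroup Ω) → Subgroup (MulAut X)}

/-- Restriction to an invariant subgroup. -/
noncomputable def resHom (hi : Inv D E Q) (hQ : Q ≤ E) : D E →* MulAut Q where
  toFun α :=
    { toFun := fun x => ⟨apl (α : MulAut E) x, hi α α.2 x (hQ x.2) x.2⟩
      invFun := fun x => ⟨apl ((α⁻¹ : D E) : MulAut E) x,
        hi _ (α⁻¹).2 x (hQ x.2) x.2⟩
      left_inv := fun x => Subtype.ext (apl_inv_apl (α : MulAut E) (hQ x.2))
      right_inv := fun x => Subtype.ext (apl_apl_inv (α : MulAut E) (hQ x.2))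
      map_mul' := fun x y => Subtype.ext (apl_map_mul _ (hQ x.2) (hQ y.2)) }
  map_one' := MulEquiv.ext fun x => Subtype.ext (apl_one (hQ x.2))
  map_mul' α β := MulEquiv.ext fun x => Subtype.ext (apl_mul _ _ (hQ x.2))

theorem resHom_apply (hi : Inv D E Q) (hQ : Q ≤ E) (α : D E) (x : Q) :
    ((resHom hi hQ α x : Q) : Ω) = apl (α : MulAut E) x := rfl

variable [Finite S] [hp : Fact p.Prime]

/-- The data of the line lemma at one essential subgroup. -/
structure TvData (p : ℕ) (S : Subgroup Ω) (D : (X : Subgroup Ω) → Subgroup (MulAut X))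
    (Z L B V : Subgroup Ω) : Prop where
  inv : Inv D B V
  le : V ≤ B
  zle : Z ≤ V
  card : Nat.card V = p ^ 3
  elem : Elem p V
  cent : ∀ x ∈ S, (∀ v ∈ V, x * v = v * x) → x ∈ B
  cen : ∀ e ∈ B, ∀ v ∈ V, e * v = v * e
  comm : ∀ s ∈ S, ∀ v ∈ V, ⁅s, v⁆ ∈ L

namespace Red

variable (h : Red p S D K₁ K₂)
include h

/-- The automorphisms of `S` commute on the plane. -/
theorem comm_on {Z L : Subgroup Ω} (hZ : Z ≤ zOne p S) (hZc : Nat.card Z = p ^ 2) (hZi : Inv D S Z)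
    (hL : L ≤ Z) (hLc : Nat.card L = p) (hLi : Inv D S L) :
    ∀ β₁ ∈ D S, ∀ β₂ ∈ D S, ∀ z ∈ Z,
      apl β₁ (apl β₂ z) = apl β₂ (apl β₁ z) := by
  have hZS : Z ≤ S := hZ.trans zOne_le
  haveI := finite_of_le hZS
  haveI : Finite (MulAut S) := Finite.of_injective _ MulEquiv.toEquiv_injective
  haveI : Finite (MulAut Z) := Finite.of_injective _ MulEquiv.toEquiv_injective
  have hZp : IsPGroup p Z := h.pS.to_le hZS
  set res := resHom hZi hZS with hres
  -- the image has no `p`-elements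
  obtain ⟨R, hR⟩ := h.syl S (Or.inr rfl)
  have hRtriv : (R : Subgroup (D S)).map res = ⊥ := by
    refine (Subgroup.map_eq_bot_iff _).2 fun σ hσ => ?_
    rw [hR] at hσ
    obtain ⟨s, hs, -, hsx⟩ := mem_autInducedBy_iff.1 hσ
    refine MulEquiv.ext fun z => Subtype.ext ?_
    rw [hres, resHom_apply, show apl (σ : MulAut S) (z : Ω) = _ from hsx z (hZS z.2),
      ← (hZ z.2).2.1 s hs, mul_inv_cancel_right]
    rfl
  intro β₁ hβ₁ β₂ hβ₂ z hz
  set c : D S := ⟨β₁, hβ₁⟩ * ⟨β₂, hβ₂⟩ * (⟨β₂, hβ₂⟩ * ⟨β₁, hβ₁⟩ : D S)⁻¹ with hc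
  -- a generator of `L` and of `Z` modulo `L`
  obtain ⟨l, hlL, hl⟩ : ∃ l ∈ L, ∀ x ∈ L, ∃ n : ℕ, l ^ n = x := by
    haveI := finite_of_le (hL.trans hZS)
    haveI : IsCyclic L := isCyclic_of_prime_card hLc
    obtain ⟨g, hg⟩ := IsCyclic.exists_generator (α := L)
    refine ⟨g, g.2, fun x hx => ?_⟩
    obtain ⟨n, hn⟩ := mem_powers_iff_mem_zpowers.2 (hg ⟨x, hx⟩)
    exact ⟨n, congrArg Subtype.val hn⟩
  obtain ⟨w, hwZ, hwL⟩ : ∃ w ∈ Z, w ∉ L := SetLike.not_le_iff_exists.1 fun hle => by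
    haveI := finite_of_le (hL.trans hZS)
    have := card_le_of_le hle
    rw [hZc, hLc] at this
    have := (Nat.pow_le_pow_iff_right hp.out.one_lt).1 (this.trans (pow_one p).ge)
    omega
  have hZcomm : ∀ x ∈ Z, ∀ y ∈ Z, x * y = y * x := fun x hx y hy => (hZ hx).2.1 y (hZS hy)
  haveI hLn : (L.subgroupOf Z).Normal := ⟨fun x hx g => by
    show (g : Ω) * x * (g : Ω)⁻¹ ∈ L
    rw [← hZcomm x x.2 g g.2, mul_inv_cancel_right]; exact hx⟩
  have hidx : (L.subgroupOf Z).index = p := by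
    have h1 := (L.subgroupOf Z).card_mul_index
    rw [hZc, Nat.card_congr (subgroupOfEquivOfLe hL).toEquiv, hLc, pow_two] at h1
    exact Nat.eq_of_mul_eq_mul_left hp.out.pos h1
  haveI : IsCyclic (Z ⧸ L.subgroupOf Z) :=
    isCyclic_of_prime_card (p := p) (by rw [← index_eq_card, hidx])
  have hmod : ∀ x ∈ Z, ∃ n : ℕ, (w ^ n)⁻¹ * x ∈ L := by
    intro x hx
    have hne : ((⟨w, hwZ⟩ : Z) : Z ⧸ L.subgroupOf Z) ≠ 1 := fun e =>
      hwL (mem_subgroupOf.1 ((QuotientGroup.eq_one_iff _).1 e))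
    obtain ⟨n, hn⟩ := mem_powers_iff_mem_zpowers.2 (mem_zpowers_of_prime_card
      (by rw [← index_eq_card, hidx]) hne (g' := ((⟨x, hx⟩ : Z) : Z ⧸ L.subgroupOf Z)))
    change ((⟨w, hwZ⟩ : Z) : Z ⧸ L.subgroupOf Z) ^ n = _ at hn
    rw [← QuotientGroup.mk_pow, QuotientGroup.eq] at hn
    exact ⟨n, mem_subgroupOf.1 hn⟩
  have hZm : ∀ β ∈ D S, ∀ x ∈ Z, apl β x ∈ Z := fun β hβ x hx => hZi β hβ x (hZS hx) hx
  have hLm : ∀ β ∈ D S, ∀ x ∈ L, apl β x ∈ L := fun β hβ x hx =>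
    hLi β hβ x (hZS (hL hx)) hx
  have swapL : ∀ x ∈ L, apl β₁ (apl β₂ x) = apl β₂ (apl β₁ x) := by
    intro x hx
    obtain ⟨n, rfl⟩ := hl x hx
    obtain ⟨i, hi⟩ := hl _ (hLm β₁ hβ₁ l hlL)
    obtain ⟨j, hj⟩ := hl _ (hLm β₂ hβ₂ l hlL)
    rw [apl_map_pow _ (hZS (hL hlL)), apl_map_pow _ (hZS (hL hlL)), ← hi, ← hj, ← pow_mul, ← pow_mul,
      apl_map_pow _ (hZS (hL hlL)), apl_map_pow _ (hZS (hL hlL)), ← hi, ← hj, ← pow_mul, ← pow_mul,
      show i * (j * n) = j * (i * n) by ring]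
  have swapZ : ∀ x ∈ Z, (apl β₁ (apl β₂ x))⁻¹ * apl β₂ (apl β₁ x) ∈ L := by
    have key : ∀ β ∈ D S, ∀ x ∈ Z, ∀ (n i : ℕ), (w ^ n)⁻¹ * x ∈ L →
        (w ^ i)⁻¹ * apl β w ∈ L → (w ^ (i * n))⁻¹ * apl β x ∈ L := by
      intro β hβ x hx n i hn hi
      have e : apl β x = apl β w ^ n * apl β ((w ^ n)⁻¹ * x) := by
        rw [← apl_map_pow β (hZS hwZ), ← apl_map_mul β (S.pow_mem (hZS hwZ) n) (hZS (hL hn)),
          mul_inv_cancel_left]
      rw [e, ← mul_assoc, pow_mul, ← inv_pow,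
        ← (show Commute (w ^ i)⁻¹ (apl β w) from hZcomm _ (Z.inv_mem (Z.pow_mem hwZ i)) _
          (hZm β hβ w hwZ)).mul_pow]
      exact L.mul_mem (L.pow_mem hi n) (hLm β hβ _ hn)
    intro x hx
    obtain ⟨n, hn⟩ := hmod x hx
    obtain ⟨i, hi⟩ := hmod _ (hZm β₁ hβ₁ w hwZ)
    obtain ⟨j, hj⟩ := hmod _ (hZm β₂ hβ₂ w hwZ)
    have h1 := key β₁ hβ₁ _ (hZm β₂ hβ₂ x hx) _ i (key β₂ hβ₂ x hx n j hn hj) hi
    have h2 := key β₂ hβ₂ _ (hZm β₁ hβ₁ x hx) _ j (key β₁ hβ₁ x hx n i hn hi) hj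
    rw [show j * (i * n) = i * (j * n) by ring] at h2
    have h3 := L.mul_mem (L.inv_mem h1) h2
    rwa [mul_inv_rev, inv_inv, mul_assoc, mul_inv_cancel_left] at h3
  set d := res (⟨β₁, hβ₁⟩ * ⟨β₂, hβ₂⟩) with hd
  set d' := res (⟨β₂, hβ₂⟩ * ⟨β₁, hβ₁⟩) with hd'
  have hdapp : ∀ y : Z, ((d y : Z) : Ω) = apl β₁ (apl β₂ y) ∧
      ((d' y : Z) : Ω) = apl β₂ (apl β₁ y) := fun y => by
    rw [hd, hd', hres, resHom_apply, resHom_apply, Subgroup.coe_mul, Subgroup.coe_mul,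
      apl_mul _ _ (hZS y.2), apl_mul _ _ (hZS y.2)]
    exact ⟨rfl, rfl⟩
  have hcd : res c = d * d'⁻¹ := by rw [hc, map_mul, map_inv]
  have hp' : IsPGroup p (closure ({res c} : Set (MulAut Z))) := by
    refine isPGroup_of_stab hZp (C0 := L.subgroupOf Z) (T' := L.subgroupOf Z) le_rfl _ ?_ ?_ ?_
    · rintro _ rfl y hy
      rw [hcd, MulAut.mul_apply]
      have hu : d'⁻¹ y ∈ L.subgroupOf Z := by
        show apl _ ((y : Ω)) ∈ L
        exact hLm _ (Subtype.prop _) _ hy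
      set u := d'⁻¹ y with hu'
      have hy' : y = d' u := by
        rw [hu', ← MulAut.mul_apply, mul_inv_cancel, MulAut.one_apply]
      rw [hy']
      exact Subtype.ext (by rw [(hdapp u).1, (hdapp u).2]; exact swapL _ hu)
    all_goals
      first
      | (rintro _ rfl y -)
      | (rintro _ rfl y)
      rw [hcd, MulAut.mul_apply]
      set u := d'⁻¹ y with hu'
      have hy' : y = d' u := by
        rw [hu', ← MulAut.mul_apply, mul_inv_cancel, MulAut.one_apply]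
      rw [hy']
      show ((d' u : Z) : Ω)⁻¹ * (d u : Z) ∈ L
      rw [(hdapp u).1, (hdapp u).2]
      have h0 := L.inv_mem (swapZ _ u.2)
      rwa [mul_inv_rev, inv_inv] at h0
  have hbot := image_sylow res R (K := closure ({res c} : Set (MulAut Z))) hp'
    (hRtriv ▸ bot_le) ((closure_le _).2 (Set.singleton_subset_iff.2 ⟨c, rfl⟩))
  rw [hRtriv, closure_eq_bot_iff, Set.singleton_subset_iff, Set.mem_singleton_iff, hcd,
    mul_inv_eq_one] at hbot
  have := congrArg (fun f : MulAut Z => ((f ⟨z, hz⟩ : Z) : Ω)) hbot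
  simpa [(hdapp ⟨z, hz⟩).1, (hdapp ⟨z, hz⟩).2] using this

set_option maxHeartbeats 1600000 in
/-- The line lemma. -/
theorem line_false {Z L : Subgroup Ω} (hZ : Z ≤ zOne p S) (hZc : Nat.card Z = p ^ 2)
    (hZi : Inv D S Z) (hL : L ≤ Z) (hLc : Nat.card L = p) (hLi : Inv D S L)
    (hB : ∀ B, Ess S K₁ K₂ B → Inv D B Z ∨ ∃ V, TvData p S D Z L B V) : False := by
  classical
  have hZS : Z ≤ S := hZ.trans zOne_le
  haveI := finite_of_le hZS
  have hLS : L ≤ S := hL.trans hZS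
  haveI := finite_of_le hLS
  have hZB : ∀ B, Ess S K₁ K₂ B → Z ≤ B := fun B hB' => hZ.trans (h.zOne_le_ess hB')
  have hcomm := h.comm_on hZ hZc hZi hL hLc hLi
  have hsq1 : ∀ x ∈ Z, x * x = 1 → x = 1 := fun x hx hxx => by
    obtain ⟨k, hk⟩ := h.odd
    have := (hZ hx).2.2
    rwa [hk, pow_succ, pow_mul, pow_two, hxx, one_pow, one_mul] at this
  -- the lines coming from pairs
  set Line : Subgroup Ω → Prop := fun R => ∃ τ ∈ D S, R ≤ Z ∧ Nat.card R = p ∧
    R ⊓ L = ⊥ ∧ (∀ r ∈ R, apl τ r = r) ∧ ∀ l ∈ L, apl τ l = l⁻¹ with hLine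
  have decomp : ∀ R, Line R → ∀ z ∈ Z, ∃ r ∈ R, ∃ l ∈ L, r * l = z := by
    rintro R ⟨τ, -, hR, hRc, hRL, -, -⟩ z hz
    haveI := finite_of_le (hR.trans hZS)
    have hsub : R ⊔ L = Z := by
      refine eq_of_le_of_card_ge (sup_le hR hL) ?_
      let f : R × L → (R ⊔ L : Subgroup Ω) := fun q => ⟨q.1 * q.2, mul_mem_sup q.1.2 q.2.2⟩
      haveI := finite_of_le (sup_le (hR.trans hZS) hLS)
      have hf : Function.Injective f := by
        rintro ⟨a, b⟩ ⟨c, d⟩ hab
        have h1 : (a : Ω) * b = c * d := congrArg Subtype.val hab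
        have h2 : (c : Ω)⁻¹ * a = d * (b : Ω)⁻¹ := by
          rw [inv_mul_eq_iff_eq_mul, ← mul_assoc, ← h1, mul_inv_cancel_right]
        have h3 : (c : Ω)⁻¹ * a ∈ (⊥ : Subgroup Ω) :=
          hRL ▸ ⟨R.mul_mem (R.inv_mem c.2) a.2, h2 ▸ L.mul_mem d.2 (L.inv_mem b.2)⟩
        have h4 : a = c := Subtype.ext (inv_mul_eq_one.1 (mem_bot.1 h3)).symm
        subst h4
        exact Prod.ext rfl (Subtype.ext (mul_left_cancel h1))
      have := Nat.card_le_card_of_injective f hf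
      rwa [Nat.card_prod, hRc, hLc, ← pow_two, ← hZc] at this
    rw [← hsub] at hz
    rw [← SetLike.mem_coe, coe_mul_of_left_le_normalizer_right R L ?_] at hz
    · obtain ⟨r, hr, l, hl, rfl⟩ := hz
      exact ⟨r, hr, l, hl, rfl⟩
    · intro r hr
      exact Nor.mem_normalizer (S := R) (fun s hs x hx => by
        rw [(hZ (hR hs)).2.1 x (hLS hx), mul_inv_cancel_right]; exact hx) hr
  have keep : ∀ R R', Line R → (∀ β ∈ D S, ∀ r ∈ R, apl β r ∈ R) ∧
      (Line R' → R = R') := by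
    intro R R' hRl
    obtain ⟨τ, hτ, hR, hRc, hRL, hfix, hneg⟩ := id hRl
    have hfixed : ∀ z ∈ Z, apl τ z = z → z ∈ R := by
      intro z hz hzt
      obtain ⟨r, hr, l, hl, rfl⟩ := decomp R hRl z hz
      rw [apl_map_mul τ (hZS (hR hr)) (hLS hl), hfix r hr, hneg l hl, mul_right_inj,
        inv_eq_iff_mul_eq_one] at hzt
      rw [hsq1 l (hL hl) hzt, mul_one]; exact hr
    have hkeep : ∀ β ∈ D S, ∀ r ∈ R, apl β r ∈ R := fun β hβ r hr =>
      hfixed _ (hZi β hβ r (hZS (hR hr)) (hR hr)) (by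
        rw [hcomm τ hτ β hβ r (hR hr), hfix r hr])
    refine ⟨hkeep, fun hR'l => ?_⟩
    obtain ⟨τ', hτ', hR', hR'c, hR'L, hfix', hneg'⟩ := id hR'l
    haveI := finite_of_le (hR'.trans hZS)
    refine eq_of_le_of_card_ge (fun r hr => ?_) (hR'c.trans hRc.symm).le
    obtain ⟨r', hr', l, hl, rfl⟩ := decomp R' hR'l r (hR hr)
    have h1 := hkeep τ' hτ' _ hr
    rw [apl_map_mul τ' (hZS (hR' hr')) (hLS hl), hfix' r' hr', hneg' l hl] at h1
    have h2 : l * l ∈ R := by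
      have := R.mul_mem (R.inv_mem h1) hr
      rwa [mul_inv_rev, inv_inv, mul_assoc, inv_mul_cancel_left] at this
    have h3 : l * l ∈ (⊥ : Subgroup Ω) := hRL ▸ ⟨h2, L.mul_mem hl hl⟩
    rw [hsq1 l (hL hl) (mem_bot.1 h3), mul_one]; exact hr'
  -- what a conjugate does
  have pair : ∀ B, Ess S K₁ K₂ B → ∀ γ ∈ D B,
      (∀ σ ∈ autInducedBy S B, ∀ x ∈ Z, apl (γ * σ * γ⁻¹) x = x) ∨
      (Inv D B Z) ∨ ∃ R, Line R ∧ ∀ σ ∈ autInducedBy S B, ∀ x ∈ R, apl (γ * σ * γ⁻¹) x = x := by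
    intro B hBe γ hγ
    rcases hB B hBe with hi | ⟨V, d⟩
    · exact Or.inr (Or.inl hi)
    haveI := finite_of_le hBe.1.1
    haveI : Finite (MulAut B) := Finite.of_injective _ MulEquiv.toEquiv_injective
    have hVS : V ≤ S := d.le.trans hBe.1.1
    haveI := finite_of_le hVS
    haveI : Finite (MulAut V) := Finite.of_injective _ MulEquiv.toEquiv_injective
    have hVp : IsPGroup p V := h.pS.to_le hVS
    haveI : IsMulCommutative V := ⟨⟨fun a b => Subtype.ext (d.elem.1 a a.2 b b.2)⟩⟩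
    have hnor : ∀ H : Subgroup V, H.Normal := fun H => ⟨fun x hx g => by
      rwa [show g * x * g⁻¹ = x by
        rw [show g * x = x * g from Subtype.ext (d.elem.1 g g.2 x x.2), mul_inv_cancel_right]]⟩
    set res := resHom d.inv d.le with hres
    -- an element outside
    obtain ⟨x, hx, hxB⟩ : ∃ x ∈ S, x ∉ B :=
      (h.np B hBe).imp fun _ hh => ⟨hh.1, hh.2.1⟩
    obtain ⟨a, -, haF, hax⟩ := h.exists_conj hBe hx
    set A : MulAut V := res ⟨a, haF⟩ with hA
    have hAapp : ∀ v : V, ((A v : V) : Ω) = x * v * x⁻¹ := fun v => hax v (d.le v.2)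
    have hAne : A ≠ 1 := fun e => hxB (d.cent x hx fun v hv => by
      have := hAapp ⟨v, hv⟩
      rw [e, MulAut.one_apply] at this
      calc x * v = x * v * x⁻¹ * x := by group
        _ = v * x := by rw [← this])
    set T := Z.subgroupOf V with hT
    haveI := hnor T
    have hTi : T.index = p := by
      have h1 := T.card_mul_index
      rw [d.card, Nat.card_congr (subgroupOfEquivOfLe d.zle).toEquiv, hZc,
        show p ^ 3 = p ^ 2 * p by ring] at h1
      exact Nat.eq_of_mul_eq_mul_left (pow_pos hp.out.pos 2) h1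
    have hAT : ∀ v ∈ T, A v = v := fun v hv => Subtype.ext (by
      rw [hAapp, ← (mem_zOne.1 (hZ (show (v : Ω) ∈ Z from hv))).2.1 x hx, mul_inv_cancel_right])
    set L' := L.subgroupOf V with hL'
    haveI := hnor L'
    have hAL : ∀ v, v⁻¹ * A v ∈ L' := fun v => by
      show (v : Ω)⁻¹ * (A v : V) ∈ L
      rw [hAapp]
      have h1 := d.comm x hx v v.2
      have h2 : ⁅x, (v : Ω)⁆ * (v : Ω) = (v : Ω) * ⁅x, (v : Ω)⁆ :=
        ((hZ (hL h1)).2.1 v (hVS v.2))
      rwa [show (v : Ω)⁻¹ * (x * v * x⁻¹) = (v : Ω)⁻¹ * (⁅x, (v : Ω)⁆ * v) by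
        rw [commutatorElement_def]; group, h2, inv_mul_cancel_left]
    have hAT' : ∀ v, v⁻¹ * A v ∈ T := fun v => hL (hAL v)
    -- the image of `Aut_S(B)`
    obtain ⟨Rs, hRs⟩ := h.syl B (Or.inl hBe)
    have hresR : ∀ σ : D B, (σ : MulAut B) ∈ autInducedBy S B → res σ ∈ zpowers A := by
      intro σ hσ
      obtain ⟨s, hs, -, hsx⟩ := mem_autInducedBy_iff.1 hσ
      obtain ⟨e, he, n, rfl⟩ := h.exists_mul hBe hx hxB s hs
      refine ⟨n, ?_⟩
      show A ^ ((n : ℕ) : ℤ) = res σ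
      rw [zpow_natCast]
      refine MulEquiv.ext fun v => Subtype.ext ?_
      have hpow : ∀ m : ℕ, (((A ^ m) v : V) : Ω) = x ^ m * v * (x ^ m)⁻¹ := fun m => by
        induction m with
        | zero => simp
        | succ m ih => rw [pow_succ', MulAut.mul_apply, hAapp, ih]; group
      rw [hpow, hres, resHom_apply, hsx v (d.le v.2)]
      have h3 : e * (x ^ n * v * (x ^ n)⁻¹) = x ^ n * v * (x ^ n)⁻¹ * e :=
        d.cen e he _ (hpow n ▸ ((A ^ n) v).2)
      calc x ^ n * v * (x ^ n)⁻¹ = x ^ n * v * (x ^ n)⁻¹ * e * e⁻¹ := by group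
        _ = e * (x ^ n * v * (x ^ n)⁻¹) * e⁻¹ := by rw [h3]
        _ = e * x ^ n * v * (e * x ^ n)⁻¹ := by group
    have hRmap : (Rs : Subgroup (D B)).map res = zpowers A := by
      refine le_antisymm ?_ (zpowers_le.2 ⟨⟨a, haF⟩, ?_, rfl⟩)
      · rintro _ ⟨σ, hσ, rfl⟩
        rw [hRs] at hσ
        exact hresR σ hσ
      · rw [hRs]; exact mem_autInducedBy_iff.2 ⟨x, hx, ((h.nor B hBe).mem_normalizer hx), hax⟩
    set g : MulAut V := res ⟨γ, hγ⟩ with hg
    set b := g * A * g⁻¹ with hb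
    set T' := T.map g.toMonoidHom with hT'
    haveI := hnor T'
    have hT'i : T'.index = p := (index_map_equiv T g).trans hTi
    have hbfix : ∀ v ∈ T', b v = v := by
      rintro _ ⟨w, hw, rfl⟩
      show (g * A * g⁻¹) (g w) = g w
      rw [MulAut.mul_apply, MulAut.mul_apply, aut_inv_app, hAT w hw]
    have hbT : ∀ v, v⁻¹ * b v ∈ T' := fun v => ⟨(g⁻¹ v)⁻¹ * A (g⁻¹ v), hAT' _, by
      show g ((g⁻¹ v)⁻¹ * A (g⁻¹ v)) = _
      rw [map_mul, map_inv, aut_app_inv]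
      rfl⟩
    have hpows : ∀ (f : MulAut V) (H : Subgroup V), (∀ v ∈ H, f v = v) →
        ∀ f' ∈ zpowers f, ∀ v ∈ H, f' v = v := fun f H hf f' hf' v hv =>
      (zpowers_le (H := MulAction.stabilizer (MulAut V) v)).2 (hf v hv) hf'
    have conjA : ∀ σ ∈ autInducedBy S B, ∃ f' ∈ zpowers A, ∀ v : V,
        apl (γ * σ * γ⁻¹) (v : Ω) = ((g * f' * g⁻¹) v : V) := by
      intro σ hσ
      refine ⟨_, hresR ⟨σ, h.conj _ hBe hσ⟩ hσ, fun v => ?_⟩
      rw [hg, ← map_mul, ← map_inv, ← map_mul, hres, resHom_apply]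
      rfl
    by_cases hTT : T = T'
    · refine Or.inl fun σ hσ z hz => ?_
      obtain ⟨f', hf', hfv⟩ := conjA σ hσ
      rw [hfv ⟨z, d.zle hz⟩]
      have hzT' : (⟨z, d.zle hz⟩ : V) ∈ T' := hTT.le hz
      obtain ⟨w, hw, hwz⟩ := hzT'
      change g w = _ at hwz
      rw [← hwz, MulAut.mul_apply, MulAut.mul_apply, aut_inv_app, hpows A T hAT f' hf' w hw, hwz]
    refine Or.inr (Or.inr ?_)
    have hbne : b ≠ 1 := fun e => hAne (by
      rw [hb, mul_inv_eq_one, mul_eq_left] at e; exact e)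
    have hnp : ¬ IsPGroup p (closure ({A, b} : Set (MulAut V))) := by
      intro hK
      have hle : closure ({A, b} : Set (MulAut V)) ≤ res.range := (closure_le _).2 (by
        rintro f (rfl | rfl)
        exacts [⟨_, rfl⟩, ⟨⟨γ, hγ⟩ * ⟨a, haF⟩ * ⟨γ, hγ⟩⁻¹, by rw [map_mul, map_mul, map_inv]⟩])
      have hKeq := image_sylow res Rs hK
        (hRmap ▸ zpowers_le.2 (Subgroup.subset_closure (Set.mem_insert _ _))) hle
      rw [hRmap] at hKeq
      have hbA : b ∈ zpowers A :=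
        hKeq ▸ Subgroup.subset_closure (Set.mem_insert_of_mem _ rfl)
      refine hbne (MulEquiv.ext fun v => ?_)
      have htop : T ⊔ T' = ⊤ := by
        obtain ⟨w, hw, hwT⟩ : ∃ w ∈ T', w ∉ T := SetLike.not_le_iff_exists.1 fun hle =>
          hTT (eq_of_le_of_card_ge hle (by
            rw [hT', card_map_of_injective (f := g.toMonoidHom) g.injective])).symm
        by_contra hne
        have hlt : T < T ⊔ T' :=
          lt_of_le_of_ne le_sup_left fun e => hwT (e.symm ▸ mem_sup_right hw)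
        have h1 := relIndex_mul_index hlt.le
        rw [hTi] at h1
        rcases (Nat.dvd_prime hp.out).1 (Dvd.intro_left _ h1) with h2 | h2
        · exact hne (index_eq_one.1 h2)
        · rw [h2, mul_eq_right₀ hp.out.ne_zero, relIndex_eq_one] at h1
          exact hlt.not_ge h1
      have hfix : T ⊔ T' ≤ MonoidHom.eqLocus b.toMonoidHom (MonoidHom.id V) :=
        sup_le (fun w hw => hpows A T hAT b hbA w hw) hbfix
      exact hfix (htop.symm ▸ mem_top v)
    obtain ⟨-, ⟨wa, hwa⟩, t, htm, N⟩ :=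
      exists_neg hVp h.odd hTi hT'i hAT hbfix hAT' hbT hnp
    obtain ⟨-, ⟨wb, hwb⟩, -⟩ := exists_neg hVp h.odd hT'i hTi hbfix hAT hbT hAT'
      (by rwa [Set.pair_comm])
    set C0 := T ⊓ T' with hC0
    have hLT : L' ≤ T := fun v hv => hL hv
    -- the line `L` and its image meet `C0` trivially
    have hL'c : Nat.card L' = p := (Nat.card_congr (subgroupOfEquivOfLe (hL.trans d.zle)).toEquiv).trans hLc
    set L'' := L'.map g.toMonoidHom with hL''
    have hbL : ∀ v, v⁻¹ * b v ∈ L'' := fun v => ⟨(g⁻¹ v)⁻¹ * A (g⁻¹ v), hAL _, by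
      show g ((g⁻¹ v)⁻¹ * A (g⁻¹ v)) = _
      rw [map_mul, map_inv, aut_app_inv]
      rfl⟩
    have prime_inf : ∀ H : Subgroup V, Nat.card H = p → ∀ v ∈ H, v ∉ C0 → H ⊓ C0 = ⊥ := by
      intro H hH v hv hvC
      rcases (Nat.dvd_prime hp.out).1 (hH ▸ card_dvd_of_le (inf_le_left : H ⊓ C0 ≤ H)) with h1 | h1
      · exact card_eq_one.1 h1
      · exact absurd ((eq_of_le_of_card_ge (inf_le_left : H ⊓ C0 ≤ H) (hH.trans h1.symm).le).symm.le hv).2 hvC
    have hLC : L' ⊓ C0 = ⊥ := prime_inf L' hL'c _ (hAL wa) hwa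
    have hL''C : L'' ⊓ C0 = ⊥ := by
      refine prime_inf L'' ((card_map_of_injective (f := g.toMonoidHom) g.injective).trans hL'c) _
        (hbL wb) ?_
      rw [hC0, inf_comm]; exact hwb
    haveI := hnor L''
    have hPiC : (L' ⊔ L'') ⊓ C0 = ⊥ := by
      refine (eq_bot_iff_forall _).2 fun v hv => ?_
      obtain ⟨hvP, hvC⟩ := hv
      have hvP' : v ∈ ((L' ⊔ L'' : Subgroup V) : Set V) := hvP
      rw [normal_mul L' L''] at hvP'
      obtain ⟨l, hl, m, hm, rfl⟩ := hvP'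
      have hmT' : m ∈ T' := map_mono hLT hm
      have hlT' : l ∈ T' := (T'.mul_mem_cancel_right hmT').1 hvC.2
      have hl1 : l = 1 := mem_bot.1 (hLC.le ⟨hl, hLT hl, hlT'⟩)
      subst hl1
      simp only [one_mul] at hvC ⊢
      exact mem_bot.1 (hL''C.le ⟨hm, hvC⟩)
    have hPi : ∀ f ∈ closure ({A, b} : Set (MulAut V)), ∀ v, v⁻¹ * f v ∈ L' ⊔ L'' := by
      intro f hf
      induction hf using Subgroup.closure_induction with
      | mem f hf =>
        intro v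
        rcases hf with rfl | rfl
        exacts [mem_sup_left (hAL v), mem_sup_right (hbL v)]
      | one => simp
      | mul f f' _ _ ih ih' =>
        intro v
        have e : v⁻¹ * (f * f') v = (v⁻¹ * f v) * f (v⁻¹ * f' v) := by
          rw [MulAut.mul_apply, map_mul, map_inv]; group
        rw [e]
        have h1 := ih (v⁻¹ * f' v)
        have h2 := Subgroup.mul_mem _ (ih' v) h1
        rw [mul_inv_cancel_left] at h2
        exact Subgroup.mul_mem _ (ih v) h2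
      | inv f _ ih =>
        intro v
        have := Subgroup.inv_mem _ (ih (f⁻¹ v))
        rwa [← MulAut.mul_apply, mul_inv_cancel, MulAut.one_apply, mul_inv_rev, inv_inv] at this
    have htL : ∀ l ∈ L', t l = l⁻¹ := fun l hl => by
      have h1 : t l ∈ L' ⊔ L'' := by
        have := Subgroup.mul_mem _ (mem_sup_left hl) (hPi t htm l)
        rwa [mul_inv_cancel_left] at this
      have h2 : l * t l ∈ (⊥ : Subgroup V) := hPiC ▸ ⟨Subgroup.mul_mem _ (mem_sup_left hl) h1, N.neg l⟩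
      exact eq_inv_of_mul_eq_one_right (mem_bot.1 h2)
    have vcomm : ∀ u v : V, u * v = v * u := fun u v => Subtype.ext (d.elem.1 u u.2 v v.2)
    have htA : t * A * t⁻¹ = A := by
      rw [mul_inv_eq_iff_eq_mul]
      refine MulEquiv.ext fun v => ?_
      rw [MulAut.mul_apply, MulAut.mul_apply]
      have hc := N.neg v
      have e1 : t (A v) = t v * (v⁻¹ * A v)⁻¹ := by
        rw [← htL _ (hAL v), ← map_mul, mul_inv_cancel_left]
      have e2 : t v = v⁻¹ * (v * t v) := (inv_mul_cancel_left _ _).symm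
      have e3 : A (t v) = (A v)⁻¹ * (v * t v) := by
        conv_lhs => rw [e2, map_mul, map_inv, hAT _ hc.1]
      rw [e1, e3, mul_inv_rev, inv_inv, vcomm (t v), mul_assoc]
    -- lift
    have htr : t ∈ res.range := (closure_le _).2 (by
      rintro f (rfl | rfl)
      exacts [⟨_, rfl⟩, ⟨⟨γ, hγ⟩ * ⟨a, haF⟩ * ⟨γ, hγ⟩⁻¹, by rw [map_mul, map_mul, map_inv]⟩]) htm
    obtain ⟨t₀, ht₀⟩ := htr
    set K := (zpowers A).comap res with hK
    have hRK : (Rs : Subgroup (D B)) ≤ K := fun σ hσ =>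
      mem_comap.2 (hRmap.le (mem_map_of_mem res hσ))
    have hsub : (Rs : Subgroup (D B)).map (MulAut.conj t₀).toMonoidHom ≤ K := by
      rintro _ ⟨σ, hσ, rfl⟩
      show res (t₀ * σ * t₀⁻¹) ∈ zpowers A
      obtain ⟨i, hi⟩ := hRmap.le (mem_map_of_mem res hσ)
      rw [map_mul, map_mul, map_inv, ht₀, ← hi]
      show t * A ^ i * t⁻¹ ∈ zpowers A
      rw [← conj_zpow, htA]; exact zpow_mem (mem_zpowers A) i
    obtain ⟨⟨k, hkK⟩, hk⟩ := exists_conj_mem_sylow
      (R := ((Rs : Subgroup (D B)).map (MulAut.conj t₀).toMonoidHom).subgroupOf K)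
      ((Rs.2.map _).comap_subtype) (Rs.subtype hRK)
    obtain ⟨n, hn⟩ : ∃ n : D B, n = k * t₀ := ⟨_, rfl⟩
    have hnR : ∀ σ : D B, σ ∈ (Rs : Subgroup (D B)) →
        n * σ * n⁻¹ ∈ (Rs : Subgroup (D B)) := fun σ hσ => by
      have hm : t₀ * σ * t₀⁻¹ ∈
          (Rs : Subgroup (D B)).map (MulAut.conj t₀).toMonoidHom := ⟨σ, hσ, rfl⟩
      have h1 := hk ⟨t₀ * σ * t₀⁻¹, hsub hm⟩ hm
      have h2 : k * (t₀ * σ * t₀⁻¹) * k⁻¹ ∈ (Rs : Subgroup (D B)) := h1
      rw [show n * σ * n⁻¹ = k * (t₀ * σ * t₀⁻¹) * k⁻¹ by rw [hn]; group]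
      exact h2
    obtain ⟨τ, hτ, hτx⟩ := h.exists_ext hBe n.2 fun σ hσ => by
      have hσR : (⟨σ, h.conj _ hBe hσ⟩ : D B) ∈
          (Rs : Subgroup (D B)) := by rw [hRs]; exact hσ
      have h1 := hnR _ hσR
      rw [hRs, mem_subgroupOf, Subgroup.coe_mul, Subgroup.coe_mul, Subgroup.coe_inv] at h1
      exact h1
    have hτT : ∀ v : V, v ∈ T → t v ∈ T → apl τ (v : Ω) = (t v : V) := fun v _ hv' => by
      rw [hτx v (d.le v.2)]
      have e : (apl (n : MulAut B) v) = ((res k * t) v : V) := by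
        rw [← ht₀, ← map_mul, hn, hres, resHom_apply]
      rw [e, MulAut.mul_apply, hpows A T hAT _ hkK _ hv']
    refine ⟨C0.map V.subtype, ⟨τ, hτ, ?_, ?_, ?_, ?_, ?_⟩, fun σ hσ z hz => ?_⟩
    · rintro _ ⟨v, hv, rfl⟩; exact hv.1
    · rw [card_map_of_injective V.subtype_injective]
      have h2 := (C0.card_mul_index).trans d.card
      have h5 : C0.index ≤ T.index * T'.index := index_inf_le
      rw [hTi, hT'i] at h5
      have h6 : C0 < T := lt_of_le_of_ne inf_le_left fun e => hTT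
        (eq_of_le_of_card_ge (inf_eq_left.1 e) (by
          rw [hT', card_map_of_injective (f := g.toMonoidHom) g.injective]))
      obtain ⟨j, hj⟩ := IsPGroup.iff_card.1 (hVp.to_subgroup C0)
      have h7 : Nat.card C0 < Nat.card T := by
        refine lt_of_le_of_ne (card_le_of_le h6.le) fun e => h6.ne ?_
        exact eq_of_le_of_card_ge h6.le e.ge
      rw [Nat.card_congr (subgroupOfEquivOfLe d.zle).toEquiv, hZc, hj] at h7
      have := (Nat.pow_lt_pow_iff_right hp.out.one_lt).1 h7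
      have h8 : p ^ 3 ≤ p ^ j * (p * p) := by rw [← h2, hj]; exact Nat.mul_le_mul_left _ h5
      rw [← pow_two, ← pow_add] at h8
      have := (Nat.pow_le_pow_iff_right hp.out.one_lt).1 h8
      rw [hj, show j = 1 by omega, pow_one]
    · refine (eq_bot_iff_forall _).2 fun z hz => ?_
      obtain ⟨⟨v, hv, rfl⟩, hzL⟩ := hz
      exact congrArg Subtype.val (mem_bot.1 (hLC.le ⟨hzL, hv⟩))
    · rintro _ ⟨v, hv, rfl⟩
      rw [coe_subtype, hτT v hv.1 (by rw [N.fix v hv]; exact hv.1), N.fix v hv]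
    · intro l hl
      have hl' : (⟨l, d.zle (hL hl)⟩ : V) ∈ L' := hl
      have := hτT _ (hLT hl') (by rw [htL _ hl']; exact T.inv_mem (hLT hl'))
      rw [htL _ hl'] at this
      exact this
    · obtain ⟨v, hv, rfl⟩ := hz
      obtain ⟨f', hf', hfv⟩ := conjA σ hσ
      rw [coe_subtype, hfv v]
      obtain ⟨w, hw, hwv⟩ := hv.2
      change g w = v at hwv
      rw [← hwv, MulAut.mul_apply, MulAut.mul_apply, aut_inv_app, hpows A T hAT f' hf' w hw]
  -- conclusion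
  have fixInv : ∀ B, Ess S K₁ K₂ B → Inv D B Z → ∀ γ ∈ D B,
      ∀ σ ∈ autInducedBy S B, ∀ x ∈ Z, apl (γ * σ * γ⁻¹) x = x := by
    intro B hBe hi γ hγ σ hσ x hx
    obtain ⟨s, hs, -, hsx⟩ := mem_autInducedBy_iff.1 hσ
    have hxB := hZB B hBe hx
    have hy : apl γ⁻¹ x ∈ Z := hi _ ((D B).inv_mem hγ) x hxB hx
    rw [apl_mul _ _ hxB, apl_mul _ _ (apl_mem γ⁻¹ hxB), hsx _ (apl_mem γ⁻¹ hxB),
      ← (hZ hy).2.1 s hs, mul_inv_cancel_right, apl_apl_inv γ hxB]
  by_cases hex : ∃ R, Line R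
  · obtain ⟨R, hR⟩ := hex
    obtain ⟨τ, hτ, hRZ, hRc, -⟩ := id hR
    have hRbot := h.red R (hRZ.trans hZ)
      (fun β hβ r _ hr => (keep R R hR).1 β hβ r hr) fun B hBe => by
      refine h.inv_of_conjugates hBe
        (fun β hβ r _ hr => (keep R R hR).1 β hβ r hr) fun γ hγ σ hσ x _ hx => ?_
      rcases pair B hBe γ hγ with h1 | h1 | ⟨R', hR', h1⟩
      · rw [h1 σ hσ x (hRZ hx)]; exact hx
      · rw [fixInv B hBe h1 γ hγ σ hσ x (hRZ hx)]; exact hx
      · rw [← (keep R R' hR).2 hR'] at h1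
        rw [h1 σ hσ x hx]; exact hx
    rw [hRbot, card_bot] at hRc
    exact hp.out.one_lt.ne hRc
  · have hZbot := h.red Z hZ hZi fun B hBe => by
      refine h.inv_of_conjugates hBe hZi fun γ hγ σ hσ x _ hx => ?_
      rcases pair B hBe γ hγ with h1 | h1 | ⟨R', hR', -⟩
      · rw [h1 σ hσ x hx]; exact hx
      · rw [fixInv B hBe h1 γ hγ σ hσ x hx]; exact hx
      · exact absurd ⟨R', hR'⟩ hex
    rw [hZbot, card_bot] at hZc
    exact absurd hZc (one_lt_pow₀ hp.out.one_lt two_ne_zero).ne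

end Red

end Cfsg.Agent.FusRankThreeChar
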