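import Cfsg.Agent.FusRankThreeChar.CaseTwoBase
import Cfsg.Agent.FusRankThreeChar.Line

/-!
The images of the moved socles generate a nonabelian group: the Sylow subgroup of `Sp₄(p)`.
-/

set_option autoImplicit false
set_option linter.style.haveILetI false
set_option linter.unusedSectionVars false

namespace Cfsg.Agent.FusRankThreeChar

open Cfsg Cfsg.FusionSystem Cfsg.Agent.FusSys Subgroup
open Cfsg.Agent.RankThreeEss (Elem)
open Cfsg.Agent.FusRankThreeNormal (Nor zOne mem_zOne zOne_le nor_zOne inf_zOne_ne_bot apl_map_mul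
  apl_map_one apl_map_inv apl_map_pow apl_map_comm apl_injective commSub mem_commSub commSub_le
  comm_induction comm_step pow_mem_of_gens pow_apply_fix card_elem_le sectional_of_le exists_coord
  isPGroup_of_stab Neg exists_neg image_sylow sup_zpowers_eq central_of_two mem_bottom
  pow_eq_one_of_mem exists_mul_zpow exists_mul_npow exponent_p_of_gens three_le)
open scoped commutatorElement

universe u

variable {Ω : Type u} [Group Ω] {S K₁ K₂ : Subgroup Ω} {p : ℕ}
variable {DF : (X : Subgroup Ω) → Subgroup (MulAut X)}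
variable [Finite S] [hp : Fact p.Prime]

set_option maxHeartbeats 1600000 in
/-- The case of a noncommuting pair. -/
theorem Two.pair_case (t : Two p S DF K₁ K₂) {E E' E₂ : Subgroup Ω} (hE : Moved p S DF K₁ K₂ E) (hE' : Moved p S DF K₁ K₂ E')
    (h2 : Ess S K₁ K₂ E₂) {α : MulAut E₂} (hα : α ∈ DF E₂) {b v₂ : Ω}
    (hb : b ∈ vOf p S DF E) (hv₂ : v₂ ∈ vOf p S DF E') (hab : apl α v₂ * b ≠ b * apl α v₂)
    (hcase : ∀ E₃, Moved p S DF K₁ K₂ E₃ → Nat.card (vOf p S DF E₃) = p ^ 3 → E₃ = E) :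
    Goal p S K₁ K₂ := by
  classical
  have h := t.hyp
  have hp1 := hp.out.one_lt
  have h1 := hE.1
  have h1S := h1.1.1
  have h2S := h2.1.1
  haveI := finite_of_le h1S
  haveI := finite_of_le h2S
  set V := vOf p S DF E with hVdef
  have hVE : V ≤ E := vOf_le
  have hVS : V ≤ S := hVE.trans h1S
  haveI := finite_of_le hVS
  haveI := finite_of_le (zOne_le (p := p) (S := S))
  have hV2 : ∀ v ∈ V, v ∈ E₂ := fun v hv => t.all E hE E₂ h2 hv
  have hv₂2 : v₂ ∈ E₂ := t.all E' hE' E₂ h2 hv₂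
  have hb2 : b ∈ E₂ := hV2 b hb
  have hbc : ∀ y ∈ E, b * y = y * b := (h.vOf_central h1 hb).1
  have hbp : b ^ p = 1 := (h.vOf_central h1 hb).2
  set a : Ω := apl α v₂ with ha
  have ha2 : a ∈ E₂ := apl_mem α hv₂2
  have haS : a ∈ S := h2S ha2
  have hap : a ^ p = 1 := by
    rw [ha, ← apl_map_pow α hv₂2, (h.vOf_central hE'.1 hv₂).2, apl_map_one]
  have haE : a ∉ E := fun hin => hab (hbc a hin).symm
  have hne : ¬ E₂ ≤ E := fun hle => haE (hle ha2)
  set b' : Ω := apl α⁻¹ b with hb'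
  have hb'2 : b' ∈ E₂ := apl_mem _ hb2
  have hbb' : apl α b' = b := apl_apl_inv α hb2
  have hne' : ¬ E₂ ≤ E' := fun hle => hab (by
    rw [← hbb', ha, ← apl_map_mul α hv₂2 hb'2, ← apl_map_mul α hb'2 hv₂2,
      (h.vOf_central hE'.1 hv₂).1 b' (hle hb'2)])
  -- the commutator
  set z : Ω := ⁅a, b⁆ with hz
  have hzV : z ∈ V := ((h.nor_vOf h1).comm_mem hb haS).2
  have hzE : z ∈ E := hVE hzV
  have hz2 : z ∈ E₂ := hV2 z hzV
  have hzp : z ^ p = 1 := (h.vOf_central h1 hzV).2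
  have hz1 : z ≠ 1 := fun e => hab (commutatorElement_eq_one_iff_mul_comm.1 e)
  have hu : ⁅v₂, b'⁆ ∈ vOf p S DF E' := ((h.nor_vOf hE'.1).comm_mem hv₂ (h2S hb'2)).1
  have hu2 : ⁅v₂, b'⁆ ∈ E₂ := t.all E' hE' E₂ h2 hu
  have hzu : apl α ⁅v₂, b'⁆ = z := by rw [apl_map_comm α hv₂2 hb'2, hbb']
  have hza : z * a = a * z := by
    rw [← hzu, ha, ← apl_map_mul α hu2 hv₂2, ← apl_map_mul α hv₂2 hu2,
      (h.vOf_central hE'.1 hu).1 v₂ (vOf_le hv₂)]
  have hcen : ∀ y : Ω, (∀ e ∈ E, y * e = e * y) → y * a = a * y → ∀ s ∈ S, y * s = s * y := by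
    intro y hy hya s hs
    obtain ⟨e, he, n, rfl⟩ := h.exists_mul h1 haS haE s hs
    exact ((show Commute y e from hy e he).mul_right ((show Commute y a from hya).pow_right n)).eq
  have hzc : ∀ s ∈ S, z * s = s * z := hcen z (h.vOf_central h1 hzV).1 hza
  have hzZ : z ∈ zOne p S := ⟨h1S hzE, hzc, hzp⟩
  set L := zpowers z with hL
  have hLZ : L ≤ zOne p S := zpowers_le.2 hzZ
  haveI := finite_of_le (hLZ.trans zOne_le)
  have hLc : Nat.card L = p := by rw [hL, Nat.card_zpowers, orderOf_eq_prime hzp hz1]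
  have hLnor : Nor S L := fun s hs x hx => by
    rw [← (hLZ hx).2.1 s hs, mul_inv_cancel_right]; exact hx
  -- the two subgroups of index `p` in `E₂`
  set T : Subgroup E₂ := E.subgroupOf E₂ with hT
  have hTi : T.index = p := h.inter_index h1 h2 hne
  haveI hTn : T.Normal := (h.nor_ess h1).subgroupOf h2S
  haveI hT0n : (E'.subgroupOf E₂).Normal := (h.nor_ess hE'.1).subgroupOf h2S
  set T1 : Subgroup E₂ := (E'.subgroupOf E₂).map α.toMonoidHom with hT1
  haveI hT1n : T1.Normal := hT0n.map _ α.surjective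
  have hT1i : T1.index = p := (index_map_equiv _ α).trans (h.inter_index hE'.1 h2 hne')
  have haT1 : ∀ g : E₂, g ∈ T1 → (g : Ω) * a = a * (g : Ω) := by
    rintro _ ⟨u, hu', rfl⟩
    show ((α u : E₂) : Ω) * a = a * ((α u : E₂) : Ω)
    rw [← apl_coe α u, ha, ← apl_map_mul α u.2 hv₂2, ← apl_map_mul α hv₂2 u.2,
      (h.vOf_central hE'.1 hv₂).1 u (mem_subgroupOf.1 hu')]
  have hbT1 : (⟨b, hb2⟩ : E₂) ∉ T1 := fun hm => hab (haT1 _ hm).symm
  have hzT1 : (⟨z, hz2⟩ : E₂) ∈ T1 :=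
    ⟨⟨_, hu2⟩, mem_subgroupOf.2 (vOf_le hu), Subtype.ext ((apl_coe α _).symm.trans hzu)⟩
  have htop : T1 ⊔ zpowers (⟨b, hb2⟩ : E₂) = ⊤ :=
    sup_zpowers_eq le_top (by rw [relIndex_top_right, hT1i]) (mem_top _) hbT1
  have hga : ∀ g ∈ E₂, ⁅g, a⁆ ∈ L := by
    intro g hg
    refine comm_induction (S := S) hLnor (s := (Subtype.val '' (T1 : Set E₂)) ∪ {b}) ?_ ?_ g ?_
    · rintro y (⟨w, -, rfl⟩ | rfl)
      exacts [h2S w.2, h2S hb2]
    · rintro y (⟨w, hw, rfl⟩ | rfl)
      · rw [commutatorElement_eq_one_iff_mul_comm.2 (haT1 w hw)]; exact one_mem _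
      · rw [← commutatorElement_inv a y]; exact inv_mem (mem_zpowers z)
    · obtain ⟨c, hc, n, hn⟩ := exists_mul_npow (A := T1) (g := (⟨b, hb2⟩ : E₂))
        (by rw [normalizer_eq_top T1]; exact mem_top _) (htop.symm ▸ mem_top (⟨g, hg⟩ : E₂))
      have e : (c : Ω) * b ^ n = g := by simpa using congrArg Subtype.val hn
      rw [← e]
      exact Subgroup.mul_mem _ (Subgroup.subset_closure (Or.inl ⟨c, hc, rfl⟩))
        (Subgroup.pow_mem _ (Subgroup.subset_closure (Set.mem_union_right _ (Set.mem_singleton _))) n)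
  have hsv : ∀ s ∈ S, ∀ v ∈ V, ⁅s, v⁆ ∈ L := by
    intro s hs v hv
    refine comm_induction (S := S) hLnor (s := (E : Set Ω) ∪ {a}) ?_ ?_ s ?_
    · rintro y (hy | rfl)
      exacts [h1S hy, haS]
    · rintro y (hy | rfl)
      · rw [commutatorElement_eq_one_iff_mul_comm.2 ((h.vOf_central h1 hv).1 y hy).symm]
        exact one_mem _
      · rw [← commutatorElement_inv v a]; exact inv_mem (hga v (hV2 v hv))
    · obtain ⟨e, he, n, rfl⟩ := h.exists_mul h1 haS haE s hs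
      exact Subgroup.mul_mem _ (Subgroup.subset_closure (Or.inl he))
        (Subgroup.pow_mem _ (Subgroup.subset_closure (Set.mem_union_right _ (Set.mem_singleton _))) n)
  -- the orders of `V` and of the central socle
  have hVle : Nat.card V ≤ p * Nat.card (zOne p S) := by
    let δ : V →* Ω := MonoidHom.mk' (fun v => ⁅a, (v : Ω)⁆) fun u v => by
      have h0 := (hLZ (hsv a haS v v.2)).2.1 (u : Ω) (hVS u.2)
      show ⁅a, ((u * v : V) : Ω)⁆ = ⁅a, (u : Ω)⁆ * ⁅a, (v : Ω)⁆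
      rw [Subgroup.coe_mul]
      calc ⁅a, (u : Ω) * v⁆ = ⁅a, (u : Ω)⁆ * ((u : Ω) * ⁅a, (v : Ω)⁆ * (u : Ω)⁻¹) := by
            simp only [commutatorElement_def]; group
        _ = ⁅a, (u : Ω)⁆ * ⁅a, (v : Ω)⁆ := by rw [← h0, mul_inv_cancel_right]
    have hr : δ.range ≤ L := by rintro _ ⟨v, rfl⟩; exact hsv a haS v v.2
    have hk : δ.ker ≤ (zOne p S).subgroupOf V := fun v hv =>
      ⟨hVS v.2, hcen v (h.vOf_central h1 v.2).1
        (commutatorElement_eq_one_iff_mul_comm.1 hv).symm, (h.vOf_central h1 v.2).2⟩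
    rw [← δ.ker.card_mul_index, index_ker, mul_comm p]
    refine Nat.mul_le_mul ((card_le_of_le hk).trans_eq
      (Nat.card_congr (subgroupOfEquivOfLe (h.zOne_le_vOf h1)).toEquiv)) ?_
    exact (card_le_of_le hr).trans_eq hLc
  obtain ⟨k, hk, hk2, hk3⟩ := t.card_vOf hE
  obtain ⟨j, hj⟩ := IsPGroup.iff_card.1 (h.pS.to_le (zOne_le (p := p) (S := S)))
  have hjk : j + 1 = k := by
    have hlt : Nat.card (zOne p S) < Nat.card V :=
      lt_of_le_of_ne (card_le_of_le (h.zOne_le_vOf h1)) fun e =>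
        hE.2 (eq_of_le_of_card_ge (h.zOne_le_vOf h1) e.ge).symm
    rw [hj, hVdef, hk] at hlt
    have := (Nat.pow_lt_pow_iff_right hp1).1 hlt
    rw [hVdef, hk, hj, ← pow_succ'] at hVle
    have := (Nat.pow_le_pow_iff_right hp1).1 hVle
    omega
  rcases (show k = 3 ∨ k = 2 by omega) with rfl | rfl
  · -- the line lemma
    exfalso
    obtain rfl : j = 2 := by omega
    have hVP : V = pSub p S DF K₁ K₂ := by
      haveI := finite_of_le t.pSub_le_S
      exact eq_of_le_of_card_ge (vOf_le_pSub hE) (by rw [hVdef, hk]; exact t.card_pSub)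
    have hLi : Inv DF S L := by
      intro β hβ y _ hy
      have hbz : apl β z ∈ L := by
        rw [hz, apl_map_comm β haS (hVS hb)]
        exact hsv _ (apl_mem β haS) _ (hVP.symm ▸ t.inv_pSub β hβ b (hVS hb) (hVP ▸ hb))
      obtain ⟨i, rfl⟩ := (isOfFinOrder_iff_pow_eq_one.2
        ⟨p, hp.out.pos, hzp⟩).mem_powers_iff_mem_zpowers.2 hy
      show apl β (z ^ i) ∈ L
      rw [apl_map_pow β (h1S hzE)]
      exact pow_mem hbz i
    refine h.line_false (Z := zOne p S) (L := L) le_rfl hj inv_zOne_top hLZ hLc hLi fun B hB => ?_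
    by_cases hv : vOf p S DF B = zOne p S
    · exact Or.inl (hv ▸ inv_orb)
    have hBc : Nat.card (vOf p S DF B) = p ^ 3 := by
      obtain ⟨m, hm, -, hm3⟩ := t.card_vOf ⟨hB, hv⟩
      haveI := finite_of_le ((vOf_le (p := p) (S := S) (D := DF) (E := B)).trans hB.1.1)
      have hlt : Nat.card (zOne p S) < Nat.card (vOf p S DF B) :=
        lt_of_le_of_ne (card_le_of_le (h.zOne_le_vOf hB)) fun e =>
          hv (eq_of_le_of_card_ge (h.zOne_le_vOf hB) e.ge).symm
      rw [hj, hm] at hlt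
      have := (Nat.pow_lt_pow_iff_right hp1).1 hlt
      rw [hm, show m = 3 by omega]
    obtain rfl := hcase B ⟨hB, hv⟩ hBc
    exact Or.inr ⟨V,
      { inv := inv_orb
        le := hVE
        zle := h.zOne_le_vOf h1
        card := hk
        elem := h.vOf_elem h1
        cent := fun s hs hc => (h.mem_iff_comm h1 hE.2 hs).2 hc
        cen := fun e he v hv' => ((h.vOf_central h1 hv').1 e he).symm
        comm := hsv }⟩
  -- the model
  obtain rfl : j = 1 := by omega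
  rw [pow_one] at hj
  set C0 := T ⊓ T1 with hC0
  have hbT : (⟨b, hb2⟩ : E₂) ∈ T := mem_subgroupOf.2 (hVE hb)
  have hrel : C0.relIndex T = p := by
    have hd : T1.relIndex T ∣ p := hT1i ▸ relIndex_dvd_index_of_normal _ _
    rw [hC0, inf_relIndex_left]
    rcases (Nat.dvd_prime hp.out).1 hd with e | e
    · exact absurd (relIndex_eq_one.1 e hbT) hbT1
    · exact e
  have hTgen : C0 ⊔ zpowers (⟨b, hb2⟩ : E₂) = T :=
    sup_zpowers_eq inf_le_left hrel hbT fun hm => hbT1 hm.2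
  have hPgen : T ⊔ zpowers (⟨a, ha2⟩ : E₂) = ⊤ :=
    sup_zpowers_eq le_top (by rw [relIndex_top_right, hTi]) (mem_top _) fun hm =>
      haE (mem_subgroupOf.1 hm)
  have hzinv : (⁅(⟨b, hb2⟩ : E₂), ⟨a, ha2⟩⁆ : E₂) = (⟨z, hz2⟩ : E₂)⁻¹ := Subtype.ext (by
    show ⁅b, a⁆ = z⁻¹
    rw [hz, commutatorElement_inv])
  have hz'C : (⁅(⟨b, hb2⟩ : E₂), ⟨a, ha2⟩⁆ : E₂) ∈ C0 := by
    rw [hzinv]; exact C0.inv_mem ⟨mem_subgroupOf.2 hzE, hzT1⟩
  have hC0card : Nat.card E₂ = Nat.card C0 * p * p := by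
    have hPc := T.card_mul_index
    have hTc : Nat.card C0 * C0.relIndex T = Nat.card T := by
      rw [← Nat.card_congr (subgroupOfEquivOfLe (inf_le_left : C0 ≤ T)).toEquiv]
      exact card_mul_index _
    rw [hTi, ← hTc, hrel] at hPc
    exact hPc.symm
  obtain ⟨hCc, c0, hc0, hCcl⟩ := central_of_two (h.pS.to_le h2S) (sectional_of_le h2S h.rank)
    hTgen hPgen (Subtype.ext hbp) (Subtype.ext hap)
    (fun c hc => Subtype.ext (hbc c (mem_subgroupOf.1 hc.1)))
    (fun c hc => Subtype.ext (haT1 c hc.2).symm) hz'C hC0card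
  -- `E ⊓ E₂` is abelian
  set M := E ⊓ E₂ with hM
  set s0 : Set Ω := {z, (c0 : Ω), b} with hs0
  have hs0M : s0 ⊆ M := by
    rintro y (rfl | rfl | rfl)
    exacts [⟨hzE, hz2⟩, ⟨mem_subgroupOf.1 hc0.1, c0.2⟩, ⟨hVE hb, hb2⟩]
  have hMgen : M ≤ closure s0 := by
    have hle : T ≤ (closure s0).subgroupOf E₂ := by
      rw [← hTgen, ← hCcl]
      refine sup_le ((closure_le _).2 ?_) (zpowers_le.2 (mem_subgroupOf.2
        (Subgroup.subset_closure (Or.inr (Or.inr rfl)))))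
      rintro y (rfl | rfl)
      · rw [hzinv]
        exact inv_mem (mem_subgroupOf.2 (Subgroup.subset_closure (Or.inl rfl)))
      · exact mem_subgroupOf.2 (Subgroup.subset_closure (Or.inr (Or.inl rfl)))
    intro y hy
    exact mem_subgroupOf.1 (hle (show (⟨y, hy.2⟩ : E₂) ∈ T from mem_subgroupOf.2 hy.1))
  have hMab : ∀ u ∈ M, ∀ v ∈ M, u * v = v * u := by
    intro u hu' v hv
    have hle : closure s0 ≤ centralizer ({v} : Set Ω) := (closure_le _).2 (by
      rintro y (rfl | rfl | rfl) <;> rw [SetLike.mem_coe, mem_centralizer_singleton_iff]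
      · exact hzc v (h1S hv.1)
      · exact (congrArg Subtype.val (hCc c0 hc0 ⟨v, hv.2⟩)).symm
      · exact hbc v hv.1)
    exact mem_centralizer_singleton_iff.1 (hle (hMgen hu'))
  -- `E` is abelian
  obtain ⟨f, hfE, hf2⟩ : ∃ f ∈ E, f ∉ E₂ := by
    by_contra! hall
    exact hne (eq_of_le_of_card_ge hall (Nat.eq_of_mul_eq_mul_left hp.out.pos
      ((h.card_eq h1).symm.trans (h.card_eq h2))).ge).ge
  have hfS := h1S hfE
  have hEdec : ∀ y ∈ E, y ∈ closure ((M : Set Ω) ∪ {f}) := by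
    intro y hy
    obtain ⟨g, hg, n, rfl⟩ := h.exists_mul h2 hfS hf2 y (h1S hy)
    have hg1 : g ∈ E := by
      have := E.mul_mem hy (E.inv_mem (E.pow_mem hfE n))
      rwa [mul_inv_cancel_right] at this
    exact Subgroup.mul_mem _ (Subgroup.subset_closure (Or.inl ⟨hg1, hg⟩))
      (Subgroup.pow_mem _ (Subgroup.subset_closure (Set.mem_union_right _ (Set.mem_singleton _))) n)
  have hMfE : (M : Set Ω) ∪ {f} ⊆ E := by
    rintro y (hy | rfl)
    exacts [hy.1, hfE]
  set w : Ω := ⁅(c0 : Ω), f⁆ with hw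
  have hc0M : (c0 : Ω) ∈ M := hs0M (Or.inr (Or.inl rfl))
  have hMnor : Nor S M := fun s hs x hx =>
    ⟨h.nor_ess h1 s hs x hx.1, h.nor_ess h2 s hs x hx.2⟩
  have hwM : w ∈ M := (hMnor.comm_mem hc0M hfS).1
  set D := zpowers w with hD
  have hDM : D ≤ M := zpowers_le.2 hwM
  have hMf : ∀ m ∈ M, ⁅m, f⁆ ∈ D := by
    intro m hm
    refine comm_induction (S := M) (N := D) (fun u hu' x hx => ?_) hs0M ?_ m (hMgen hm)
    · rw [hMab u hu' x (hDM hx), mul_inv_cancel_right]; exact hx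
    · rintro y (rfl | rfl | rfl)
      · rw [commutatorElement_eq_one_iff_mul_comm.2 (hzc f hfS)]; exact one_mem _
      · exact mem_zpowers _
      · rw [commutatorElement_eq_one_iff_mul_comm.2 (hbc f hfE)]; exact one_mem _
  have hDnor : Nor E D := by
    have hgen : (M : Set Ω) ∪ {f} ⊆ normalizer (D : Set Ω) := by
      haveI := finite_of_le (hDM.trans (inf_le_left.trans h1S))
      rintro y (hy | hy)
      · refine mem_normalizer_fintype (S := (D : Set Ω)) fun x hx => ?_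
        rw [hMab y hy x (hDM hx), mul_inv_cancel_right]; exact hx
      · rw [Set.mem_singleton_iff.1 hy]
        refine mem_normalizer_fintype (S := (D : Set Ω)) ?_
        rintro _ ⟨i, rfl⟩
        show f * w ^ i * f⁻¹ ∈ D
        rw [← conj_zpow]
        refine zpow_mem ?_ i
        rw [show f * w * f⁻¹ = ⁅f * (c0 : Ω) * f⁻¹, f⁆ by
          rw [hw]; simp only [commutatorElement_def]; group]
        exact hMf _ (hMnor f hfS _ hc0M)
    exact fun u hu' x hx => (mem_normalizer_iff.1 ((closure_le _).2 hgen (hEdec u hu')) x).1 hx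
  have hyf : ∀ y ∈ E, ⁅y, f⁆ ∈ D := fun y hy => by
    refine comm_induction hDnor hMfE ?_ y (hEdec y hy)
    rintro x (hx | rfl)
    · exact hMf x hx
    · rw [commutatorElement_self]; exact one_mem _
  have hcommD : commSub E E ≤ D := commSub_le fun u hu' v hv => by
    refine comm_induction hDnor hMfE ?_ u (hEdec u hu')
    rintro x (hx | rfl)
    · rw [← commutatorElement_inv v x]
      refine inv_mem (comm_induction hDnor hMfE ?_ v (hEdec v hv))
      rintro y (hy | rfl)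
      · rw [commutatorElement_eq_one_iff_mul_comm.2 (hMab y hy x hx)]; exact one_mem _
      · rw [← commutatorElement_inv x y]; exact inv_mem (hMf x hx)
    · rw [← commutatorElement_inv v x]; exact inv_mem (hyf v hv)
  have hVc : Nat.card V = p ^ 2 := hk
  have hEab : ∀ u ∈ E, ∀ v ∈ E, u * v = v * u := by
    by_contra hno
    push Not at hno
    obtain ⟨u, hu', v, hv, huv⟩ := hno
    have hCE : commSub E E ≤ E := hcommD.trans (hDM.trans inf_le_left)
    have hCi : Inv DF E (commSub E E) := inv_commSub le_rfl le_rfl inv_self inv_self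
    have hle : V ≤ D := (orb_le_of_inv hCi (h.zOne_le_of_nor hj (hCE.trans h1S)
      (h.nor_of_inv h1 hCE hCi) fun e => huv (commutatorElement_eq_one_iff_mul_comm.1
        (mem_bot.1 (e ▸ mem_commSub hu' hv))))).trans hcommD
    haveI : IsCyclic V := Subgroup.isCyclic_of_le hle
    obtain ⟨g, hg⟩ := IsCyclic.exists_ofOrder_eq_natCard (α := V)
    have hgp : orderOf g ≤ p := orderOf_le_of_pow_eq_one hp.out.pos
      (Subtype.ext (h.vOf_central h1 g.2).2)
    rw [hg, hVc] at hgp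
    exact absurd ((Nat.pow_le_pow_iff_right hp1).1 (hgp.trans (pow_one p).ge)) (by norm_num)
  -- `E` is elementary
  have hpow : ∀ g ∈ E, g ^ p = 1 := by
    let Pw : Subgroup Ω :=
      { carrier := {y | ∃ g ∈ E, g ^ p = y}
        one_mem' := ⟨1, one_mem _, one_pow p⟩
        mul_mem' := by
          rintro _ _ ⟨g, hg, rfl⟩ ⟨g', hg', rfl⟩
          exact ⟨g * g', mul_mem hg hg', (show Commute g g' from hEab g hg g' hg').mul_pow p⟩
        inv_mem' := by
          rintro _ ⟨g, hg, rfl⟩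
          exact ⟨g⁻¹, inv_mem hg, inv_pow g p⟩ }
    have hPwE : Pw ≤ E := by rintro _ ⟨g, hg, rfl⟩; exact pow_mem hg p
    have hPwi : Inv DF E Pw := by
      rintro β - _ - ⟨g, hg, rfl⟩
      exact ⟨apl β g, apl_mem β hg, (apl_map_pow β hg p).symm⟩
    intro g hg
    by_contra hg1
    have hne0 : Pw ≠ ⊥ := fun e => hg1 (mem_bot.1 (e ▸ (⟨g, hg, rfl⟩ : g ^ p ∈ Pw)))
    obtain ⟨g₁, hg₁, hgb⟩ : b ∈ Pw := orb_le_of_inv hPwi
      (h.zOne_le_of_nor hj (hPwE.trans h1S) (h.nor_of_inv h1 hPwE hPwi) hne0) hb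
    set w₁ : Ω := ⁅a, g₁⁆ with hw₁
    have hw₁E : w₁ ∈ E := h.comm_mem_ess h1 haS (h1S hg₁)
    have hw₁2 : w₁ ∈ E₂ := h.comm_mem_ess h2 haS (h1S hg₁)
    set ζ : Ω := ⁅a, w₁⁆ with hζ
    have hζL : ζ ∈ L := by rw [hζ, ← commutatorElement_inv w₁ a]; exact inv_mem (hga w₁ hw₁2)
    have hζc : ∀ s ∈ S, ζ * s = s * ζ := (hLZ hζL).2.1
    have hwg : w₁ * g₁ = g₁ * w₁ := hEab w₁ hw₁E g₁ hg₁
    have e1 : a * g₁ * a⁻¹ = w₁ * g₁ := by rw [hw₁, commutatorElement_def]; group
    have e2 : a * w₁ * a⁻¹ = ζ * w₁ := by rw [hζ, commutatorElement_def]; group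
    have hiter : ∀ i : ℕ, a ^ i * g₁ * (a ^ i)⁻¹ = ζ ^ i.choose 2 * w₁ ^ i * g₁ := by
      intro i
      induction i with
      | zero => simp
      | succ i ih =>
        have e3 : a * ζ ^ i.choose 2 * a⁻¹ = ζ ^ i.choose 2 := by
          rw [← ((show Commute ζ a from hζc a haS).pow_left _).eq, mul_inv_cancel_right]
        calc a ^ (i + 1) * g₁ * (a ^ (i + 1))⁻¹ = a * (a ^ i * g₁ * (a ^ i)⁻¹) * a⁻¹ := by
              rw [pow_succ']; group
          _ = (a * ζ ^ i.choose 2 * a⁻¹) * (a * w₁ * a⁻¹) ^ i * (a * g₁ * a⁻¹) := by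
              rw [ih, conj_pow]; group
          _ = ζ ^ i.choose 2 * (ζ ^ i * w₁ ^ i) * (w₁ * g₁) := by
              rw [e1, e2, e3, (show Commute ζ w₁ from hζc w₁ (h1S hw₁E)).mul_pow]
          _ = ζ ^ (i.choose 2 + i) * w₁ ^ (i + 1) * g₁ := by
              rw [pow_add, pow_succ]; group
          _ = _ := by
              rw [show (i + 1).choose 2 = i.choose 2 + i by
                rw [Nat.choose_succ_succ' i 1, Nat.choose_one_right, add_comm]]
    have hwp : w₁ ^ p = 1 := by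
      have h0 := hiter p
      rw [hap, one_mul, inv_one, mul_one, eq_comm, mul_eq_right] at h0
      obtain ⟨q, hq⟩ := hp.out.dvd_choose_self (k := 2) (by norm_num)
        (lt_of_lt_of_le (by norm_num) (three_le h.odd))
      rwa [hq, pow_mul, (hLZ hζL).2.2, one_pow, one_mul] at h0
    refine hab ?_
    have e4 : a * b * a⁻¹ = b := by
      rw [← hgb, ← conj_pow, e1, (show Commute w₁ g₁ from hwg).mul_pow, hwp, one_mul]
    calc a * b = (a * b * a⁻¹) * a := by group
      _ = b * a := by rw [e4]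
  -- orders
  have hEc : Nat.card E = p ^ 3 := by
    refine le_antisymm (h.card_elem h1S ⟨hEab, hpow⟩) ?_
    have hEE : Nat.card E = Nat.card E₂ :=
      Nat.eq_of_mul_eq_mul_left hp.out.pos ((h.card_eq h1).symm.trans (h.card_eq h2))
    have hzz : (⟨z, hz2⟩ : E₂) ∈ C0 := ⟨mem_subgroupOf.2 hzE, hzT1⟩
    have h0 : p ≤ Nat.card C0 := by
      have := card_le_of_le (zpowers_le.2 hzz)
      rwa [Nat.card_zpowers, Subgroup.orderOf_mk, orderOf_eq_prime hzp hz1] at this
    rw [hEE, hC0card, show p ^ 3 = p * p * p by ring]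
    exact Nat.mul_le_mul_right p (Nat.mul_le_mul_right p h0)
  exact Or.inr (by rw [h.card_eq h1, hEc]; ring)

/-- The nonabelian case. -/
theorem Two.nonabelian (t : Two p S DF K₁ K₂)
    (hW : ∃ B, Ess S K₁ K₂ B ∧ ∃ a ∈ orb DF B (pSub p S DF K₁ K₂), ∃ b ∈ orb DF B (pSub p S DF K₁ K₂),
      a * b ≠ b * a) : Goal p S K₁ K₂ := by
  classical
  obtain ⟨B, hB, x, hx, y, hy, hxy⟩ := hW
  set P := pSub p S DF K₁ K₂ with hP
  have hPB : P ≤ B := t.pSub_le hB
  obtain ⟨α, hα, w, hw, v, hv, hwv⟩ :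
      ∃ α ∈ DF B, ∃ w ∈ P, ∃ v ∈ P, apl α w * v ≠ v * apl α w := by
    by_contra! hall
    refine hxy ?_
    haveI : IsMulCommutative (orb DF B P) := isMulCommutative_closure (by
      rintro _ ⟨α, hα, w, hwB, hw, rfl⟩ _ ⟨β, hβ, v, hvB, hv, rfl⟩
      have h0 := congrArg (apl β) (hall (β⁻¹ * α) (mul_mem (inv_mem hβ) hα) w hw v hv)
      have hm : apl (β⁻¹ * α) w ∈ B := apl_mem _ hwB
      rwa [apl_map_mul β hm hvB, apl_map_mul β hvB hm, apl_mul β⁻¹ α hwB,
        apl_apl_inv β (apl_mem α hwB)] at h0)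
    exact congrArg Subtype.val (IsMulCommutative.is_comm.comm (⟨x, hx⟩ : orb DF B P) ⟨y, hy⟩)
  -- replace the elements by members of moved socles
  obtain ⟨E, hE, b, hb, E', hE', v₂, hv₂, hab⟩ :
      ∃ E, Moved p S DF K₁ K₂ E ∧ ∃ b ∈ vOf p S DF E, ∃ E', Moved p S DF K₁ K₂ E' ∧ ∃ v₂ ∈ vOf p S DF E',
        apl α v₂ * b ≠ b * apl α v₂ := by
    by_contra! hall
    refine hwv ?_
    have h1 : ∀ u ∈ P, ∀ E', Moved p S DF K₁ K₂ E' → ∀ v₂ ∈ vOf p S DF E', apl α v₂ * u = u * apl α v₂ := by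
      intro u hu E' hE' v₂ hv₂
      have hle : P ≤ centralizer ({apl α v₂} : Set Ω) := (closure_le _).2 (by
        rintro b ⟨E, hE, hb⟩
        exact mem_centralizer_singleton_iff.2 (hall E hE b hb E' hE' v₂ hv₂).symm)
      exact (mem_centralizer_singleton_iff.1 (hle hu)).symm
    have h2 : ∀ u ∈ P, apl α u * v = v * apl α u := by
      intro u hu
      induction hu using Subgroup.closure_induction with
      | mem y hy => obtain ⟨E', hE', hy⟩ := hy; exact h1 v hv E' hE' y hy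
      | one => rw [apl_map_one, one_mul, mul_one]
      | mul a b ha hb iha ihb =>
        rw [apl_map_mul α (hPB ha) (hPB hb)]
        exact ((show Commute (apl α a) v from iha).mul_left ihb).eq
      | inv a ha iha =>
        rw [apl_map_inv α (hPB ha)]
        exact (show Commute (apl α a) v from iha).inv_left.eq
    exact h2 w hw
  by_cases hbig : ∃ E₃, Moved p S DF K₁ K₂ E₃ ∧ Nat.card (vOf p S DF E₃) = p ^ 3
  · obtain ⟨E₃, hE₃, hc₃⟩ := hbig
    haveI := finite_of_le t.pSub_le_S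
    have hall : ∀ E₄, Moved p S DF K₁ K₂ E₄ → Nat.card (vOf p S DF E₄) = p ^ 3 → vOf p S DF E₄ = P :=
      fun E₄ hE₄ hc => eq_of_le_of_card_ge (vOf_le_pSub hE₄) (hc ▸ t.card_pSub)
    have e := hall E₃ hE₃ hc₃
    exact t.pair_case hE₃ hE₃ hB hα (e.symm ▸ vOf_le_pSub hE hb) (e.symm ▸ vOf_le_pSub hE' hv₂) hab
      fun E₄ hE₄ hc => t.eq_of_vOf_eq hE₄ hE₃ ((hall E₄ hE₄ hc).trans e.symm)
  · push Not at hbig
    exact t.pair_case hE hE' hB hα hb hv₂ hab fun E₄ hE₄ hc => absurd hc (hbig E₄ hE₄)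

end Cfsg.Agent.FusRankThreeChar
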