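import Cfsg.Agent.FusRankThreeChar.Red

/-!
The moved socles all lie in all essential subgroups: the subgroup they generate.
-/

set_option autoImplicit false
set_option linter.style.haveILetI false
set_option linter.unusedSectionVars false

namespace Cfsg.Agent.FusRankThreeChar

open Cfsg Cfsg.FusionSystem Cfsg.Agent.FusSys Subgroup
open Cfsg.Agent.RankThreeEss (Elem)
open Cfsg.Agent.FusRankThreeNormal (Nor zOne mem_zOne zOne_le nor_zOne inf_zOne_ne_bot apl_map_mul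
  apl_map_one apl_map_inv apl_map_pow apl_map_comm apl_injective commSub mem_commSub commSub_le
  comm_induction comm_step pow_mem_of_gens pow_apply_fix card_elem_le sectional_of_le exists_coord
  isPGroup_of_stab Neg exists_neg image_sylow sup_zpowers_eq central_of_two mem_bottom
  pow_eq_one_of_mem exists_mul_zpow exists_mul_npow exponent_p_of_gens three_le)
open scoped commutatorElement

universe u

variable {Ω : Type u} [Group Ω] {S K₁ K₂ : Subgroup Ω} {p : ℕ}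
variable {D : (X : Subgroup Ω) → Subgroup (MulAut X)}

/-- An essential subgroup moving the socle of the centre. -/
def Moved (p : ℕ) (S : Subgroup Ω) (D : (X : Subgroup Ω) → Subgroup (MulAut X))
    (K₁ K₂ E : Subgroup Ω) : Prop :=
  Ess S K₁ K₂ E ∧ vOf p S D E ≠ zOne p S

/-- The subgroup generated by the moved socles. -/
noncomputable def pSub (p : ℕ) (S : Subgroup Ω) (D : (X : Subgroup Ω) → Subgroup (MulAut X))
    (K₁ K₂ : Subgroup Ω) : Subgroup Ω :=
  closure {y | ∃ E, Moved p S D K₁ K₂ E ∧ y ∈ vOf p S D E}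

theorem vOf_le_pSub {E : Subgroup Ω} (hE : Moved p S D K₁ K₂ E) : vOf p S D E ≤ pSub p S D K₁ K₂ := fun _ hy =>
  Subgroup.subset_closure ⟨E, hE, hy⟩

variable [Finite S] [hp : Fact p.Prime]

/-- The second case. -/
structure Two (p : ℕ) [Fact p.Prime] (S : Subgroup Ω) (D : (X : Subgroup Ω) → Subgroup (MulAut X))
    (K₁ K₂ : Subgroup Ω) : Prop where
  hyp : Red p S D K₁ K₂
  all : ∀ E, Moved p S D K₁ K₂ E → ∀ B, Ess S K₁ K₂ B → vOf p S D E ≤ B

namespace Two

variable (t : Two p S D K₁ K₂)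
include t

theorem exists_moved : ∃ E, Moved p S D K₁ K₂ E := by
  by_contra! hno
  refine t.hyp.zOne_ne_bot (t.hyp.red _ le_rfl inv_zOne_top fun B hB => ?_)
  have hv : vOf p S D B = zOne p S := by
    by_contra hne
    exact hno B ⟨hB, hne⟩
  rw [← hv]
  exact inv_orb

theorem pSub_le {B : Subgroup Ω} (hB : Ess S K₁ K₂ B) : pSub p S D K₁ K₂ ≤ B :=
  (closure_le _).2 fun _ ⟨E, hE, hy⟩ => t.all E hE B hB hy

theorem pSub_le_S : pSub p S D K₁ K₂ ≤ S := (closure_le _).2 fun _ ⟨E, hE, hy⟩ => hE.1.1.1 (vOf_le hy)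

theorem elem_pSub : Elem p (pSub p S D K₁ K₂) := by
  set s : Set Ω := {y | ∃ E, Moved p S D K₁ K₂ E ∧ y ∈ vOf p S D E}
  haveI : IsMulCommutative (pSub p S D K₁ K₂) := isMulCommutative_closure (k := s) (by
    rintro a ⟨E, hE, ha⟩ b ⟨E', hE', hb⟩
    exact (t.hyp.vOf_central hE.1 ha).1 b (t.all E' hE' E hE.1 hb))
  have hc : ∀ a ∈ pSub p S D K₁ K₂, ∀ b ∈ pSub p S D K₁ K₂, a * b = b * a := fun a ha b hb =>
    congrArg Subtype.val (IsMulCommutative.is_comm.comm (⟨a, ha⟩ : pSub p S D K₁ K₂) ⟨b, hb⟩)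
  refine ⟨hc, fun a ha => ?_⟩
  induction ha using Subgroup.closure_induction with
  | mem y hy => obtain ⟨E, hE, hy⟩ := hy; exact (t.hyp.vOf_central hE.1 hy).2
  | one => exact one_pow p
  | mul a b ha hb iha ihb =>
    rw [(show Commute a b from hc a ha b hb).mul_pow, iha, ihb, one_mul]
  | inv a _ iha => rw [inv_pow, iha, inv_one]

theorem inv_pSub : Inv D S (pSub p S D K₁ K₂) := by
  intro β hβ x _ hx
  induction hx using Subgroup.closure_induction with
  | mem y hy =>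
    obtain ⟨E, hE, hy⟩ := hy
    exact Subgroup.subset_closure ⟨E, hE, t.hyp.orb_keep hE.1 hβ _ y hy⟩
  | one => rw [apl_map_one]; exact one_mem _
  | mul a b ha hb iha ihb =>
    rw [apl_map_mul β (t.pSub_le_S ha) (t.pSub_le_S hb)]
    exact mul_mem (iha (t.pSub_le_S ha)) (ihb (t.pSub_le_S hb))
  | inv a ha iha =>
    rw [apl_map_inv β (t.pSub_le_S ha)]
    exact inv_mem (iha (t.pSub_le_S ha))

theorem eq_of_vOf_eq {E E' : Subgroup Ω} (hE : Moved p S D K₁ K₂ E) (hE' : Moved p S D K₁ K₂ E')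
    (he : vOf p S D E = vOf p S D E') : E = E' := by
  ext x
  refine ⟨fun hx => ?_, fun hx => ?_⟩
  · exact (t.hyp.mem_iff_comm hE'.1 hE'.2 (hE.1.1.1 hx)).2
      (he ▸ (t.hyp.mem_iff_comm hE.1 hE.2 (hE.1.1.1 hx)).1 hx)
  · exact (t.hyp.mem_iff_comm hE.1 hE.2 (hE'.1.1.1 hx)).2
      (he.symm ▸ (t.hyp.mem_iff_comm hE'.1 hE'.2 (hE'.1.1.1 hx)).1 hx)

theorem card_pSub : Nat.card (pSub p S D K₁ K₂) ≤ p ^ 3 := t.hyp.card_elem t.pSub_le_S t.elem_pSub

theorem card_vOf {E : Subgroup Ω} (hE : Moved p S D K₁ K₂ E) :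
    ∃ k, Nat.card (vOf p S D E) = p ^ k ∧ 2 ≤ k ∧ k ≤ 3 := by
  have hle : vOf p S D E ≤ S := vOf_le.trans hE.1.1.1
  haveI := finite_of_le hle
  obtain ⟨k, hk⟩ := IsPGroup.iff_card.1 (t.hyp.pS.to_le hle)
  haveI := finite_of_le (zOne_le (p := p) (S := S))
  obtain ⟨j, hj⟩ := IsPGroup.iff_card.1 (t.hyp.pS.to_le (zOne_le (p := p) (S := S)))
  have hj0 : j ≠ 0 := fun e => t.hyp.zOne_ne_bot (card_eq_one.1 (by rw [hj, e, pow_zero]))
  have hlt : j < k := by
    refine (Nat.pow_lt_pow_iff_right hp.out.one_lt).1 ?_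
    rw [← hj, ← hk]
    refine lt_of_le_of_ne (card_le_of_le (t.hyp.zOne_le_vOf hE.1)) fun e => hE.2 ?_
    exact (eq_of_le_of_card_ge (t.hyp.zOne_le_vOf hE.1) e.ge).symm
  have h3 := t.hyp.card_elem hle (t.hyp.vOf_elem hE.1)
  rw [hk] at h3
  exact ⟨k, hk, by omega, (Nat.pow_le_pow_iff_right hp.out.one_lt).1 h3⟩

end Two

end Cfsg.Agent.FusRankThreeChar
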