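import Cfsg.Agent.FusRankThreeChar.Induct

/-!
Elementary abelian invariant subgroups of order `p ^ 3`, and commutators in two-step situations.
-/

set_option autoImplicit false
set_option linter.style.haveILetI false
set_option linter.unusedSectionVars false

namespace Cfsg.Agent.FusRankThreeChar

open Cfsg Cfsg.FusionSystem Cfsg.Agent.FusSys Subgroup
open Cfsg.Agent.RankThreeEss (Elem)
open Cfsg.Agent.FusRankThreeNormal (Nor zOne apl_map_mul apl_map_one apl_map_inv apl_map_pow
  apl_map_comm comm_induction)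
open scoped commutatorElement

universe u

variable {Ω : Type u} [Group Ω] {S E Q K₁ K₂ : Subgroup Ω} {p : ℕ}
variable {D : (X : Subgroup Ω) → Subgroup (MulAut X)}

/-- Commutators of `M⟨x⟩` lie in `N` when those of `M` with all elements and of `x` with itself do. -/
theorem comm_gen {T N : Subgroup Ω} (hN : Nor T N) {s : Set Ω} (hs : s ⊆ T)
    (h : ∀ u ∈ s, ∀ v ∈ s, ⁅u, v⁆ ∈ N) : ∀ u ∈ closure s, ∀ v ∈ closure s, ⁅u, v⁆ ∈ N := by
  intro u hu v hv
  refine comm_induction hN hs (fun y hy => ?_) u hu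
  rw [← commutatorElement_inv v y]
  refine inv_mem (comm_induction hN hs (fun w hw => ?_) v hv)
  exact h w hw y hy

variable [Finite S] [hp : Fact p.Prime]

namespace Setting

variable (h : Setting p S D K₁ K₂)
include h

/-- An elementary abelian subgroup of order `p ^ 3` contains the elements of order `p` centralising
it. -/
theorem mem_elem {U : Subgroup Ω} (hUS : U ≤ S) (hU : Elem p U) (hUc : Nat.card U = p ^ 3) {y : Ω}
    (hy : y ∈ S) (hyp : y ^ p = 1) (hyU : ∀ u ∈ U, y * u = u * y) : y ∈ U := by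
  by_contra hno
  have hel : Elem p (U.subgroupOf S) :=
    ⟨fun a ha b hb => Subtype.ext (hU.1 a ha b hb), fun a ha => Subtype.ext (hU.2 a ha)⟩
  obtain ⟨he, hc⟩ := hel.extend (x := (⟨y, hy⟩ : S)) (Subtype.ext hyp)
    (fun a ha => Subtype.ext (hyU a ha)) hno
  have h1 := h.card_elem (A := (U.subgroupOf S ⊔ zpowers (⟨y, hy⟩ : S)).map S.subtype)
    (map_subtype_le _) ⟨by
      rintro _ ⟨a, ha, rfl⟩ _ ⟨b, hb, rfl⟩
      exact congrArg Subtype.val (he.1 a ha b hb), by
      rintro _ ⟨a, ha, rfl⟩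
      exact congrArg Subtype.val (he.2 a ha)⟩
  rw [card_map_of_injective S.subtype_injective] at h1
  rw [Nat.card_congr (subgroupOfEquivOfLe hUS).toEquiv, hUc] at hc
  have h2 : p ^ 3 * p ≤ p ^ 3 := hc.trans h1
  have := hp.out.one_lt
  nlinarith [pow_pos hp.out.pos 3]

/-- An automorphism fixing an invariant elementary abelian subgroup of order `p ^ 3` is a
`p`-element. -/
theorem fix_elem (hE : Ess S K₁ K₂ E) {U : Subgroup Ω} (hUE : U ≤ E) (hU : Elem p U)
    (hUc : Nat.card U = p ^ 3) (hUi : Inv D E U) {t : MulAut E} (ht : t ∈ D E)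
    (hfix : ∀ u ∈ U, apl t u = u) : ∃ k, t ^ p ^ k = 1 := by
  haveI := finite_of_le hE.1.1
  haveI : Finite (MulAut E) := Finite.of_injective _ MulEquiv.toEquiv_injective
  obtain ⟨k, hk⟩ := exists_coprime_pow (p := p) t
  refine ⟨k, ?_⟩
  set t' := t ^ p ^ k with ht'def
  have ht' : t' ∈ D E := pow_mem ht _
  have hfix' : ∀ u ∈ U, apl t' u = u := by
    intro u hu
    have : ∀ j : ℕ, apl (t ^ j) u = u := fun j => by
      induction j with
      | zero => rw [pow_zero, apl_one (hUE hu)]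
      | succ j ih => rw [pow_succ', apl_mul _ _ (hUE hu), ih, hfix u hu]
    exact this _
  set C := E ⊓ Subgroup.centralizer (U : Set Ω) with hC
  have hCE : C ≤ E := inf_le_left
  have hCi : Inv D E C := hUi.centralizer hUE
  have hUC : U ≤ C := fun u hu => ⟨hUE hu, mem_centralizer_iff.2 fun v hv => hU.1 v hv u hu⟩
  haveI : Finite C := finite_of_le (hCE.trans hE.1.1)
  haveI : Finite (MulAut C) := Finite.of_injective _ MulEquiv.toEquiv_injective
  set res := resHom hCi hCE with hres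
  have ho : Nat.Coprime (orderOf (res ⟨t', ht'⟩)) p :=
    Nat.Coprime.coprime_dvd_left ((orderOf_map_dvd res _).trans (by
      rw [Subgroup.orderOf_mk])) hk
  have hfixC : ∀ c ∈ C, apl t' c = c := by
    have h1 : res ⟨t', ht'⟩ = 1 := Cfsg.Agent.Fusion.eq_one_of_fixes_omega
      (h.pS.to_le (hCE.trans hE.1.1)) _ ho fun c hc => by
        rcases hc with hc | ⟨hp2, -⟩
        · refine Subtype.ext ?_
          rw [hres, resHom_apply]
          refine hfix' _ (h.mem_elem (hUE.trans hE.1.1) hU hUc (hE.1.1 (hCE c.2))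
            (congrArg Subtype.val hc) fun u hu => ?_)
          exact ((mem_centralizer_iff.1 c.2.2) u hu).symm
        · exact absurd h.odd (by rw [hp2]; decide)
    intro c hc
    have h2 := congrArg (fun f : MulAut C => ((f ⟨c, hc⟩ : C) : Ω)) h1
    simpa [hres, resHom_apply] using h2
  obtain ⟨m, hm⟩ := h.pow_eq_one_of_series hE (N := ser2 C E) (n := 2) (ser2_mono hCE) rfl (le_refl E)
    (f := t') (fun i hi2 y hy hyN => by
      match i, hi2 with
      | 0, _ =>
        show _ ∈ (⊥ : Subgroup Ω)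
        rw [hfixC y hyN, inv_mul_cancel]; exact one_mem _
      | 1, _ =>
        refine ⟨E.mul_mem (E.inv_mem hy) (apl_mem _ hy), mem_centralizer_iff.2 fun u hu => ?_⟩
        have hC' : ∀ c ∈ U, y * c * y⁻¹ ∈ U := fun c hc =>
          h.nor_of_inv hE hUE hUi y (hE.1.1 hy) c hc
        have e := congrArg id (hfix' _ (hC' u hu))
        simp only [id] at e
        rw [apl_map_mul t' (E.mul_mem hy (hUE hu)) (E.inv_mem hy), apl_map_mul t' hy (hUE hu),
          apl_map_inv t' hy, hfix' u hu] at e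
        calc u * (y⁻¹ * apl t' y) = y⁻¹ * (y * u * y⁻¹) * apl t' y := by group
          _ = y⁻¹ * (apl t' y * u * (apl t' y)⁻¹) * apl t' y := by rw [e]
          _ = y⁻¹ * apl t' y * u := by group)
  by_contra hne
  have h3 : orderOf t' ∣ p ^ m := orderOf_dvd_of_pow_eq_one hm
  have h4 : orderOf t' = 1 := Nat.eq_one_of_dvd_coprimes (hk.pow_right m) dvd_rfl h3
  exact hne (orderOf_eq_one_iff.1 h4)

/-- An element outside cannot stabilise an invariant series on such a subgroup. -/
theorem elem_series_false (hE : Ess S K₁ K₂ E) {U : Subgroup Ω} (hUE : U ≤ E) (hU : Elem p U)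
    (hUc : Nat.card U = p ^ 3) (hUi : Inv D E U) {x : Ω} (hxS : x ∈ S) (hxE : x ∉ E)
    {N : ℕ → Subgroup Ω} (hmono : Monotone N) (h0 : N 0 = ⊥) {n : ℕ} (hn : U ≤ N n)
    (hinv : ∀ i ≤ n, Inv D E (N i))
    (hx : ∀ i < n, ∀ y ∈ E, y ∈ N (i + 1) → y⁻¹ * (x * y * x⁻¹) ∈ N i) : False := by
  obtain ⟨a, ha, γ, hγ, hax, hnp⟩ := h.nonpgroup hE hxS hxE
  haveI := finite_of_le hE.1.1
  refine hnp fun ⟨f, hf⟩ => ?_
  have hs := h.pair_stab hE ha hγ hax hinv hx f hf
  obtain ⟨k, hk⟩ := exists_pow_fix (h.pS.to_le hE.1.1) (N := fun i => (N i).subgroupOf E)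
    (fun i j hij w hw => hmono hij hw) (n := n) (f := f) (by rw [h0, bot_subgroupOf])
    (fun i hi y hy => by
      show ((y⁻¹ * f y : E) : Ω) ∈ N i
      rw [Subgroup.coe_mul, Subgroup.coe_inv, ← apl_coe]; exact hs i hi y y.2 hy)
  obtain ⟨m, hm⟩ := h.fix_elem hE hUE hU hUc hUi (t := f ^ p ^ k)
    (pow_mem (h.pair_le hE ha hγ hf) _) fun u hu => by
      rw [apl_apply _ (hUE hu), hk ⟨u, hUE hu⟩ (hn hu)]
  exact ⟨k + m, Subtype.ext (by
    show f ^ p ^ (k + m) = 1
    rw [pow_add, pow_mul, hm])⟩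

end Setting

end Cfsg.Agent.FusRankThreeChar
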