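import Cfsg.Agent.FusRankThreeChar.Torus
import Cfsg.Agent.FusRankThreeChar.KillBase

/-!
A nontrivial central subgroup of exponent `p` kept by all the chosen automorphisms.
-/

set_option autoImplicit false
set_option linter.style.haveILetI false
set_option linter.unusedSectionVars false

namespace Cfsg.Agent.FusRankThreeChar

open Cfsg Cfsg.FusionSystem Cfsg.Agent.FusSys Subgroup
open Cfsg.Agent.RankThreeEss (Elem)
open Cfsg.Agent.FusRankThreeNormal (Nor zOne mem_zOne apl_map_mul apl_map_one apl_map_inv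
  apl_map_pow apl_map_comm comm_step comm_induction commSub mem_commSub commSub_le)
open scoped commutatorElement

universe u

variable {Ω : Type u} [Group Ω] {S E B Q N C K₁ K₂ : Subgroup Ω} {p : ℕ}
variable {D : (X : Subgroup Ω) → Subgroup (MulAut X)}
variable [Finite S] [hp : Fact p.Prime]

/-- The powers inside a subgroup of an element of order `p` modulo it. -/
theorem dvd_of_pow_mem {g : Ω} (hg : g ∉ C) (hgp : g ^ p ∈ C) {j : ℕ} (hj : g ^ j ∈ C) : p ∣ j := by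
  by_contra hnd
  obtain ⟨u, v, huv⟩ : IsCoprime (j : ℤ) (p : ℤ) := Int.isCoprime_iff_nat_coprime.2 (by
    simpa using ((Nat.Prime.coprime_iff_not_dvd hp.out).2 hnd).symm)
  refine hg ?_
  have : g ^ (u * j + v * p : ℤ) ∈ C := by
    rw [zpow_add, mul_comm u, mul_comm v, zpow_mul, zpow_mul, zpow_natCast, zpow_natCast]
    exact C.mul_mem (C.zpow_mem hj u) (C.zpow_mem hgp v)
  rwa [huv, zpow_one] at this

namespace Setting

variable (h : Setting p S D K₁ K₂)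
include h

/-- A commutator modulo a subgroup centralising the intersection. -/
theorem comm_quot (hNn : Nor S N) (hIN : ∀ v ∈ K₁ ⊓ K₂, ∀ s ∈ S, ⁅v, s⁆ ∈ N) {u x y : Ω}
    (hu : u ∈ S) (hx : x ∈ S) (hy : y ∈ K₁ ⊓ K₂) (k : ℕ) :
    ⁅u, x⁆ ^ k * ⁅u⁻¹, y * x ^ k⁆ ∈ N := by
  haveI := hNn.subgroupOf (le_refl S)
  set f := QuotientGroup.mk' (N.subgroupOf S)
  have hcen : ∀ v : S, (v : Ω) ∈ K₁ ⊓ K₂ → ∀ w, Commute (f v) w := fun v hv w => by
    obtain ⟨s, rfl⟩ := QuotientGroup.mk'_surjective _ w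
    rw [← commutatorElement_eq_one_iff_commute, ← map_commutatorElement]
    exact (QuotientGroup.eq_one_iff _).2 (hIN v hv s s.2)
  set U : S := ⟨u, hu⟩
  set X : S := ⟨x, hx⟩
  set Y : S := ⟨y, h.inter_le_S hy⟩
  have hg : ∀ w, Commute (⁅f U, f X⁆) w := fun w => by
    rw [← map_commutatorElement]; exact hcen _ (h.comm_mem_inter hu hx) w
  have e1 : ⁅(f U)⁻¹, f X⁆ = ⁅f U, f X⁆⁻¹ := by
    rw [show ⁅(f U)⁻¹, f X⁆ = (f U)⁻¹ * ⁅f U, f X⁆⁻¹ * f U by
      simp only [commutatorElement_def]; group,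
      ← ((hg (f U)⁻¹).inv_left).eq, inv_mul_cancel_right]
  have e2 : ⁅(f U)⁻¹, f Y * f X ^ k⁆ = (⁅f U, f X⁆ ^ k)⁻¹ := by
    rw [show ⁅(f U)⁻¹, f Y * f X ^ k⁆ =
        ⁅(f U)⁻¹, f Y⁆ * (f Y * ⁅(f U)⁻¹, f X ^ k⁆ * (f Y)⁻¹) by
      simp only [commutatorElement_def]; group,
      commutatorElement_eq_one_iff_commute.2 (hcen Y hy _).symm, one_mul,
      comm_pow_right (by rw [e1]; exact ((hg (f X)).inv_left).symm), e1,
      (hcen Y hy _).eq, mul_inv_cancel_right, inv_pow]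
  have h1 : f (⁅U, X⁆ ^ k * ⁅U⁻¹, Y * X ^ k⁆) = 1 := by
    rw [map_mul, map_pow, map_commutatorElement, map_commutatorElement, map_inv, map_mul, map_pow, e2,
      mul_inv_cancel]
  exact (QuotientGroup.eq_one_iff (N := N.subgroupOf S) _).1 h1

/-- The involution moves the element outside by the intersection only. -/
theorem torus_shift (hE : Ess S K₁ K₂ E) (hB : Ess S K₁ K₂ B) (hne : E ≠ B) {x : Ω} (hxB : x ∈ B)
    (hxE : x ∉ E) (hNn : Nor S N) (hIN : ∀ v ∈ K₁ ⊓ K₂, ∀ s ∈ S, ⁅v, s⁆ ∈ N) {β : MulAut S}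
    {n u : Ω} (T : Torus p S D K₁ K₂ E N C x β n u) :
    (∃ y ∈ K₁ ⊓ K₂, apl β x = x * y) ∧ ⁅u, x⁆ * apl β ⁅u, x⁆ ∈ N := by
  have hxS := hB.1.1 hxB
  have huS := hE.1.1 T.uE
  set g := ⁅u, x⁆ with hg
  have hgI : g ∈ K₁ ⊓ K₂ := h.comm_mem_inter huS hxS
  obtain ⟨y, hy, k, hyk⟩ := h.exists_mul hE hxS hxE _ (apl_mem β hxS)
  have hyI : y ∈ K₁ ⊓ K₂ := by
    have h1 : apl β x ∈ B := h.inv_ess hB β T.memD x hxS hxB
    rw [← hyk] at h1
    have h2 := B.mul_mem h1 (B.inv_mem (B.pow_mem hxB k))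
    rw [mul_inv_cancel_right] at h2
    rw [← inf_eq hE hB hne]
    exact ⟨hy, h2⟩
  have hβg : apl β g = ⁅u⁻¹, y * x ^ k⁆ := by rw [hg, apl_map_comm β huS hxS, T.uneg, hyk]
  have hm : g ^ k * apl β g ∈ N := by rw [hβg]; exact h.comm_quot hNn hIN huS hxS hyI k
  have hgE : g ∈ E := h.inter_le hE hgI
  have h3 : g ^ k * g⁻¹ ∈ C := by
    have := C.mul_mem (T.le hm) (C.inv_mem (T.neg g hgE))
    rwa [mul_inv_rev, ← mul_assoc, mul_inv_cancel_right] at this
  obtain ⟨j, rfl⟩ : ∃ j, k = j + 1 := by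
    refine ⟨k - 1, ?_⟩
    by_contra hk
    obtain rfl : k = 0 := by omega
    rw [pow_zero, one_mul, inv_mem_iff] at h3
    exact T.moves h3
  rw [pow_succ, mul_inv_cancel_right] at h3
  obtain ⟨q, rfl⟩ := dvd_of_pow_mem T.moves (T.exp g hgE) h3
  have hxp : x ^ (p * q) ∈ K₁ ⊓ K₂ := by
    rw [pow_mul]
    exact pow_mem (show x ^ p ∈ K₁ ⊓ K₂ from ⟨h.pow_mem_ess h.left hxS, h.pow_mem_ess h.right hxS⟩) q
  have hy' : x⁻¹ * (y * x ^ (p * q)) * x ∈ K₁ ⊓ K₂ := by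
    have := h.nor_inter x⁻¹ (S.inv_mem hxS) _ (mul_mem hyI hxp)
    rwa [inv_inv] at this
  have hshift : apl β x = x * (x⁻¹ * (y * x ^ (p * q)) * x) := by rw [← hyk, pow_succ]; group
  refine ⟨⟨_, hy', hshift⟩, ?_⟩
  have h4 := h.comm_quot hNn hIN huS hxS (mul_mem hyI hxp) 1
  rw [pow_one, pow_one] at h4
  rw [hg, apl_map_comm β huS hxS, T.uneg, ← hyk, pow_succ, ← mul_assoc]
  exact h4

/-- The torus makes the intersection abelian. -/
theorem torus_comm (hE : Ess S K₁ K₂ E) {x : Ω} {β : MulAut S} {n u : Ω}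
    (T : Torus p S D K₁ K₂ E N C x β n u) :
    ∀ a ∈ K₁ ⊓ K₂, ∀ b ∈ K₁ ⊓ K₂, a * b = b * a := by
  have hIE := h.inter_le hE
  intro a ha b hb
  have hle : ∀ w ∈ E, (n * w = w * n) → C ⊔ zpowers n ≤ centralizer ({w} : Set Ω) := fun w hw hn =>
    sup_le (fun c hc => mem_centralizer_singleton_iff.2 (T.cen c hc w hw).symm)
      (zpowers_le.2 (mem_centralizer_singleton_iff.2 hn))
  have hbn : n * b = b * n :=
    (mem_centralizer_singleton_iff.1 (hle n (hIE T.nI) rfl (T.igen hb))).symm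
  exact mem_centralizer_singleton_iff.1 (hle b (hIE hb) hbn (T.igen ha))

/-- Generators of a distinguished subgroup. -/
theorem ess_gen (hE : Ess S K₁ K₂ E) (hB : Ess S K₁ K₂ B) (hne : E ≠ B) {e : Ω} (he : e ∈ E)
    (heB : e ∉ B) : ∀ g ∈ E, g ∈ closure (((K₁ ⊓ K₂ : Subgroup Ω) : Set Ω) ∪ {e}) := by
  intro g hg
  obtain ⟨b, hb, k, rfl⟩ := h.exists_mul hB (hE.1.1 he) heB g (hE.1.1 hg)
  have hbE : b ∈ E := by
    have := E.mul_mem hg (E.inv_mem (E.pow_mem he k))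
    rwa [mul_inv_cancel_right] at this
  exact Subgroup.mul_mem _ (Subgroup.subset_closure (Or.inl (by
    rw [SetLike.mem_coe, ← inf_eq hE hB hne]; exact ⟨hbE, hb⟩)))
    (Subgroup.pow_mem _ (Subgroup.subset_closure (Set.mem_union_right _ (Set.mem_singleton _))) k)

/-- Commutators of the intersection in a central invariant subgroup are trivial. -/
theorem central_of_lin (hQI : Q ≤ K₁ ⊓ K₂) (hQz : ∀ q ∈ Q, ∀ s ∈ S, q * s = s * q)
    (hQi : ∀ F, Ess S K₁ K₂ F → Inv D F Q) (hL : ∀ v ∈ K₁ ⊓ K₂, ∀ s ∈ S, ⁅v, s⁆ ∈ Q) :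
    ∀ x ∈ K₁ ⊓ K₂, ∀ s ∈ S, x * s = s * x := by
  have hQn : Nor S Q := fun s hs q hq => by rw [← hQz q hq s hs, mul_inv_cancel_right]; exact hq
  have hQQ : ∀ v ∈ Q, ∀ s ∈ S, ⁅v, s⁆ ∈ Q := fun v hv s hs => by
    rw [commutatorElement_eq_one_iff_mul_comm.2 (hQz v hv s hs)]; exact one_mem _
  have key : ∀ A F, Ess S K₁ K₂ A → Ess S K₁ K₂ F → A ≠ F → ∀ e ∈ A, e ∉ F →
      ∀ v ∈ K₁ ⊓ K₂, v * e = e * v := by
    intro A F hA hF hne e heA heF
    have heS := hA.1.1 heA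
    obtain ⟨C₂, β, n, u, T⟩ :=
      h.exists_torus hF heS heF (le_refl Q) hQI (hQi F hF) (hQi F hF) hQz hQQ hL
    have huA : u ∉ A := fun hu => T.uI (by rw [← inf_eq hA hF hne]; exact ⟨hu, T.uE⟩)
    have huS := hF.1.1 T.uE
    obtain ⟨C₁, β', n', u', T'⟩ :=
      h.exists_torus hA huS huA (le_refl Q) hQI (hQi A hA) (hQi A hA) hQz hQQ hL
    set g := ⁅u, e⁆ with hg
    have hgI : g ∈ K₁ ⊓ K₂ := h.comm_mem_inter huS heS
    have hgC : g ∉ C₁ := fun hm => T'.moves (comm_induction (S := S) T'.nor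
      (s := ((K₁ ⊓ K₂ : Subgroup Ω) : Set Ω) ∪ {e}) (by
        rintro y (hy | rfl)
        exacts [h.inter_le_S hy, heS]) (by
        rintro y (hy | rfl)
        · exact T'.le (hL y hy u huS)
        · rw [← commutatorElement_inv u y]; exact inv_mem hm) _ (h.ess_gen hA hF hne heA heF _ T'.uE))
    obtain ⟨⟨y, hy, hshift⟩, hneg⟩ := h.torus_shift hF hA hne.symm heA heF hQn hL T
    have hab := h.torus_comm hA T'
    set r := ⁅g, e⁆ with hr
    have hrQ : r ∈ Q := hL g hgI e heS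
    have hrS : r ∈ S := h.inter_le_S (hQI hrQ)
    have hgS : g ∈ S := h.inter_le_S hgI
    set q := g * apl β g with hq
    have hqQ : q ∈ Q := hneg
    have hge : ⁅g, e⁆ = 1 := by
      have h1 := apl_map_comm β hgS heS
      rw [← hr, T.fix r (T.le hrQ), hshift, show apl β g = g⁻¹ * q from (inv_mul_cancel_left _ _).symm]
        at h1
      have e1 : ⁅g⁻¹ * q, e * y⁆ = g⁻¹ * ⁅q, e * y⁆ * g * (⁅g⁻¹, e⁆ * (e * ⁅g⁻¹, y⁆ * e⁻¹)) := by
        simp only [commutatorElement_def]; group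
      have e2 : ⁅g⁻¹, e⁆ = g⁻¹ * r⁻¹ * g := by
        rw [hr]; simp only [commutatorElement_def]; group
      rw [e1, e2, commutatorElement_eq_one_iff_mul_comm.2 (hQz q hqQ _ (S.mul_mem heS (h.inter_le_S hy))),
        commutatorElement_eq_one_iff_mul_comm.2 (hab _ (inv_mem hgI) y hy), mul_one, inv_mul_cancel,
        one_mul, mul_one, mul_inv_cancel, mul_one] at h1
      have hc : g⁻¹ * r⁻¹ * g = r⁻¹ := by
        rw [mul_assoc, hQz r⁻¹ (inv_mem hrQ) g hgS, inv_mul_cancel_left]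
      rw [hc] at h1
      have h2 : r * r ∈ (⊥ : Subgroup Ω) := by
        rw [mem_bot]
        nth_rewrite 1 [h1]
        exact inv_mul_cancel r
      exact mem_bot.1 (h.mem_of_sq hrS h2)
    intro v hv
    have hle : C₁ ⊔ zpowers g ≤ centralizer ({e} : Set Ω) := sup_le
      (fun c hc => mem_centralizer_singleton_iff.2 (T'.cen c hc e heA).symm)
      (zpowers_le.2 (mem_centralizer_singleton_iff.2 (commutatorElement_eq_one_iff_mul_comm.1 hge)))
    have hgen : C₁ ⊔ zpowers g = K₁ ⊓ K₂ := h.eq_of_step le_sup_left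
      (fun (e' : C₁ = C₁ ⊔ zpowers g) => hgC (e' ▸ mem_sup_right (mem_zpowers g)))
      (sup_le T'.leI (zpowers_le.2 hgI)) h.inter_le_S T'.card
    exact mem_centralizer_singleton_iff.1 (hle (hgen.symm ▸ hv))
  obtain ⟨u₀, hu₀, hu₀K⟩ := h.exists_not_mem h.right h.left h.ne
  obtain ⟨e₀, he₀, he₀K⟩ := h.exists_not_mem h.left h.right h.ne.symm
  obtain ⟨C₀, β₀, n₀, w₀, T₀⟩ := h.exists_torus h.left (h.right.1.1 he₀) he₀K (le_refl Q) hQI
    (hQi _ h.left) (hQi _ h.left) hQz hQQ hL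
  have hab := h.torus_comm h.left T₀
  intro x hx s hs
  obtain ⟨b, hb, k, rfl⟩ := h.exists_mul h.right (h.left.1.1 hu₀) hu₀K s hs
  refine (Commute.mul_right ?_ ((show Commute x u₀ from
    key K₁ K₂ h.left h.right h.ne u₀ hu₀ hu₀K x hx).pow_right k)).eq
  by_cases hbK : b ∈ K₁
  · exact hab x hx b ⟨hbK, hb⟩
  · exact key K₂ K₁ h.right h.left h.ne.symm b hb hbK x hx

/-- Commutators of a distinguished subgroup in the middle step. -/
theorem ess_comm_step (hE : Ess S K₁ K₂ E) (hNn : Nor S N)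
    (hIN : ∀ v ∈ K₁ ⊓ K₂, ∀ s ∈ S, ⁅v, s⁆ ∈ N) : ∀ a ∈ E, ∀ b ∈ E, ⁅a, b⁆ ∈ N := by
  obtain ⟨F, hF, hne⟩ := h.exists_other hE
  obtain ⟨e, he, heF⟩ := h.exists_not_mem hF hE hne.symm
  intro a ha b hb
  refine comm_gen (T := S) hNn (s := ((K₁ ⊓ K₂ : Subgroup Ω) : Set Ω) ∪ {e}) ?_ ?_ a
    (h.ess_gen hE hF hne.symm he heF a ha) b (h.ess_gen hE hF hne.symm he heF b hb)
  · rintro y (hy | rfl)
    exacts [h.inter_le_S hy, hE.1.1 he]
  · rintro y (hy | rfl) z (hz | rfl)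
    · exact hIN y hy z (h.inter_le_S hz)
    · exact hIN y hy _ (hE.1.1 he)
    · rw [← commutatorElement_inv z]; exact inv_mem (hIN z hz _ (hE.1.1 he))
    · rw [commutatorElement_self]; exact one_mem _

set_option maxHeartbeats 1600000 in
/-- The step above a maximal central invariant subgroup. -/
theorem central_step
    (ih : ∀ {G : Type u} [Group G] (S' : Subgroup G) [Finite S']
      (D' : (X : Subgroup G) → Subgroup (MulAut X)) (J₁ J₂ : Subgroup G),
      Setting p S' D' J₁ J₂ → Nat.card S' < Nat.card S → Goal p S' J₁ J₂)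
    (hQ : Q ≤ zOne p S) (hne : Q ≠ ⊥) (hQS : Inv D S Q) (hQi : ∀ F, Ess S K₁ K₂ F → Inv D F Q)
    (hmax : ∀ Q', Q' ≤ zOne p S → Inv D S Q' → (∀ F, Ess S K₁ K₂ F → Inv D F Q') → Q ≤ Q' →
      Q' = Q) : Goal p S K₁ K₂ := by
  classical
  set I := K₁ ⊓ K₂ with hI
  have hQz : ∀ q ∈ Q, ∀ s ∈ S, q * s = s * q := fun q hq => (hQ hq).2.1
  have hQle : ∀ F, Ess S K₁ K₂ F → Q ≤ F := fun F hF => hQ.trans (h.zOne_le_ess hF)
  have hQI : Q ≤ I := le_inf (hQle _ h.left) (hQle _ h.right)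
  have hQS' : Q ≤ S := fun q hq => (hQ hq).1
  haveI := finite_of_le hQS'
  have hIS : I ≤ S := h.inter_le_S
  haveI := finite_of_le hIS
  have hQn : Nor S Q := h.nor_of_inv_top hQS' hQS
  have hnp : ∀ F, Ess S K₁ K₂ F → ∃ y ∈ S, y ∉ F ∧ ∃ a ∈ D F, ∃ γ ∈ D F,
      (∀ w ∈ F, apl a w = y * w * y⁻¹) ∧
      ¬ IsPGroup p (closure ({a, γ * a * γ⁻¹} : Set (MulAut F))) ∧
      ∀ t ∈ closure ({a, γ * a * γ⁻¹} : Set (MulAut F)),
        (∀ e ∈ F, e⁻¹ * apl t e ∈ Q) → ∃ k, t ^ p ^ k = 1 := by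
    intro F hF
    obtain ⟨x, hx, hxF, -⟩ := h.np F hF
    obtain ⟨a, ha, γ, hγ, hax, hnot⟩ := h.nonpgroup hF hx hxF
    refine ⟨x, hx, hxF, a, ha, γ, hγ, hax, hnot, fun t ht htQ => ?_⟩
    haveI := finite_of_le hF.1.1
    have hs := h.pair_stab hF ha hγ hax (N := ser2 Q F) (n := 1)
      (fun i _ => by
        match i with
        | 0 => exact inv_bot
        | 1 => exact hQi F hF
        | k + 2 => exact inv_self)
      (fun i hi w hw hwN => by
        obtain rfl : i = 0 := by omega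
        have hwQ : w ∈ Q := hwN
        rw [← hQz w hwQ x hx, mul_inv_cancel_right, inv_mul_cancel]; exact one_mem _) t ht
    refine h.pow_eq_one_of_series hF (N := ser2 Q F) (n := 2) (ser2_mono (hQle F hF)) rfl (le_refl F)
      fun i hi w hw hwN => ?_
    match i, hi with
    | 0, _ => exact hs 0 (by norm_num) w hw hwN
    | 1, _ => exact htQ w hw
  by_cases hL : ∀ v ∈ I, ∀ s ∈ S, ⁅v, s⁆ ∈ Q
  · exact Or.inl (h.central_of_lin hQI hQz hQi hL)
  rcases h.quot_cases ih hne hQle hQS hQi hnp with hL' | ⟨hc, hJ⟩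
  · exact absurd hL' hL
  exfalso
  have hp1 := hp.out.one_lt
  have hIc : Nat.card I = p ^ 2 * Nat.card Q := by
    have e1 := h.card_eq h.right
    rw [hc, h.card_inter h.left h.right h.ne, ← hI,
      show p ^ 4 * Nat.card Q = p * (p * (p ^ 2 * Nat.card Q)) by ring] at e1
    exact (Nat.eq_of_mul_eq_mul_left hp.out.pos (Nat.eq_of_mul_eq_mul_left hp.out.pos e1)).symm
  have hQIne : Q ≠ I := fun e => hL fun v hv s hs => by
    rw [← e] at hv
    rw [commutatorElement_eq_one_iff_mul_comm.2 (hQz v hv s hs)]; exact one_mem _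
  obtain ⟨W, hQW, hWI, hWn, hWc⟩ := exists_step h.pS hQI hQIne hIS hQn h.nor_inter
  have hWQ : ∀ v ∈ W, ∀ s ∈ S, ⁅v, s⁆ ∈ Q := comm_step h.pS hQW (hWI.trans hIS) hQn hWn hWc
  have hIW : ∀ v ∈ I, ∀ s ∈ S, ⁅v, s⁆ ∈ W :=
    comm_step h.pS hWI hIS hWn h.nor_inter (by rw [hIc, hWc]; ring)
  have hWS : W ≤ S := hWI.trans hIS
  have hEW : ∀ F, Ess S K₁ K₂ F → ∀ a ∈ F, ∀ b ∈ F, ⁅a, b⁆ ∈ W := fun F hF =>
    h.ess_comm_step hF hWn hIW
  have hWeq : ∀ F, Ess S K₁ K₂ F → (∀ a ∈ F, ∀ b ∈ F, ⁅a, b⁆ ∈ Q) ∨ commSub F F ⊔ Q = W := by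
    intro F hF
    by_cases hab : ∀ a ∈ F, ∀ b ∈ F, ⁅a, b⁆ ∈ Q
    · exact Or.inl hab
    · refine Or.inr (h.eq_of_step le_sup_right (fun e => hab fun a ha b hb => ?_)
        (sup_le (commSub_le (hEW F hF)) hQW) hWS hWc)
      rw [e]; exact mem_sup_left (mem_commSub ha hb)
  -- facts on a distinguished subgroup with commutators outside `Q`
  have facts : ∀ F G, Ess S K₁ K₂ F → Ess S K₁ K₂ G → F ≠ G → commSub F F ⊔ Q = W →
      (¬ ∀ a ∈ F, ∀ b ∈ F, ⁅a, b⁆ ∈ Q) → ∀ e ∈ G, e ∉ F → ∃ β n u,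
      Torus p S D K₁ K₂ F W W e β n u ∧ ⁅n, u⁆ ^ p = 1 ∧ W = Q ⊔ zpowers ⁅n, u⁆ ∧
        Inv D F W ∧ Inv D S W := by
    intro F G hF hG hFG hFW hnab e heG heF
    have hcF : commSub F F ≤ F := (commSub_le (hEW F hF)).trans (hWI.trans (h.inter_le hF))
    have hWi : Inv D F W :=
      hFW ▸ (inv_commSub le_rfl le_rfl inv_self inv_self).sup (hQi F hF) hcF (hQle F hF)
    have hWiS : Inv D S W :=
      hFW ▸ (inv_commSub hF.1.1 hF.1.1 (h.inv_ess hF) (h.inv_ess hF)).sup hQS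
        (hcF.trans hF.1.1) hQS'
    obtain ⟨C, β, n, u, T⟩ :=
      h.exists_torus hF (hG.1.1 heG) heF hQW hWI (hQi F hF) hWi hQz hWQ hIW
    obtain rfl : W = C := by
      haveI := finite_of_le (T.leI.trans hIS)
      refine eq_of_le_of_card_ge T.le ?_
      have h1 := T.card
      rw [← hI, hIc, pow_two, mul_assoc, ← hWc] at h1
      exact (Nat.eq_of_mul_eq_mul_left hp.out.pos h1).ge
    have hnF : n ∈ F := h.inter_le hF T.nI
    set z := ⁅n, u⁆ with hz
    have hzW : z ∈ W := hEW F hF n hnF u T.uE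
    have hzQ : z ∉ Q := by
      intro hzQ
      apply hnab
      have hgenI : ∀ v ∈ I, v ∈ closure ((W : Set Ω) ∪ {n}) := fun v hv =>
        (sup_le (fun w hw => Subgroup.subset_closure (Or.inl hw))
          (zpowers_le.2 (Subgroup.subset_closure (Set.mem_union_right _ (Set.mem_singleton _)))) :
          W ⊔ zpowers n ≤ closure ((W : Set Ω) ∪ {n})) (T.igen hv)
      set s0 : Set Ω := (W : Set Ω) ∪ {n, u} with hs0
      have hle : ∀ g ∈ F, g ∈ closure s0 := fun g hg => by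
        refine (closure_le _).2 ?_ (T.egen g hg)
        rintro y (hy | rfl)
        · refine Subgroup.closure_mono ?_ (hgenI y hy)
          rintro w (hw | rfl)
          exacts [Or.inl hw, Or.inr (Or.inl rfl)]
        · exact Subgroup.subset_closure (Or.inr (Or.inr rfl))
      have hs0S : s0 ⊆ S := by
        rintro y (hy | rfl | rfl)
        exacts [hWS hy, hIS T.nI, hF.1.1 T.uE]
      intro a ha b hb
      refine comm_gen (T := S) hQn hs0S ?_ a (hle a ha) b (hle b hb)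
      intro y hy w hw
      rcases hy with hy | hy
      · exact hWQ y hy w (hs0S hw)
      rcases hw with hw | hw
      · rw [← commutatorElement_inv w y]
        exact inv_mem (hWQ w hw y (hs0S (Or.inr hy)))
      rcases hy with rfl | rfl <;> rcases hw with rfl | rfl
      · rw [commutatorElement_self]; exact one_mem _
      · exact hzQ
      · rw [← commutatorElement_inv w y]; exact inv_mem hzQ
      · rw [commutatorElement_self]; exact one_mem _
    refine ⟨β, n, u, T, ?_, ?_, hWi, hWiS⟩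
    · rw [← comm_pow_left (show Commute n ⁅n, u⁆ from T.cen _ hzW n hnF), T.np,
        commutatorElement_one_left]
    · exact (h.eq_of_step le_sup_left (fun (e' : Q = Q ⊔ zpowers z) => hzQ
        (e' ▸ mem_sup_right (mem_zpowers z))) (sup_le hQW (zpowers_le.2 hzW)) hWS hWc).symm
  by_cases hboth : (¬ ∀ a ∈ K₁, ∀ b ∈ K₁, ⁅a, b⁆ ∈ Q) ∧ ¬ ∀ a ∈ K₂, ∀ b ∈ K₂, ⁅a, b⁆ ∈ Q
  · obtain ⟨e₁, he₁, he₁K⟩ := h.exists_not_mem h.right h.left h.ne
    obtain ⟨e₂, he₂, he₂K⟩ := h.exists_not_mem h.left h.right h.ne.symm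
    obtain ⟨β, n, u, T, hzp, hWgen, hW1, hWiS⟩ := facts K₁ K₂ h.left h.right h.ne
      ((hWeq _ h.left).resolve_left hboth.1) hboth.1 e₂ he₂ he₂K
    obtain ⟨β', n', u', T', -, -, hW2, -⟩ := facts K₂ K₁ h.right h.left h.ne.symm
      ((hWeq _ h.right).resolve_left hboth.2) hboth.2 e₁ he₁ he₁K
    have hcen : ∀ w ∈ W, ∀ s ∈ S, w * s = s * w := by
      intro w hw s hs
      obtain ⟨b, hb, k, rfl⟩ := h.exists_mul h.right (h.left.1.1 he₁) he₁K s hs
      exact ((show Commute w b from (T'.cen w hw b hb).symm).mul_right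
        ((show Commute w e₁ from (T.cen w hw e₁ he₁).symm).pow_right k)).eq
    have hzW : ⁅n, u⁆ ∈ W := hWgen ▸ mem_sup_right (mem_zpowers _)
    have hWz : W ≤ zOne p S :=
      hWgen ▸ sup_le hQ (zpowers_le.2 (mem_zOne.2 ⟨hWS hzW, hcen _ hzW, hzp⟩))
    have hWQeq := hmax W hWz hWiS (fun F hF => by
      rcases hF.2 with rfl | rfl
      exacts [hW1, hW2]) hQW
    rw [hWQeq] at hWc
    have h0 : 0 < Nat.card Q := Nat.card_pos
    nlinarith
  obtain ⟨A, B, hA, hB, hAB, habA⟩ : ∃ A B, Ess S K₁ K₂ A ∧ Ess S K₁ K₂ B ∧ A ≠ B ∧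
      ∀ a ∈ A, ∀ b ∈ A, ⁅a, b⁆ ∈ Q := by
    rcases not_and_or.1 hboth with h1 | h1
    exacts [⟨K₁, K₂, h.left, h.right, h.ne, not_not.1 h1⟩,
      ⟨K₂, K₁, h.right, h.left, h.ne.symm, not_not.1 h1⟩]
  obtain ⟨e, heA, heB⟩ := h.exists_not_mem hB hA hAB
  have hnabB : ¬ ∀ a ∈ B, ∀ b ∈ B, ⁅a, b⁆ ∈ Q := by
    intro habB
    refine hL fun v hv s hs => ?_
    rw [← commutatorElement_inv s v]
    refine inv_mem (comm_induction (S := S) hQn (s := (B : Set Ω) ∪ {e}) ?_ ?_ s ?_)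
    · rintro y (hy | rfl)
      exacts [hB.1.1 hy, hA.1.1 heA]
    · rintro y (hy | rfl)
      exacts [habB y hy v (h.inter_le hB hv), habA _ heA v (h.inter_le hA hv)]
    · obtain ⟨b, hb, k, rfl⟩ := h.exists_mul hB (hA.1.1 heA) heB s hs
      exact Subgroup.mul_mem _ (Subgroup.subset_closure (Or.inl hb))
        (Subgroup.pow_mem _ (Subgroup.subset_closure
          (Set.mem_union_right _ (Set.mem_singleton _))) k)
  obtain ⟨β, n, u, T, hzp, hWgen, hWiB, -⟩ :=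
    facts B A hB hA hAB.symm ((hWeq B hB).resolve_left hnabB) hnabB e heA heB
  have heS := hA.1.1 heA
  have huS := hB.1.1 T.uE
  have hnS := hIS T.nI
  obtain ⟨⟨y, hy, hshift⟩, -⟩ := h.torus_shift hB hA hAB.symm heA heB hWn hIW T
  have hIab := h.torus_comm hB T
  -- `e` centralises `n`
  set r := ⁅n, e⁆ with hr
  have hrQ : r ∈ Q := habA n (h.inter_le hA T.nI) e heA
  have hne1 : ⁅n, e⁆ = 1 := by
    have h1 := apl_map_comm β hnS heS
    rw [← hr, T.fix r (hQW hrQ), hshift, T.nneg] at h1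
    have e1 : ⁅n⁻¹, e * y⁆ = n⁻¹ * r⁻¹ * n * (e * ⁅n⁻¹, y⁆ * e⁻¹) := by
      rw [hr]; simp only [commutatorElement_def]; group
    rw [e1, commutatorElement_eq_one_iff_mul_comm.2 (hIab _ (inv_mem T.nI) y hy), mul_one,
      mul_inv_cancel, mul_one, mul_assoc, hQz r⁻¹ (inv_mem hrQ) n hnS, inv_mul_cancel_left] at h1
    have h2 : r * r ∈ (⊥ : Subgroup Ω) := by
      rw [mem_bot]
      nth_rewrite 1 [h1]
      exact inv_mul_cancel r
    exact mem_bot.1 (h.mem_of_sq (hQS' hrQ) h2)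
  have hne' : n * e = e * n := commutatorElement_eq_one_iff_mul_comm.1 hne1
  -- `e` centralises the intersection
  set z := ⁅n, u⁆ with hz
  have hzW : z ∈ W := hWgen ▸ mem_sup_right (mem_zpowers _)
  have hze : z * e = e * z := by
    set g := ⁅e, u⁆ with hg
    have hgI : g ∈ I := h.comm_mem_inter heS huS
    have e1 : e * z * e⁻¹ = ⁅e * n * e⁻¹, g * u⁆ := by
      rw [hz, hg]; simp only [commutatorElement_def]; group
    have e2 : e * n * e⁻¹ = n := by rw [← hne', mul_inv_cancel_right]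
    rw [e2, show ⁅n, g * u⁆ = ⁅n, g⁆ * (g * z * g⁻¹) by
      rw [hz]; simp only [commutatorElement_def]; group,
      commutatorElement_eq_one_iff_mul_comm.2 (hIab n T.nI g hgI), one_mul,
      T.cen z hzW g (h.inter_le hB hgI), mul_inv_cancel_right] at e1
    calc z * e = e * z * e⁻¹ * e := by rw [e1]
      _ = e * z := by group
  have hIe : I ≤ centralizer ({e} : Set Ω) := by
    refine fun v hv => (sup_le ?_ ?_ : W ⊔ zpowers n ≤ centralizer ({e} : Set Ω)) (T.igen hv)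
    · rw [hWgen]
      exact sup_le (fun q hq => mem_centralizer_singleton_iff.2 (hQz q hq e heS))
        (zpowers_le.2 (mem_centralizer_singleton_iff.2 hze))
    · exact zpowers_le.2 (mem_centralizer_singleton_iff.2 hne')
  have hWz : ∀ v ∈ W, v ^ p = 1 := by
    intro v hv
    rw [hWgen] at hv
    obtain ⟨q, hq, i, rfl⟩ := Cfsg.Agent.FusRankThreeNormal.exists_mul_zpow (A := Q) (g := z)
      (hQn.mem_normalizer (hWS hzW)) hv
    rw [((show Commute q z from hQz q hq z (hWS hzW)).zpow_right i).mul_pow, (hQ hq).2.2,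
      ← zpow_natCast, ← zpow_mul, mul_comm, zpow_mul, zpow_natCast, hzp, one_zpow, one_mul]
  have hIel : Elem p I := by
    refine ⟨hIab, fun v hv => ?_⟩
    obtain ⟨w, hw, i, rfl⟩ := Cfsg.Agent.FusRankThreeNormal.exists_mul_zpow (A := W) (g := n)
      (hWn.mem_normalizer hnS) (T.igen hv)
    rw [((show Commute w n from hIab w (hWI hw) n T.nI).zpow_right i).mul_pow, hWz w hw,
      ← zpow_natCast, ← zpow_mul, mul_comm, zpow_mul, zpow_natCast, T.np, one_zpow, one_mul]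
  have hIc3 : Nat.card I = p ^ 3 := by
    refine le_antisymm (h.card_elem hIS hIel) ?_
    obtain ⟨j, hj⟩ := IsPGroup.iff_card.1 (h.pS.to_le hQS')
    have hj0 : j ≠ 0 := fun e' => hne (card_eq_one.1 (by rw [hj, e', pow_zero]))
    rw [hIc, hj, ← pow_add]
    exact Nat.pow_le_pow_right hp.out.pos (by omega)
  have hAI : Inv D A I := by
    intro α hα v hvA hv
    refine h.mem_elem hIS hIel hIc3 (hA.1.1 (apl_mem α hvA))
      (by rw [← apl_map_pow α hvA, hIel.2 v hv, apl_map_one]) fun w hw => ?_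
    have hgen : A ≤ centralizer ({w} : Set Ω) := fun g hg =>
      (closure_le _).2 (by
        rintro c (hc' | rfl)
        · exact mem_centralizer_singleton_iff.2 (hIab c hc' w hw)
        · exact mem_centralizer_singleton_iff.2 (mem_centralizer_singleton_iff.1 (hIe hw)).symm)
        (h.ess_gen hA hB hAB heA heB g hg)
    exact mem_centralizer_singleton_iff.1 (hgen (apl_mem α hvA))
  exact hJ A B hA hB hAB habA hAI

end Setting

end Cfsg.Agent.FusRankThreeChar
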