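import Cfsg.Agent.FusRankThreeNormal.Index
import Cfsg.Agent.FusSys.Centric

/-!
One essential subgroup normal in `S`, in sectional rank three: the index and the conjugate pairs.
-/

set_option autoImplicit false
set_option linter.style.haveILetI false
set_option linter.unusedSectionVars false

namespace Cfsg.Agent.FusRankThreeChar

open Cfsg Cfsg.FusionSystem Cfsg.Agent.FusSys Subgroup
open Cfsg.Agent.FusRankThreeNormal (Nor card_aut_le three_le)
open scoped commutatorElement

universe u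

variable {Ω : Type u} [Group Ω] {S : Subgroup Ω} {F : FusionSystem S} {E : Subgroup Ω} {p : ℕ}

/-- An essential subgroup normal in `S`. -/
structure Loc (p : ℕ) (F : FusionSystem S) (E : Subgroup Ω) : Prop where
  pS : IsPGroup p S
  odd : Odd p
  sat : F.IsSaturated p
  rank : SectionalPRankLE p 3 S
  ess : F.IsEssential p E
  nor : S ≤ normalizer (E : Set Ω)

variable [Finite S] [hp : Fact p.Prime]

namespace Loc

variable (h : Loc p F E)
include h

theorem nor_ess : Nor S E := fun _ hs x hx => (mem_normalizer_iff.1 (h.nor hs) x).1 hx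

theorem normalizerIn_eq : normalizerIn S E = S :=
  le_antisymm inf_le_left (le_inf le_rfl h.nor)

theorem exists_conj {s : Ω} (hs : s ∈ S) :
    ∃ α ∈ autInducedBy S E, α ∈ F.autGroup E ∧ ∀ x ∈ E, apl α x = s * x * s⁻¹ := by
  obtain ⟨α, hα, hx⟩ := exists_mem_autInducedBy (P := E) hs (h.nor hs)
  exact ⟨α, hα, autInducedBy_le_autGroup h.ess.1.1 hα, hx⟩

theorem exists_ext {α : MulAut E} (hα : α ∈ F.autGroup E)
    (hn : ∀ γ ∈ autInducedBy S E, α * γ * α⁻¹ ∈ autInducedBy S E) :
    ∃ β ∈ F.autGroup S, ∀ a ∈ E, apl β a = apl α a := by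
  have key : ∀ M : Subgroup Ω, M = S → ∀ β ∈ F.autGroup M, (∀ a ∈ E, apl β a = apl α a) →
      ∃ β ∈ F.autGroup S, ∀ a ∈ E, apl β a = apl α a := by
    rintro M rfl β hβ hx; exact ⟨β, hβ, hx⟩
  obtain ⟨β, hβ, hx⟩ := RankThreeEss.exists_extension h.pS h.sat h.ess.2.1 hα hn
  exact key _ h.normalizerIn_eq β hβ hx

/-- Automorphisms trivial on the Frattini quotient are inner. -/
theorem inn_of_frattini {K : Subgroup (F.autGroup E)} [K.Normal]
    (hK : ∀ α ∈ K, ∀ a : E, a⁻¹ * (α : MulAut E) a ∈ frattini E) {α : F.autGroup E} (hα : α ∈ K) :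
    (α : MulAut E) ∈ Inn E := by
  haveI := finite_of_le h.ess.1.1
  haveI : Finite (MulAut E) := Finite.of_injective _ MulEquiv.toEquiv_injective
  have hEp : IsPGroup p E := h.pS.to_le h.ess.1.1
  obtain ⟨n, hn⟩ := IsPGroup.iff_card.1 hEp
  obtain ⟨r, -, hr⟩ := (Nat.dvd_prime_pow hp.out).1 (hn ▸ (frattini E).index_dvd_card)
  have hd := FGS.card_dvd_of_trivial_on_frattini_quotient hn hr (K.map (F.autGroup E).subtype) (by
    rintro _ ⟨β, hβ, rfl⟩ a
    have := inv_mem (hK β hβ a⁻¹)
    rwa [map_inv, mul_inv_rev, inv_inv, inv_inv] at this)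
  rw [card_map_of_injective (F.autGroup E).subtype_injective] at hd
  obtain ⟨m, -, hm⟩ := (Nat.dvd_prime_pow hp.out).1 hd
  rw [← (essential_radical h.pS h.sat h.ess).2]
  exact ⟨α, Core.le_pCore (IsPGroup.of_card hm) hα, rfl⟩

/-- The conjugation action of `S`. -/
noncomputable def toAut : S →* F.autGroup E :=
  (E.normalizerMonoidHom.comp (Subgroup.inclusion (h.nor))).codRestrict _ fun y =>
    autInducedBy_le_autGroup h.ess.1.1 (mem_autInducedBy_iff.2
      ⟨y, y.2, h.nor y.2, fun _ ha => apl_normalizerMonoidHom ⟨(y : Ω), h.nor y.2⟩ ha⟩)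

theorem toAut_apl (y : S) {a : Ω} (ha : a ∈ E) :
    apl (h.toAut y : MulAut E) a = y * a * (y : Ω)⁻¹ :=
  apl_normalizerMonoidHom ⟨(y : Ω), h.nor y.2⟩ ha

theorem toAut_range :
    ∃ R : Sylow p (F.autGroup E), (R : Subgroup (F.autGroup E)) = (h.toAut).range := by
  obtain ⟨-, R, hR⟩ := fullyAutomized_of_fullyNormalized h.pS h.sat h.ess.2.1
  refine ⟨R, ?_⟩
  refine le_antisymm (fun γ hγ => ?_) ?_
  · rw [hR, mem_subgroupOf, mem_autInducedBy_iff] at hγ
    obtain ⟨g, hg, -, hgx⟩ := hγ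
    exact ⟨⟨g, hg⟩, Subtype.ext (apl_ext fun a ha => by rw [hgx a ha, h.toAut_apl _ ha])⟩
  · rintro _ ⟨y, rfl⟩
    rw [hR, mem_subgroupOf]
    exact mem_autInducedBy_iff.2 ⟨y, y.2, h.nor y.2, fun a ha => h.toAut_apl y ha⟩

/-- The index of an essential subgroup. -/
theorem card_eq : Nat.card S = p * Nat.card E := by
  classical
  have hES := h.ess.1.1
  haveI := finite_of_le hES
  haveI : Finite (MulAut E) := Finite.of_injective _ MulEquiv.toEquiv_injective
  haveI hI : (innIn F E).Normal := innIn_normal F E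
  have hEp : IsPGroup p E := h.pS.to_le hES
  have hlt : E < S := essential_lt_top h.pS h.sat h.ess
  haveI := (h.nor_ess).subgroupOf (le_refl S)
  set E' := E.subgroupOf S with h.ess'
  have hsplit : Nat.card S = E'.index * Nat.card E := by
    rw [← Nat.card_congr (subgroupOfEquivOfLe hES).toEquiv, mul_comm, card_mul_index]
  obtain ⟨k, hk⟩ := h.pS.index E'
  have hk0 : k ≠ 0 := by
    rintro rfl
    rw [pow_zero, index_eq_one, subgroupOf_eq_top] at hk
    exact hlt.not_ge hk
  -- it suffices that the index is at most `p`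
  suffices hle : E'.index ≤ p by
    rw [hsplit, hk]
    rw [hk] at hle
    have := (Nat.pow_le_pow_iff_right hp.out.one_lt).1 (hle.trans (pow_one p).ge)
    rw [show k = 1 by omega, pow_one]
  rcases RankThreeEss.Pearl.frattini_cases h.pS h.rank h.ess with hr | hr
  · -- two generators
    set φ : F.autGroup E →* MulAut (E ⧸ frattini E) :=
      MonoidHom.mk' (fun α => QuotientGroup.congr (frattini E) (frattini E) (α : MulAut E)
        ((characteristic_iff_map_eq.1 inferInstance) _)) (fun α β => MulEquiv.ext fun v => by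
          obtain ⟨a, rfl⟩ := QuotientGroup.mk'_surjective _ v
          rfl) with hφ
    have hker : ∀ α ∈ φ.ker, ∀ a : E, a⁻¹ * (α : MulAut E) a ∈ frattini E := fun α hα a => by
      have h1 : φ α (a : E ⧸ frattini E) = (a : E ⧸ frattini E) := by
        rw [show φ α = 1 from hα]; rfl
      rw [← QuotientGroup.eq]
      exact h1.symm
    have hkerS : ((φ.comp (h.toAut)).ker : Subgroup S) ≤ E' := fun y hy => by
      have h1 := h.inn_of_frattini hker (show h.toAut y ∈ φ.ker from hy)
      exact mem_of_conj_mem_inn (centric_self h.ess.1) hES y.2 (fun a ha => h.toAut_apl y ha) h1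
    have hc := card_aut_le (p := p) (Q := E ⧸ frattini E) (by rw [← index_eq_card, hr])
      (A := (φ.comp (h.toAut)).range)
      ((h.pS.to_subgroup ⊤).map (φ.comp (h.toAut)) |> fun hh => by
        rwa [← MonoidHom.range_eq_map] at hh)
    rw [← index_ker] at hc
    exact (Nat.le_of_dvd (Nat.pos_of_ne_zero index_ne_zero_of_finite)
      (index_dvd_of_le hkerS)).trans hc
  · -- three generators
    obtain ⟨V, _, _, π, q⟩ := RankThreeEss.exists_qpi hEp hr
    obtain ⟨-, -, hn, E0, hE0⟩ := id h.ess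
    set φ : F.autGroup E →* Module.End (ZMod p) V := q.rep.comp (F.autGroup E).subtype with hφ
    have hinn : innIn F E ≤ φ.ker := fun α hα => by
      obtain ⟨g, hg⟩ := mem_subgroupOf.1 hα
      rw [MonoidHom.mem_ker, hφ, MonoidHom.comp_apply, coe_subtype, ← hg, q.rep_conj]
    set ρ := QuotientGroup.lift (innIn F E) φ hinn with hρ
    have hmks := QuotientGroup.mk'_surjective (innIn F E)
    have hinj : Function.Injective ρ := by
      rw [← MonoidHom.ker_eq_bot_iff, eq_bot_iff]
      intro y hy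
      obtain ⟨α, rfl⟩ := hmks y
      refine mem_bot.2 ((QuotientGroup.eq_one_iff _).2 ?_)
      refine h.inn_of_frattini (K := φ.ker) (fun β hβ a => ?_) hy
      rw [← q.ker, q.mul, q.inv, ← q.rep_apply,
        show q.rep (β : MulAut E) = 1 from hβ, Module.End.one_apply, add_comm, add_neg_cancel]
    obtain ⟨R, hR⟩ := h.toAut_range
    set T := R.mapSurjective hmks with hT
    obtain ⟨Y, hY, hNY⟩ := exists_proper_of_stronglyPEmbedded hE0 T
    have hset : RankThreeEss.Setup ρ T Y :=
      ⟨hinj, q.dim, three_le h.odd, hY, T.ne_bot_of_dvd_card hE0.1, hNY⟩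
    set θ := (QuotientGroup.mk' (innIn F E)).comp (h.toAut) with hθ
    have hrange : θ.range = (T : Subgroup (F.autGroup E ⧸ innIn F E)) := by
      rw [hθ, MonoidHom.range_comp, ← hR]; rfl
    have hker : θ.ker ≤ E' := fun y hy => by
      rw [hθ, MonoidHom.mem_ker, MonoidHom.comp_apply, QuotientGroup.mk'_apply,
        QuotientGroup.eq_one_iff] at hy
      exact mem_of_conj_mem_inn (centric_self h.ess.1) hES y.2 (fun a ha => h.toAut_apl y ha) hy
    have hc : θ.ker.index = p := by rw [index_ker, hrange, hset.card_T]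
    exact Nat.le_of_dvd hp.out.pos (hc ▸ index_dvd_of_le hker)

theorem exists_mul {x : Ω} (hx : x ∈ S) (hxE : x ∉ E) :
    ∀ s ∈ S, ∃ e ∈ E, ∃ n : ℕ, e * x ^ n = s := by
  intro s hs
  haveI := h.nor_ess.subgroupOf (le_refl S)
  have hES := h.ess.1.1
  set E' := E.subgroupOf S
  haveI := finite_of_le hES
  have hi : E'.index = p := by
    have h1 := E'.card_mul_index
    rw [h.card_eq, Nat.card_congr (subgroupOfEquivOfLe hES).toEquiv, mul_comm p] at h1
    exact Nat.eq_of_mul_eq_mul_left Nat.card_pos h1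
  haveI : IsCyclic (S ⧸ E') := isCyclic_of_prime_card (p := p) (by rw [← index_eq_card, hi])
  have hne : ((⟨x, hx⟩ : S) : S ⧸ E') ≠ 1 := fun e =>
    hxE (mem_subgroupOf.1 ((QuotientGroup.eq_one_iff _).1 e))
  have hmem := mem_zpowers_of_prime_card (by rw [← index_eq_card, hi]) hne
    (g' := ((⟨s, hs⟩ : S) : S ⧸ E'))
  obtain ⟨n, hn⟩ := mem_powers_iff_mem_zpowers.2 hmem
  change ((⟨x, hx⟩ : S) : S ⧸ E') ^ n = _ at hn
  rw [← QuotientGroup.mk_pow, QuotientGroup.eq] at hn
  refine ⟨s * (x ^ n)⁻¹, ?_, n, inv_mul_cancel_right s _⟩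
  have h1 := h.nor_ess _ (S.pow_mem hx n) _ (mem_subgroupOf.1 hn)
  simpa [mul_assoc] using h1

/-- Elements of `S` outside an essential subgroup give conjugates generating a non-`p`-group. -/
theorem exists_nonpgroup (hidx : ∀ {x}, x ∈ S → x ∉ E →
      ∀ s ∈ S, ∃ e ∈ E, ∃ n : ℕ, e * x ^ n = s) {x : Ω} (hx : x ∈ S) (hxE : x ∉ E) :
    ∃ a ∈ F.autGroup E, ∃ γ ∈ F.autGroup E, (∀ y ∈ E, apl a y = x * y * x⁻¹) ∧
      ¬ IsPGroup p (closure ({a, γ * a * γ⁻¹} : Set (MulAut E))) := by
  haveI := finite_of_le h.ess.1.1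
  haveI : Finite (MulAut E) := Finite.of_injective _ MulEquiv.toEquiv_injective
  obtain ⟨a, ha, haF, hax⟩ := h.exists_conj hx
  by_contra! hall
  set G := F.autGroup E with hG
  haveI hI : (innIn F E).Normal := innIn_normal F E
  obtain ⟨-, R, hR⟩ := fullyAutomized_of_fullyNormalized h.pS h.sat h.ess.2.1
  have hIp : IsPGroup p (innIn F E) := ((inn_eq_autInducedBy (P := E)).symm ▸
    isPGroup_autInducedBy (h.pS.to_le h.ess.1.1) : IsPGroup p (Inn E)).comap_subtype
  have hRgen : (R : Subgroup G) ≤ innIn F E ⊔ zpowers (⟨a, haF⟩ : G) := by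
    intro r hr
    rw [hR] at hr
    obtain ⟨s, hs, -, hsx⟩ := mem_autInducedBy_iff.1 hr
    obtain ⟨e, he, n, rfl⟩ := hidx hx hxE s hs
    obtain ⟨ε, hε, hεF, hεx⟩ := h.exists_conj (h.ess.1.1 he)
    have : r = ⟨ε, hεF⟩ * (⟨a, haF⟩ : G) ^ n := Subtype.ext (apl_ext fun y hy => by
      have hpow : ∀ m : ℕ, apl (a ^ m) y = x ^ m * y * (x ^ m)⁻¹ := fun m => by
        induction m with
        | zero => simp [apl_one hy]
        | succ m ih =>
          rw [pow_succ', apl_mul _ _ hy, hax _ (apl_mem _ hy), ih]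
          group
      change apl (r : MulAut E) y = apl (ε * a ^ n) y
      rw [show apl (r : MulAut E) y = _ from hsx y hy, apl_mul _ _ hy, hεx _ (apl_mem _ hy), hpow]
      group)
    rw [this]
    refine mul_mem (mem_sup_left ?_) (mem_sup_right (pow_mem (mem_zpowers _) n))
    show ε ∈ Inn E
    rw [inn_eq_autInducedBy]
    exact mem_autInducedBy_iff.2 ⟨e, he, Subgroup.le_normalizer he, hεx⟩
  have hconj : ∀ γ : G, γ * (⟨a, haF⟩ : G) * γ⁻¹ ∈ (R : Subgroup G) := by
    intro γ
    set H := closure ({(⟨a, haF⟩ : G), γ * ⟨a, haF⟩ * γ⁻¹} : Set G) with hH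
    have hHp : IsPGroup p H := by
      have h1 := hall a haF γ γ.2 hax
      intro ⟨w, hw⟩
      have hw' : (w : MulAut E) ∈
          closure ({a, (γ : MulAut E) * a * (γ : MulAut E)⁻¹} : Set (MulAut E)) := by
        have h2 := mem_map_of_mem G.subtype hw
        rw [hH, MonoidHom.map_closure, Set.image_pair] at h2
        exact h2
      obtain ⟨k, hk⟩ := h1 ⟨_, hw'⟩
      refine ⟨k, Subtype.ext (Subtype.ext ?_)⟩
      simpa using congrArg Subtype.val hk
    have hRle : (R : Subgroup G) ≤ innIn F E ⊔ H :=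
      hRgen.trans (sup_le_sup_left (zpowers_le.2 (Subgroup.subset_closure (Set.mem_insert _ _))) _)
    exact (R.3 (IsPGroup.to_sup_of_normal_left hIp hHp) hRle).le
      (mem_sup_right (Subgroup.subset_closure (Set.mem_insert_of_mem _ rfl)))
  have hN : (normalClosure {(⟨a, haF⟩ : G)}) ≤ (R : Subgroup G) := by
    rw [normalClosure, closure_le]
    intro y hy
    obtain ⟨_, rfl, hy'⟩ := Group.mem_conjugatesOfSet_iff.1 hy
    obtain ⟨γ, rfl⟩ := isConj_iff.1 hy'
    exact hconj γ
  have hrad := (essential_radical h.pS h.sat h.ess).2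
  refine hxE (mem_of_conj_mem_inn (centric_self h.ess.1) h.ess.1.1 hx hax ?_)
  rw [← hrad]
  exact ⟨⟨a, haF⟩, Core.le_pCore (R.2.to_le hN) (subset_normalClosure rfl), rfl⟩

end Loc

end Cfsg.Agent.FusRankThreeChar
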