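import Cfsg.Agent.FusRankThreeNormal.Common

/-!
The centre of a Sylow subgroup of `Sp₄(p)` has order at most `p`.
-/

set_option autoImplicit false
set_option linter.unusedSectionVars false

namespace Cfsg.Agent.FusRankThreeChar

open Subgroup Matrix
open Cfsg.Agent.FusRankThreeNormal (mat qmul cc mat_mul mat_mem mat_inj factorization_sp4 IsSp4Sylow
  two_ne)

variable {p : ℕ} [hp : Fact p.Prime]

set_option quotPrecheck false
local notation "Sp4" => ↥(Matrix.symplecticGroup (Fin 2) (ZMod p))

/-- The explicit element. -/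
def qElt (q : ZMod p × ZMod p × ZMod p × ZMod p) : Sp4 := ⟨mat q, mat_mem q⟩

theorem qElt_mul (hodd : Odd p) (q r : ZMod p × ZMod p × ZMod p × ZMod p) :
    qElt (qmul q r) = qElt q * qElt r := Subtype.ext (mat_mul hodd q r)

theorem qElt_zero (hodd : Odd p) : qElt ((0, 0, 0, 0) : ZMod p × ZMod p × ZMod p × ZMod p) = 1 := by
  have h : qmul ((0, 0, 0, 0) : ZMod p × ZMod p × ZMod p × ZMod p) (0, 0, 0, 0) = (0, 0, 0, 0) := by
    simp [qmul, cc]
  have h1 := qElt_mul hodd ((0, 0, 0, 0) : ZMod p × ZMod p × ZMod p × ZMod p) (0, 0, 0, 0)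
  rw [h] at h1
  exact left_eq_mul.1 h1

/-- The explicit Sylow subgroup. -/
noncomputable def spSylSub (hodd : Odd p) : Subgroup Sp4 where
  carrier := Set.range qElt
  one_mem' := ⟨(0, 0, 0, 0), qElt_zero hodd⟩
  mul_mem' := by
    rintro _ _ ⟨q, rfl⟩ ⟨r, rfl⟩
    exact ⟨qmul q r, qElt_mul hodd q r⟩
  inv_mem' := by
    rintro _ ⟨⟨i, j, k, l⟩, rfl⟩
    refine ⟨(-i, -j + l * i, -k - l * (-j + l * i) + cc l * i, -l), ?_⟩
    refine eq_inv_of_mul_eq_one_left ?_
    rw [← qElt_mul hodd, ← qElt_zero hodd]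
    congr 1
    simp only [qmul, Prod.mk.injEq]
    refine ⟨by ring, by ring, ?_, by ring⟩
    refine mul_left_cancel₀ (two_ne hodd) ?_
    linear_combination i * FusRankThreeNormal.two_mul_cc hodd l +
      i * FusRankThreeNormal.two_mul_cc hodd (-l)

theorem card_spSylSub (hodd : Odd p) : Nat.card (spSylSub (p := p) hodd) = p ^ 4 := by
  have hi : Function.Injective (qElt (p := p)) := fun q r h => mat_inj hodd (congrArg Subtype.val h)
  show Nat.card (Set.range (qElt (p := p))) = _
  rw [Nat.card_range_of_injective hi, Nat.card_prod, Nat.card_prod, Nat.card_prod, Nat.card_zmod]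
  ring

/-- Central elements of the explicit Sylow subgroup. -/
theorem card_center_spSylSub (hodd : Odd p) :
    Nat.card (Subgroup.center (spSylSub (p := p) hodd)) ≤ p := by
  have hcoord : ∀ x : Subgroup.center (spSylSub (p := p) hodd),
      ∃ k : ZMod p, qElt (0, 0, k, 0) = ((x : spSylSub (p := p) hodd) : Sp4) := by
    rintro ⟨⟨_, ⟨i, j, k, l⟩, rfl⟩, hx⟩
    refine ⟨k, ?_⟩
    have key : ∀ r, qmul r (i, j, k, l) = qmul (i, j, k, l) r := fun r => by
      have h1 := congrArg Subtype.val (mem_center_iff.1 hx ⟨qElt r, r, rfl⟩)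
      simp only [Subgroup.coe_mul] at h1
      rw [← qElt_mul hodd, ← qElt_mul hodd] at h1
      exact mat_inj hodd (congrArg Subtype.val h1)
    have h1 := key (0, 0, 0, 1)
    have h2 := key (1, 0, 0, 0)
    simp [qmul, cc] at h1 h2
    have hi : i = 0 := by simpa using h1.1
    have hj : j = 0 := h1.2.1
    have hl : l = 0 := h2.2.1
    show qElt (0, 0, k, 0) = qElt (i, j, k, l)
    rw [hi, hj, hl]
  choose k hk using hcoord
  have hinj : Function.Injective k := fun x y hxy =>
    Subtype.ext (Subtype.ext (by rw [← hk x, ← hk y, hxy]))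
  exact (Nat.card_le_card_of_injective k hinj).trans (Nat.card_zmod p).le

universe u

/-- A central subgroup of a Sylow subgroup of `Sp₄(p)` has order at most `p`. -/
theorem card_central_le {Ω : Type u} [Group Ω] {S : Subgroup Ω} (hodd : Odd p)
    (hsp : IsSp4Sylow p S) {U : Subgroup Ω} (hUS : U ≤ S)
    (hc : ∀ x ∈ U, ∀ s ∈ S, x * s = s * x) : Nat.card U ≤ p := by
  obtain ⟨P, ⟨e⟩⟩ := hsp
  have hM : Nat.card (spSylSub (p := p) hodd) = p ^ (Nat.card Sp4).factorization p := by
    rw [factorization_sp4, card_spSylSub hodd]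
  set Q : Sylow p Sp4 := Sylow.ofCard _ hM
  let ψ : S ≃* spSylSub (p := p) hodd := e.trans (P.equiv Q)
  let g : U → Subgroup.center (spSylSub (p := p) hodd) := fun x =>
    ⟨ψ ⟨x, hUS x.2⟩, mem_center_iff.2 fun m => by
      obtain ⟨s, rfl⟩ := ψ.surjective m
      rw [← map_mul, ← map_mul]
      exact congrArg ψ (Subtype.ext (hc x x.2 s s.2).symm)⟩
  have hg : Function.Injective g := fun x y hxy => by
    have := ψ.injective (congrArg Subtype.val hxy)
    exact Subtype.ext (congrArg Subtype.val this :)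
  exact (Nat.card_le_card_of_injective g hg).trans (card_center_spSylSub hodd)

end Cfsg.Agent.FusRankThreeChar
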