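import Cfsg.Agent.FusRankThreeChar.Main
import Cfsg.Agent.FusRankThreeChar.Local
import Cfsg.Agent.FusRankThreeChar.SpCentre
import Cfsg.Agent.FusRankThreeNormal.Main
import Cfsg.Agent.FusSys.EssentialCube

/-!
Two essential subgroups kept by all automorphisms of `S` in sectional rank three.
-/

set_option autoImplicit false
set_option linter.style.haveILetI false
set_option linter.unusedSectionVars false

namespace Cfsg.Agent.FusRankThreeChar

open Cfsg Cfsg.FusionSystem Cfsg.Agent.FusSys Subgroup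
open Cfsg.Agent.RankThreeEss (Elem)
open Cfsg.Agent.FusRankThreeNormal (Nor zOne IsSp4Sylow comm_step iso_sylow)
open scoped commutatorElement

universe u

variable {Ω : Type u} [Group Ω] {S E E₁ E₂ : Subgroup Ω} {F : FusionSystem S} {p : ℕ}
variable [Finite S] [hp : Fact p.Prime]

theorem apl_mem_of_invariant {E : Subgroup Ω} {φ : MulAut S}
    (h : (E.subgroupOf S).map φ.toMonoidHom = E.subgroupOf S) {x : Ω} (hxS : x ∈ S) (hx : x ∈ E) :
    apl φ x ∈ E := by
  have h1 : φ ⟨x, hxS⟩ ∈ E.subgroupOf S := by rw [← h]; exact ⟨⟨x, hxS⟩, hx, rfl⟩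
  rw [apl_apply φ hxS]
  exact h1

theorem nor_of_invariant (hE : E ≤ S)
    (hc : ∀ φ : MulAut S, φ ∈ F.autGroup S → (E.subgroupOf S).map φ.toMonoidHom = E.subgroupOf S) :
    Nor S E := fun s hs x hx => by
  obtain ⟨β, hβ, hβx⟩ := exists_mem_autInducedBy (P := S) hs (Subgroup.le_normalizer hs)
  rw [← hβx x (hE hx)]
  exact apl_mem_of_invariant (hc β (autInducedBy_le_autGroup le_rfl hβ)) (hE hx) hx

/-- The instance. -/
theorem setting_of_fusion (hS : IsPGroup p S) (hodd : Odd p) (hF : F.IsSaturated p)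
    (hsr : SectionalPRankLE p 3 S) (hne : E₁ ≠ E₂) (h1 : F.IsEssential p E₁)
    (h2 : F.IsEssential p E₂)
    (hc₁ : ∀ φ : MulAut S, φ ∈ F.autGroup S → (E₁.subgroupOf S).map φ.toMonoidHom = E₁.subgroupOf S)
    (hc₂ : ∀ φ : MulAut S, φ ∈ F.autGroup S → (E₂.subgroupOf S).map φ.toMonoidHom = E₂.subgroupOf S) :
    Setting p S F.autGroup E₁ E₂ := by
  have ess : ∀ E, Ess S E₁ E₂ E → F.IsEssential p E ∧
      ∀ φ : MulAut S, φ ∈ F.autGroup S → (E.subgroupOf S).map φ.toMonoidHom = E.subgroupOf S := by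
    rintro E ⟨-, rfl | rfl⟩
    exacts [⟨h1, hc₁⟩, ⟨h2, hc₂⟩]
  have loc : ∀ E, Ess S E₁ E₂ E → Loc p F E := fun E hE =>
    ⟨hS, hodd, hF, hsr, (ess E hE).1, (nor_of_invariant hE.1.1 (ess E hE).2).le_normalizer⟩
  exact
    { pS := hS
      odd := hodd
      rank := hsr
      ne := hne
      left := ⟨⟨h1.1.1, trivial⟩, Or.inl rfl⟩
      right := ⟨⟨h2.1.1, trivial⟩, Or.inr rfl⟩
      nor := fun E hE => (loc E hE).nor_ess
      idx := fun E hE => (loc E hE).card_eq
      conj := fun E hE => autInducedBy_le_autGroup hE.1.1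
      conjTop := autInducedBy_le_autGroup le_rfl
      np := fun E hE => by
        obtain ⟨x, hxS, hxE⟩ := SetLike.exists_of_lt (essential_lt_top hS hF (ess E hE).1)
        exact ⟨x, hxS, hxE, (loc E hE).exists_nonpgroup (fun hy hyE => (loc E hE).exists_mul hy hyE) hxS hxE⟩
      syl := by
        rintro X (hX | rfl)
        · exact (fullyAutomized_of_fullyNormalized hS hF (ess X hX).1.2.1).2
        · exact (top_fullyAutomized hS hF).2
      ext := fun E hE α hα hn => (loc E hE).exists_ext hα hn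
      res := fun E hE β hβ => by
        obtain ⟨R, hf, hRS⟩ := (iso_apl le_rfl hβ).restrict hE.1.1
        obtain rfl : R = E := by
          refine le_antisymm (fun y hy => ?_) (fun y hy => ?_)
          · obtain ⟨x, hx, rfl⟩ := hf.exists_eq hy
            exact apl_mem_of_invariant ((ess E hE).2 β hβ) (hE.1.1 hx) hx
          · have hy' := apl_mem_of_invariant ((ess E hE).2 β⁻¹ (inv_mem hβ)) (hE.1.1 hy) hy
            have := hf.mem hy'
            rwa [apl_apl_inv β (hE.1.1 hy)] at this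
        exact hf.exists_mem_autGroup }

/-- The intersection is not central. -/
theorem not_central (h : Setting p S F.autGroup E₁ E₂) (hF : F.IsSaturated p)
    (hsr : ¬ SectionalPRankLE p 2 S) (hO : F.core = ⊥) :
    ¬ ∀ x ∈ E₁ ⊓ E₂, ∀ s ∈ S, x * s = s * x := by
  intro hc
  have hnor : ∀ P, F.IsEssential p P → S ≤ normalizer (P : Set Ω) := fun P hP => by
    have hle : E₁ ⊓ E₂ ≤ P := fun y hy => centric_self hP.1 ⟨h.inter_le_S hy,
      mem_centralizer_iff.2 fun x hx => (hc y hy x (hP.1.1 hx)).symm⟩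
    exact Nor.le_normalizer fun s hs x hx => by
      have h1 := hle (h.comm_mem_inter hs (hP.1.1 hx))
      have e : s * x * s⁻¹ = ⁅s, x⁆ * x := by rw [commutatorElement_def]; group
      rw [e]
      exact P.mul_mem h1 hx
  have hsp : IsSp4Sylow p S :=
    Cfsg.Agent.FusRankThreeNormal.Hyp.isSp4Sylow ⟨h.pS, h.odd, hF, h.rank, hsr, hO, hnor⟩
  have h1 := card_central_le h.odd hsp h.inter_le_S hc
  obtain ⟨P, ⟨e⟩⟩ := hsp
  have hc4 : Nat.card S = p ^ 4 := by
    rw [Nat.card_congr e.toEquiv, P.card_eq_multiplicity,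
      Cfsg.Agent.FusRankThreeNormal.factorization_sp4]
  rw [h.card_eq h.right, h.card_inter h.left h.right h.ne, show p ^ 4 = p * (p * (p * p)) by ring] at hc4
  have h2 := Nat.eq_of_mul_eq_mul_left hp.out.pos (Nat.eq_of_mul_eq_mul_left hp.out.pos hc4)
  rw [h2] at h1
  have := hp.out.two_le
  nlinarith

/-- The main statement. -/
theorem conclusion (hodd : Odd p) (h : Setting p S F.autGroup E₁ E₂) (hF : F.IsSaturated p)
    (hsr : ¬ SectionalPRankLE p 2 S) (hO : F.core = ⊥) (h1 : F.IsEssential p E₁)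
    (h2 : F.IsEssential p E₂) :
    IsSp4Sylow p S ∧
      ((IsExtraspecial p ↥E₁ ∧ Nat.card E₁ = p ^ 3 ∧ (∀ x ∈ E₁, x ^ p = 1) ∧
          IsElementaryAbelian p E₂ ∧ Nat.card E₂ = p ^ 3) ∨
        (IsExtraspecial p ↥E₂ ∧ Nat.card E₂ = p ^ 3 ∧ (∀ x ∈ E₂, x ^ p = 1) ∧
          IsElementaryAbelian p E₁ ∧ Nat.card E₁ = p ^ 3)) := by
  classical
  have hnc := not_central h hF hsr hO
  have hp1 := hp.out.one_lt
  have hSc : Nat.card S = p ^ 4 := h.goal.resolve_left hnc
  have hcard : ∀ E, Ess S E₁ E₂ E → Nat.card E = p ^ 3 := fun E hE => by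
    have e := h.card_eq hE
    rw [hSc, show p ^ 4 = p * p ^ 3 by ring] at e
    exact (Nat.eq_of_mul_eq_mul_left hp.out.pos e).symm
  have hIc : Nat.card (E₁ ⊓ E₂ : Subgroup Ω) = p ^ 2 := by
    have e := h.card_inter h.left h.right h.ne
    rw [hcard _ h.right, show p ^ 3 = p * p ^ 2 by ring] at e
    exact (Nat.eq_of_mul_eq_mul_left hp.out.pos e).symm
  haveI := finite_of_le h.left.1.1
  haveI := finite_of_le h.right.1.1
  have hcase : ∀ E, F.IsEssential p E → Nat.card E = p ^ 3 →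
      IsElementaryAbelian p E ∨ (IsExtraspecial p ↥E ∧ ∀ x ∈ E, x ^ p = 1) := by
    intro E hE hc
    rcases essential_cube h.pS hF hE hc with e | ⟨-, e⟩ | ⟨e, -⟩
    · exact Or.inl e
    · exact Or.inr e
    · exact absurd hodd (by rw [e]; decide)
  have habel : ∀ E : Subgroup Ω, IsElementaryAbelian p E → ∀ a ∈ E, ∀ b ∈ E, a * b = b * a :=
    fun E hE a ha b hb => congrArg Subtype.val (hE.1.is_comm.comm ⟨a, ha⟩ ⟨b, hb⟩)
  have hcenc : ∀ E : Subgroup Ω, IsExtraspecial p ↥E →
      Nat.card (E ⊓ Subgroup.centralizer (E : Set Ω) : Subgroup Ω) = p := by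
    intro E hE
    rw [← hE.2, ← card_map_of_injective E.subtype_injective (K := Subgroup.center E)]
    congr 2
    ext y
    constructor
    · rintro ⟨hy, hc⟩
      exact ⟨⟨y, hy⟩, mem_center_iff.2 fun w => Subtype.ext (mem_centralizer_iff.1 hc w w.2), rfl⟩
    · rintro ⟨⟨y, hy⟩, hc, rfl⟩
      exact ⟨hy, mem_centralizer_iff.2 fun w hw =>
        congrArg Subtype.val (mem_center_iff.1 hc ⟨w, hw⟩)⟩
  have model : ∀ A B, Ess S E₁ E₂ A → Ess S E₁ E₂ B → A ≠ B → IsElementaryAbelian p A →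
      IsExtraspecial p ↥B → (∀ x ∈ B, x ^ p = 1) → IsSp4Sylow p S := by
    intro A B hA hB hne hAe hBx hBexp
    obtain ⟨a, haB, haA⟩ := h.exists_not_mem hA hB hne.symm
    have haS := hB.1.1 haB
    haveI := (h.nor_ess hA).subgroupOf (le_refl S)
    refine iso_sylow h.pS hodd (A := A.subgroupOf S)
      ⟨fun x hx y hy => Subtype.ext (habel A hAe x hx y hy), fun x hx => Subtype.ext (hAe.2 x hx)⟩
      ((Nat.card_congr (subgroupOfEquivOfLe hA.1.1).toEquiv).trans (hcard A hA)) (a := ⟨a, haS⟩) haA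
      (Subtype.ext (hBexp a haB)) hSc fun U hU hcomm => ?_
    haveI := finite_of_le (inf_le_left.trans hB.1.1 : B ⊓ Subgroup.centralizer (B : Set Ω) ≤ S)
    rw [← hcenc B hBx, ← card_map_of_injective S.subtype_injective (K := U)]
    refine card_le_of_le ?_
    rintro _ ⟨x, hx, rfl⟩
    have hxA : (x : Ω) ∈ A := hU hx
    have hxa : a * (x : Ω) = (x : Ω) * a := congrArg Subtype.val (hcomm x hx)
    have hxc : ∀ s ∈ S, (x : Ω) * s = s * x := fun s hs => by
      obtain ⟨b, hb, k, rfl⟩ := h.exists_mul hA haS haA s hs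
      exact ((show Commute (x : Ω) b from habel A hAe x hxA b hb).mul_right
        ((show Commute (x : Ω) a from hxa.symm).pow_right k)).eq
    exact ⟨h.cen_le_ess hB x.2 hxc, mem_centralizer_iff.2 fun w hw => (hxc w (hB.1.1 hw)).symm⟩
  rcases hcase E₁ h1 (hcard _ h.left) with e1 | ⟨e1, x1⟩ <;>
    rcases hcase E₂ h2 (hcard _ h.right) with e2 | ⟨e2, x2⟩
  · exfalso
    refine hnc fun x hx s hs => ?_
    obtain ⟨u, hu, huE⟩ := h.exists_not_mem h.right h.left h.ne
    obtain ⟨b, hb, k, rfl⟩ := h.exists_mul h.right (h.left.1.1 hu) huE s hs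
    exact ((show Commute x b from habel _ e2 x hx.2 b hb).mul_right
      ((show Commute x u from habel _ e1 x hx.1 u hu).pow_right k)).eq
  · exact ⟨model _ _ h.left h.right h.ne e1 e2 x2,
      Or.inr ⟨e2, hcard _ h.right, x2, e1, hcard _ h.left⟩⟩
  · exact ⟨model _ _ h.right h.left h.ne.symm e2 e1 x1,
      Or.inl ⟨e1, hcard _ h.left, x1, e2, hcard _ h.right⟩⟩
  · exfalso
    have hzS : zOne p S ≤ S := fun z hz => hz.1
    haveI := finite_of_le hzS
    have hz : ∀ E, Ess S E₁ E₂ E → IsExtraspecial p ↥E →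
        zOne p S = E ⊓ Subgroup.centralizer (E : Set Ω) := by
      intro E hE hEx
      have hle : zOne p S ≤ E ⊓ Subgroup.centralizer (E : Set Ω) := fun z hz' =>
        ⟨h.zOne_le_ess hE hz', mem_centralizer_iff.2 fun w hw => (hz'.2.1 w (hE.1.1 hw)).symm⟩
      haveI := finite_of_le (inf_le_left.trans hE.1.1 : E ⊓ Subgroup.centralizer (E : Set Ω) ≤ S)
      rcases (Nat.dvd_prime hp.out).1 (hcenc E hEx ▸ card_dvd_of_le hle) with e | e
      · exact absurd (card_eq_one.1 e) h.zOne_ne_bot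
      · exact eq_of_le_of_card_ge hle ((hcenc E hEx).trans e.symm).le
    have hext : ∀ E, Ess S E₁ E₂ E → IsExtraspecial p ↥E := by
      rintro E ⟨-, rfl | rfl⟩
      exacts [e1, e2]
    have hzc : Nat.card (zOne p S) = p := by rw [hz _ h.left e1]; exact hcenc _ e1
    have hzI : zOne p S ≤ E₁ ⊓ E₂ := le_inf (h.zOne_le_ess h.left) (h.zOne_le_ess h.right)
    exact hnc (h.central_of_lin hzI (fun q hq => hq.2.1)
      (fun E hE => by rw [hz E hE (hext E hE)]; exact inv_self.centralizer le_rfl)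
      (comm_step h.pS hzI h.inter_le_S Cfsg.Agent.FusRankThreeNormal.nor_zOne h.nor_inter
        (by rw [hIc, hzc, pow_two])))

end Cfsg.Agent.FusRankThreeChar
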