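import Cfsg.Agent.FusRankThreeChar.Stab

/-!
Order `p ^ 4`: an abelian distinguished subgroup does not keep a noncentral intersection.
-/

set_option autoImplicit false
set_option linter.style.haveILetI false
set_option linter.unusedSectionVars false

namespace Cfsg.Agent.FusRankThreeChar

open Cfsg Cfsg.FusionSystem Cfsg.Agent.FusSys Subgroup
open Cfsg.Agent.RankThreeEss (Elem)
open Cfsg.Agent.FusRankThreeNormal (Nor zOne apl_map_mul apl_map_one apl_map_inv apl_map_pow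
  apl_map_comm comm_step exists_neg Neg)
open scoped commutatorElement

universe u

variable {Ω : Type u} [Group Ω] {S E Q K₁ K₂ : Subgroup Ω} {p : ℕ}
variable {D : (X : Subgroup Ω) → Subgroup (MulAut X)}
variable [Finite S] [hp : Fact p.Prime]

set_option maxHeartbeats 1600000 in
/-- The lemma on order `p ^ 4`. -/
theorem Setting.small_false (h : Setting p S D K₁ K₂) (hc : Nat.card S = p ^ 4) {A B : Subgroup Ω}
    (hA : Ess S K₁ K₂ A) (hB : Ess S K₁ K₂ B) (hne : A ≠ B)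
    (hab : ∀ u ∈ A, ∀ v ∈ A, u * v = v * u) (hi : Inv D A (K₁ ⊓ K₂))
    (hnc : ¬ ∀ x ∈ K₁ ⊓ K₂, ∀ s ∈ S, x * s = s * x) : False := by
  classical
  set I := K₁ ⊓ K₂ with hI
  have hIA : I ≤ A := h.inter_le hA
  have hAS := hA.1.1
  have hIS : I ≤ S := h.inter_le_S
  haveI := finite_of_le hAS
  haveI := finite_of_le hIS
  haveI : Finite (MulAut A) := Finite.of_injective _ MulEquiv.toEquiv_injective
  have hIc : Nat.card I = p ^ 2 := by
    have h1 := h.card_eq hA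
    rw [hc, h.card_inter hB hA hne.symm, ← hI, show p ^ 4 = p * (p * p ^ 2) by ring] at h1
    exact (Nat.eq_of_mul_eq_mul_left hp.out.pos (Nat.eq_of_mul_eq_mul_left hp.out.pos h1)).symm
  obtain ⟨x, hxB, hxA⟩ := h.exists_not_mem hA hB hne.symm
  have hxS : x ∈ S := hB.1.1 hxB
  -- `x` does not centralise the intersection
  obtain ⟨d, hd, hxd⟩ : ∃ d ∈ I, x * d ≠ d * x := by
    by_contra! hall
    refine hnc fun u hu s hs => ?_
    obtain ⟨y, hy, n, rfl⟩ := h.exists_mul hA hxS hxA s hs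
    exact ((show Commute u y from hab u (hIA hu) y hy).mul_right
      ((show Commute u x from (hall u hu).symm).pow_right n)).eq
  obtain ⟨W, -, hWI, hWn, hWc⟩ := exists_step h.pS (bot_le : ⊥ ≤ I)
    (fun e => hxd (by rw [show d = 1 from mem_bot.1 (by rw [e]; exact hd), mul_one, one_mul])) hIS
    (fun _ _ y hy => by rw [mem_bot.1 hy, mul_one, mul_inv_cancel]; exact one_mem _) h.nor_inter
  rw [card_bot, mul_one] at hWc
  have hWS : W ≤ S := hWI.trans hIS
  haveI := finite_of_le hWS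
  have hWcen : ∀ w ∈ W, ∀ s ∈ S, w * s = s * w := fun w hw s hs =>
    commutatorElement_eq_one_iff_mul_comm.1 (mem_bot.1 (comm_step h.pS bot_le hWS
      (fun _ _ y hy => by rw [mem_bot.1 hy, mul_one, mul_inv_cancel]; exact one_mem _) hWn
      (by rw [card_bot, mul_one, hWc]) w hw s hs))
  have hIW : ∀ u ∈ I, ∀ s ∈ S, ⁅u, s⁆ ∈ W :=
    comm_step h.pS hWI hIS hWn h.nor_inter (by rw [hIc, hWc]; ring)
  -- the pair
  obtain ⟨a, ha, γ, hγ, hax, hnp⟩ := h.nonpgroup hA hxS hxA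
  set N1 : ℕ → Subgroup Ω := fun i => if i = 0 then I else A with hN1
  have hpair := h.pair_stab hA ha hγ hax (N := N1) (n := 1)
    (fun i _ => by
      match i with
      | 0 => exact hi
      | k + 1 => exact inv_self)
    (fun i hi' y hy _ => by
      obtain rfl : i = 0 := by omega
      rw [show y⁻¹ * (x * y * x⁻¹) = ⁅y⁻¹, x⁆ by rw [commutatorElement_def]; group]
      exact h.comm_mem_inter (S.inv_mem (hAS hy)) hxS)
  have htriv : ∀ t ∈ closure ({a, γ * a * γ⁻¹} : Set (MulAut A)), ∀ y ∈ A, y⁻¹ * apl t y ∈ I :=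
    fun t ht y hy => hpair t ht 0 (by norm_num) y hy hy
  set res := resHom hi hIA with hres
  haveI : IsMulCommutative I :=
    ⟨⟨fun u v => Subtype.ext (hab u (hIA u.2) v (hIA v.2))⟩⟩
  set γ₁ : D A := ⟨γ, hγ⟩ with hγ₁
  set a₁ : D A := ⟨a, ha⟩ with ha₁
  set A₀ := res a₁ with hA₀
  set B₀ := res (γ₁ * a₁ * γ₁⁻¹) with hB₀
  set T : Subgroup I := W.subgroupOf I with hT
  set T' : Subgroup I := T.map (res γ₁).toMonoidHom with hT'
  have nor : ∀ M : Subgroup I, M.Normal := fun M => ⟨fun u hu g => by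
    rwa [show g * u * g⁻¹ = u by
      rw [IsMulCommutative.is_comm.comm g u, mul_inv_cancel_right]]⟩
  haveI := nor T
  haveI := nor T'
  have hTc : Nat.card T = p := (Nat.card_congr (subgroupOfEquivOfLe hWI).toEquiv).trans hWc
  have hTi : T.index = p := by
    have h1 := T.card_mul_index
    rw [hTc, hIc, pow_two] at h1
    exact Nat.eq_of_mul_eq_mul_left hp.out.pos h1
  have hT'i : T'.index = p := by rw [hT']; exact (index_map_equiv T (res γ₁)).trans hTi
  have hAapp : ∀ v : I, ((A₀ v : I) : Ω) = x * v * x⁻¹ := fun v => hax v (hIA v.2)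
  have hA0T : ∀ v ∈ T, A₀ v = v := fun v hv => Subtype.ext (by
    rw [hAapp, ← hWcen _ (mem_subgroupOf.1 hv) x hxS, mul_inv_cancel_right])
  have hA0m : ∀ v, v⁻¹ * A₀ v ∈ T := fun v => by
    show (v : Ω)⁻¹ * (A₀ v : I) ∈ W
    rw [hAapp, show (v : Ω)⁻¹ * (x * v * x⁻¹) = ⁅(v : Ω)⁻¹, x⁆ by
      rw [commutatorElement_def]; group]
    exact hIW _ (I.inv_mem v.2) x hxS
  have hB₀' : ∀ v, B₀ v = res γ₁ (A₀ ((res γ₁)⁻¹ v)) := fun v => by
    rw [hB₀, map_mul, map_mul, map_inv]; rfl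
  have hB0T : ∀ v ∈ T', B₀ v = v := by
    rintro _ ⟨w, hw, rfl⟩
    show B₀ (res γ₁ w) = res γ₁ w
    rw [hB₀', aut_inv_app, hA0T w hw]
  have hB0m : ∀ v, v⁻¹ * B₀ v ∈ T' := fun v => ⟨((res γ₁)⁻¹ v)⁻¹ * A₀ ((res γ₁)⁻¹ v), hA0m _, by
    show res γ₁ (((res γ₁)⁻¹ v)⁻¹ * A₀ ((res γ₁)⁻¹ v)) = _
    rw [map_mul, map_inv, aut_app_inv, hB₀']⟩
  -- elements of the closure in the image
  set H₀ := closure ({a₁, γ₁ * a₁ * γ₁⁻¹} : Set (D A)) with hH₀
  have hH₀' : H₀.map (D A).subtype = closure ({a, γ * a * γ⁻¹} : Set (MulAut A)) := by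
    rw [hH₀, MonoidHom.map_closure, Set.image_pair]; rfl
  have hH₀r : H₀.map res = closure ({A₀, B₀} : Set (MulAut I)) := by
    rw [hH₀, MonoidHom.map_closure, Set.image_pair]
  have hna : ¬ IsPGroup p (closure ({A₀, B₀} : Set (MulAut I))) := by
    intro hp'
    refine hnp fun ⟨t, ht⟩ => ?_
    rw [← hH₀'] at ht
    obtain ⟨t₀, ht₀, rfl⟩ := ht
    obtain ⟨k, hk⟩ := hp' ⟨res t₀, hH₀r ▸ mem_map_of_mem res ht₀⟩
    have hk' : res (t₀ ^ p ^ k) = 1 := by rw [map_pow]; exact congrArg Subtype.val hk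
    obtain ⟨k', hk''⟩ := h.pow_eq_one_of_series hA (N := ser2 I A) (n := 2) (ser2_mono hIA) rfl
      (le_refl A) (f := ((t₀ : MulAut A)) ^ p ^ k) (fun i hi2 y hy hyN => by
        match i, hi2 with
        | 0, _ =>
          show _ ∈ (⊥ : Subgroup Ω)
          have h2 := congrArg (fun f : MulAut I => ((f ⟨y, hyN⟩ : I) : Ω)) hk'
          simp only [MulAut.one_apply, hres, resHom_apply] at h2
          rw [mem_bot, ← SubgroupClass.coe_pow, h2, inv_mul_cancel]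
        | 1, _ =>
          refine htriv _ (pow_mem ?_ _) y hy
          rw [← hH₀']; exact mem_map_of_mem _ ht₀)
    exact ⟨k + k', Subtype.ext (by
      show ((t₀ : MulAut A)) ^ p ^ (k + k') = 1
      rw [pow_add, pow_mul, hk''])⟩
  obtain ⟨hTT, -, t, htm, N⟩ :=
    exists_neg (h.pS.to_le hIS) h.odd hTi hT'i hA0T hB0T hA0m hB0m hna
  have hbot : T ⊓ T' = ⊥ := by
    rcases (Nat.dvd_prime hp.out).1 (hTc ▸ card_dvd_of_le (inf_le_left : T ⊓ T' ≤ T)) with e | e
    · exact card_eq_one.1 e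
    · refine absurd ?_ hTT
      exact eq_of_le_of_card_ge (inf_eq_left.1 (eq_of_le_of_card_ge inf_le_left
        (hTc.trans e.symm).le)) (by rw [hT', card_map_of_injective (f := (res γ₁).toMonoidHom)
          (res γ₁).injective])
  have hneg : ∀ v : I, t v = v⁻¹ := fun v => eq_inv_of_mul_eq_one_right (by
    have := N.neg v
    rwa [hbot, mem_bot] at this)
  -- extension to `S`
  rw [← hH₀r] at htm
  obtain ⟨t₀, ht₀, rfl⟩ := htm
  set G₀ := stabSub D A N1 1 with hG₀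
  have hG₀mem : ∀ σ : D A, (∀ y ∈ A, y⁻¹ * apl (σ : MulAut A) y ∈ I) → σ ∈ G₀ := by
    intro σ hσ
    refine ⟨fun i _ y hy => ?_, fun i hi1 y hy _ => ?_⟩
    · match i with
      | 0 => exact hi.iff σ.2 hy
      | k + 1 => exact iff_of_true (apl_mem _ hy) hy
    · obtain rfl : i = 0 := by omega
      exact hσ y hy
  obtain ⟨n, hn, β, hβ, hβn⟩ := h.exists_ext_of_central hA (G₀ := G₀) (fun σ hσ => hG₀mem _ (by
      intro y hy
      obtain ⟨s, hs, -, hsx⟩ := mem_autInducedBy_iff.1 hσ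
      rw [hsx y hy, show y⁻¹ * (s * y * s⁻¹) = ⁅y⁻¹, s⁆ by rw [commutatorElement_def]; group]
      exact h.comm_mem_inter (S.inv_mem (hAS hy)) hs))
    (res.comp G₀.subtype) ⟨t₀, hG₀mem _ fun y hy =>
      htriv _ (hH₀' ▸ mem_map_of_mem _ ht₀) y hy⟩ fun z => MulEquiv.ext fun v => by
        show res t₀ (res (z : D A) v) = res (z : D A) (res t₀ v)
        rw [hneg, hneg, map_inv]
  have hβI : ∀ v ∈ I, apl β v = v⁻¹ := fun v hv => by
    have h1 : res (n : D A) ⟨v, hv⟩ = (⟨v, hv⟩ : I)⁻¹ :=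
      (DFunLike.congr_fun hn ⟨v, hv⟩).trans (hneg _)
    rw [hβn v (hIA hv)]
    exact congrArg Subtype.val h1
  have hβA : ∀ y ∈ A, y⁻¹ * apl β y ∈ I := fun y hy => by
    rw [hβn y hy]; exact n.2.2 0 (by norm_num) y hy hy
  -- the image of `x`
  set ζ := ⁅x, d⁆ with hζ
  have hζW : ζ ∈ W := by rw [hζ, ← commutatorElement_inv d x]; exact inv_mem (hIW d hd x hxS)
  have hζ1 : ζ ≠ 1 := fun e => hxd (commutatorElement_eq_one_iff_mul_comm.1 e)
  have hζp : ζ ^ p = 1 := by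
    have := congrArg Subtype.val (pow_card_eq_one' (G := W) (x := ⟨ζ, hζW⟩))
    rwa [hWc] at this
  have hζo : orderOf ζ = p := orderOf_eq_prime hζp hζ1
  have hζc : ∀ s ∈ S, Commute s ζ := fun s hs => (hWcen ζ hζW s hs).symm
  obtain ⟨y, hy, k, hyk⟩ := h.exists_mul hA hxS hxA _ (apl_mem β hxS)
  have hdi : ⁅x, d⁻¹⁆ = ζ⁻¹ := comm_inv_right (hζc d (hIS hd))
  have hk : ζ ^ k = ζ := by
    have h1 := apl_map_comm β hxS (hIS hd)
    rw [hβI ζ (hWI hζW), hβI d hd, ← hyk] at h1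
    have h2 : ⁅y * x ^ k, d⁻¹⁆ = y * ⁅x ^ k, d⁻¹⁆ * y⁻¹ * ⁅y, d⁻¹⁆ := by
      simp only [commutatorElement_def]; group
    have h3 : Commute x ⁅x, d⁻¹⁆ := by rw [hdi]; exact (hζc x hxS).inv_right
    rw [h2, comm_pow_left h3, hdi,
      commutatorElement_eq_one_iff_mul_comm.2 (hab y hy _ (A.inv_mem (hIA hd))), mul_one,
      (((hζc y (hAS hy)).inv_right).pow_right k).eq, mul_inv_cancel_right, inv_pow, inv_inj] at h1
    exact h1.symm
  obtain ⟨y', hy', hxy⟩ : ∃ y' ∈ A, apl β x = x * y' := by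
    refine ⟨x⁻¹ * apl β x, ?_, by rw [mul_inv_cancel_left]⟩
    have hk0 : k ≠ 0 := fun e => hζ1 (by rw [← hk, e, pow_zero])
    obtain ⟨j, rfl⟩ : ∃ j, k = j + 1 := ⟨k - 1, by omega⟩
    rw [pow_succ, mul_eq_right] at hk
    obtain ⟨q, rfl⟩ := hζo ▸ orderOf_dvd_of_pow_eq_one hk
    rw [← hyk, show x⁻¹ * (y * x ^ (p * q + 1)) = (x⁻¹ * y * x⁻¹⁻¹) * (x⁻¹ * x ^ (p * q + 1)) by group,
      pow_succ', inv_mul_cancel_left, pow_mul]
    exact A.mul_mem (h.nor_ess hA x⁻¹ (S.inv_mem hxS) y hy) (A.pow_mem (h.pow_mem_ess hA hxS) q)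
  -- the commutator with an element outside `B`
  obtain ⟨m, hm, hmB⟩ := h.exists_not_mem hB hA hne
  have hmS := hAS hm
  set c := ⁅x, m⁆ with hc'
  have hcI : c ∈ I := h.comm_mem_inter hxS hmS
  have hcW : c ∈ W := by
    set j := m⁻¹ * apl β m with hj
    have hjI : j ∈ I := hβA m hm
    have hmj : apl β m = m * j := (mul_inv_cancel_left _ _).symm
    have h1 := apl_map_comm β hxS hmS
    rw [hβI c hcI, hxy, hmj] at h1
    have e : ⁅x * y', m * j⁆ = x * ⁅y', m * j⁆ * x⁻¹ * (c * (m * ⁅x, j⁆ * m⁻¹)) := by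
      rw [hc']; simp only [commutatorElement_def]; group
    rw [e, commutatorElement_eq_one_iff_mul_comm.2 (hab y' hy' _ (A.mul_mem hm (hIA hjI))),
      mul_one, mul_inv_cancel, one_mul] at h1
    refine h.mem_of_sq (hIS hcI) ?_
    have h2 : m * ⁅x, j⁆ * m⁻¹ ∈ W := by
      refine hWn m hmS _ ?_
      rw [← commutatorElement_inv j x]; exact inv_mem (hIW j hjI x hxS)
    have h3 : c * c = (m * ⁅x, j⁆ * m⁻¹)⁻¹ := by
      rw [eq_inv_iff_mul_eq_one]
      calc c * c * (m * ⁅x, j⁆ * m⁻¹) = c * (c * (m * ⁅x, j⁆ * m⁻¹)) := by group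
        _ = 1 := by rw [← h1]; exact mul_inv_cancel c
    rw [h3]; exact inv_mem h2
  obtain ⟨i, hi'⟩ : ∃ i : ℕ, ζ ^ i = c := by
    obtain ⟨i, hi'⟩ := mem_powers_iff_mem_zpowers.2 (mem_zpowers_of_prime_card (p := p) hWc
      (show (⟨ζ, hζW⟩ : W) ≠ 1 from fun e => hζ1 (congrArg Subtype.val e)) (g' := ⟨c, hcW⟩))
    exact ⟨i, congrArg Subtype.val hi'⟩
  set m' := m * (d⁻¹) ^ i with hm'
  have hm'A : m' ∈ A := A.mul_mem hm (A.pow_mem (A.inv_mem (hIA hd)) i)
  have hxm : x * m' = m' * x := by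
    rw [← commutatorElement_eq_one_iff_mul_comm, hm',
      show ⁅x, m * d⁻¹ ^ i⁆ = c * (m * ⁅x, d⁻¹ ^ i⁆ * m⁻¹) by
        rw [hc']; simp only [commutatorElement_def]; group,
      comm_pow_right (by rw [hdi]; exact ((hζc d (hIS hd)).inv_left).inv_right), hdi,
      (((hζc m hmS).inv_right).pow_right i).eq, mul_inv_cancel_right, inv_pow, hi', mul_inv_cancel]
  have hm'B : m' ∈ B := h.cen_le_ess hB (hAS hm'A) fun s hs => by
    obtain ⟨w, hw, n', rfl⟩ := h.exists_mul hA hxS hxA s hs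
    exact ((show Commute m' w from hab m' hm'A w hw).mul_right
      ((show Commute m' x from hxm.symm).pow_right n')).eq
  refine hmB ?_
  have := B.mul_mem hm'B (B.inv_mem (B.pow_mem (B.inv_mem (h.inter_le hB hd)) i))
  rwa [hm', mul_inv_cancel_right] at this

end Cfsg.Agent.FusRankThreeChar
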