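import Cfsg.Agent.FusRankThreeChar.Quot
import Cfsg.Agent.FusRankThreeChar.Small

/-!
The inductive hypothesis applied to a quotient, and small facts for the case analysis.
-/

set_option autoImplicit false
set_option linter.style.haveILetI false
set_option linter.unusedSectionVars false

namespace Cfsg.Agent.FusRankThreeChar

open Cfsg Cfsg.FusionSystem Cfsg.Agent.FusSys Subgroup
open Cfsg.Agent.RankThreeEss (Elem)
open Cfsg.Agent.FusRankThreeNormal (Nor zOne apl_map_mul apl_map_one apl_map_inv apl_map_pow)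
open scoped commutatorElement

universe u

variable {Ω : Type u} [Group Ω] {S E Q K₁ K₂ : Subgroup Ω} {p : ℕ}
variable {D : (X : Subgroup Ω) → Subgroup (MulAut X)}

/-- A series of length four. -/
def ser4 {G : Type*} [Group G] (A B C T : Subgroup G) : ℕ → Subgroup G
  | 0 => ⊥
  | 1 => A
  | 2 => B
  | 3 => C
  | _ => T

theorem ser4_mono {G : Type*} [Group G] {A B C T : Subgroup G} (h : A ≤ B) (h' : B ≤ C)
    (h'' : C ≤ T) : Monotone (ser4 A B C T) :=
  monotone_nat_of_le_succ fun i => by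
    match i with
    | 0 => exact bot_le
    | 1 => exact h
    | 2 => exact h'
    | 3 => exact h''
    | k + 4 => exact le_rfl

theorem Inv.sup {A B : Subgroup Ω} (hA : Inv D E A) (hB : Inv D E B) (hAE : A ≤ E) (hBE : B ≤ E) :
    Inv D E (A ⊔ B) := by
  intro α hα x _ hx
  let P : Subgroup Ω :=
    { carrier := {y | y ∈ E ∧ apl α y ∈ A ⊔ B}
      one_mem' := ⟨one_mem _, by rw [apl_map_one]; exact one_mem _⟩
      mul_mem' := fun {a b} ha hb =>
        ⟨mul_mem ha.1 hb.1, by rw [apl_map_mul α ha.1 hb.1]; exact mul_mem ha.2 hb.2⟩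
      inv_mem' := fun {a} ha =>
        ⟨inv_mem ha.1, by rw [apl_map_inv α ha.1]; exact inv_mem ha.2⟩ }
  exact ((sup_le (fun y hy => ⟨hAE hy, mem_sup_left (hA α hα y (hAE hy) hy)⟩)
    (fun y hy => ⟨hBE hy, mem_sup_right (hB α hα y (hBE hy) hy)⟩) : A ⊔ B ≤ P) hx).2

/-- Invariance of a relative centraliser. -/
theorem Inv.centralizer {A : Subgroup Ω} (hA : Inv D E A) (hAE : A ≤ E) :
    Inv D E (E ⊓ Subgroup.centralizer (A : Set Ω)) := by
  intro α hα x hx hxc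
  refine ⟨apl_mem α hx, mem_centralizer_iff.2 fun a ha => ?_⟩
  have h1 := mem_centralizer_iff.1 hxc.2 (apl α⁻¹ a) (hA _ (inv_mem hα) a (hAE ha) ha)
  have h2 := congrArg (apl α) h1
  rwa [apl_map_mul α (apl_mem _ (hAE ha)) hx, apl_map_mul α hx (apl_mem _ (hAE ha)),
    apl_apl_inv α (hAE ha)] at h2

/-- The fixed points of an automorphism. -/
def fixSub (t : MulAut E) : Subgroup Ω where
  carrier := {y | y ∈ E ∧ apl t y = y}
  one_mem' := ⟨one_mem _, apl_map_one t⟩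
  mul_mem' := fun {a b} ha hb => ⟨mul_mem ha.1 hb.1, by rw [apl_map_mul t ha.1 hb.1, ha.2, hb.2]⟩
  inv_mem' := fun {a} ha => ⟨inv_mem ha.1, by rw [apl_map_inv t ha.1, ha.2]⟩

variable [Finite S] [hp : Fact p.Prime]

namespace Setting

variable (h : Setting p S D K₁ K₂)
include h

/-- A proper inclusion costs a factor `p`. -/
theorem card_lt_step {A B : Subgroup Ω} (hAB : A ≤ B) (hne : A ≠ B) (hBS : B ≤ S) :
    p * Nat.card A ≤ Nat.card B := by
  haveI := finite_of_le hBS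
  haveI := finite_of_le (hAB.trans hBS)
  obtain ⟨i, hi⟩ := IsPGroup.iff_card.1 (h.pS.to_le (hAB.trans hBS))
  obtain ⟨j, hj⟩ := IsPGroup.iff_card.1 (h.pS.to_le hBS)
  have hlt : Nat.card A < Nat.card B :=
    lt_of_le_of_ne (card_le_of_le hAB) fun e => hne (eq_of_le_of_card_ge hAB e.ge)
  rw [hi, hj] at hlt ⊢
  rw [← pow_succ']
  exact Nat.pow_le_pow_right hp.out.pos ((Nat.pow_lt_pow_iff_right hp.out.one_lt).1 hlt)

theorem eq_of_step {A R W : Subgroup Ω} (hAR : A ≤ R) (hne : A ≠ R) (hRW : R ≤ W) (hWS : W ≤ S)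
    (hW : Nat.card W = p * Nat.card A) : R = W := by
  haveI := finite_of_le hWS
  exact eq_of_le_of_card_ge hRW (hW.le.trans (h.card_lt_step hAR hne (hRW.trans hWS)))

/-- Powers in a step of order `p`. -/
theorem pow_mem_step {A W : Subgroup Ω} (hAW : A ≤ W) (hWS : W ≤ S) (hA : Nor S A)
    (hW : Nat.card W = p * Nat.card A) {y : Ω} (hy : y ∈ W) : y ^ p ∈ A := by
  haveI := hA.subgroupOf hWS
  haveI := finite_of_le hWS
  have h1 := (A.subgroupOf W).card_mul_index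
  rw [hW, Nat.card_congr (subgroupOfEquivOfLe hAW).toEquiv, mul_comm p] at h1
  haveI := finite_of_le (hAW.trans hWS)
  have h2 := pow_index_mem (A.subgroupOf W) (⟨y, hy⟩ : W)
  rw [Nat.eq_of_mul_eq_mul_left Nat.card_pos h1] at h2
  exact h2

/-- The induction step in a quotient. -/
theorem quot_cases
    (ih : ∀ {G : Type u} [Group G] (S' : Subgroup G) [Finite S']
      (D' : (X : Subgroup G) → Subgroup (MulAut X)) (J₁ J₂ : Subgroup G),
      Setting p S' D' J₁ J₂ → Nat.card S' < Nat.card S → Goal p S' J₁ J₂)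
    (hne : Q ≠ ⊥) (hQ : ∀ E, Ess S K₁ K₂ E → Q ≤ E) (hQS : Inv D S Q)
    (hQi : ∀ E, Ess S K₁ K₂ E → Inv D E Q)
    (hnp : ∀ E, Ess S K₁ K₂ E → ∃ x ∈ S, x ∉ E ∧ ∃ a ∈ D E, ∃ γ ∈ D E,
      (∀ y ∈ E, apl a y = x * y * x⁻¹) ∧
      ¬ IsPGroup p (closure ({a, γ * a * γ⁻¹} : Set (MulAut E))) ∧
      ∀ t ∈ closure ({a, γ * a * γ⁻¹} : Set (MulAut E)),
        (∀ e ∈ E, e⁻¹ * apl t e ∈ Q) → ∃ k, t ^ p ^ k = 1) :
    (∀ u ∈ K₁ ⊓ K₂, ∀ s ∈ S, ⁅u, s⁆ ∈ Q) ∨
      (Nat.card S = p ^ 4 * Nat.card Q ∧ ∀ A B, Ess S K₁ K₂ A → Ess S K₁ K₂ B → A ≠ B →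
        (∀ u ∈ A, ∀ v ∈ A, ⁅u, v⁆ ∈ Q) → Inv D A (K₁ ⊓ K₂) → False) := by
  by_cases hL : ∀ u ∈ K₁ ⊓ K₂, ∀ s ∈ S, ⁅u, s⁆ ∈ Q
  · exact Or.inl hL
  right
  have hQle : Q ≤ S := (hQ _ h.left).trans h.left.1.1
  haveI hn := (h.nor_of_inv_top hQle hQS).subgroupOf (le_refl S)
  set f := QuotientGroup.mk' (Q.subgroupOf S) with hfdef
  have hf : Function.Surjective f := QuotientGroup.mk'_surjective _
  have hker : ∀ x : S, f x = 1 ↔ (x : Ω) ∈ Q := fun x => QuotientGroup.eq_one_iff x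
  have hq := h.quotient hker hf hQ hQS hQi hnp
  haveI : Finite (S ⧸ Q.subgroupOf S) := inferInstance
  haveI := finite_of_le hQle
  have hcard := card_img hker hQle (le_refl S)
  rw [img_top hf] at hcard
  have hinf : qImg f K₁ ⊓ qImg f K₂ = qImg f (K₁ ⊓ K₂) :=
    img_inf hker (hQ _ h.left) (hQ _ h.right) h.left.1.1
  have hncen : ¬ ∀ x ∈ qImg f K₁ ⊓ qImg f K₂, ∀ s ∈ (⊤ : Subgroup (S ⧸ Q.subgroupOf S)),
      x * s = s * x := fun hc => hL fun u hu s hs => by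
    have huS : u ∈ S := h.inter_le_S hu
    have h1 := hc _ (hinf ▸ qPi_mem_img huS hu) (qPi f s) (mem_top _)
    rw [← commutatorElement_eq_one_iff_mul_comm, qPi_eq f huS, qPi_eq f hs, ← map_commutatorElement,
      hker] at h1
    exact h1
  have hlt : Nat.card (⊤ : Subgroup (S ⧸ Q.subgroupOf S)) < Nat.card S := by
    rw [hcard]
    refine lt_mul_of_one_lt_right Nat.card_pos ?_
    rw [Finite.one_lt_card_iff_nontrivial, nontrivial_iff_ne_bot]
    exact hne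
  rcases ih _ _ _ _ hq hlt with hc | hc
  · exact absurd hc hncen
  refine ⟨by rw [hcard, hc], fun A B hA hB hAB hab hi => ?_⟩
  have hess : ∀ X, Ess S K₁ K₂ X → Ess (⊤ : Subgroup (S ⧸ Q.subgroupOf S)) (qImg f K₁) (qImg f K₂)
      (qImg f X) := fun X hX => ⟨⟨le_top, trivial⟩, hX.2.imp (congrArg _) (congrArg _)⟩
  refine hq.small_false hc (hess A hA) (hess B hB) (fun e => hAB ?_) ?_ ?_ hncen
  · rw [← pre_img hker (hQ A hA) hA.1.1, e, pre_img hker (hQ B hB) hB.1.1]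
  · intro y hy z hz
    obtain ⟨u, hu, huS, rfl⟩ := mem_img hy
    obtain ⟨v, hv, hvS, rfl⟩ := mem_img hz
    rw [← commutatorElement_eq_one_iff_mul_comm, qPi_eq f huS, qPi_eq f hvS, ← map_commutatorElement,
      hker]
    exact hab u hu v hv
  · rw [hinf]
    exact inv_img hker hf (hQ A hA) hA.1.1 (le_inf (hQ _ h.left) (hQ _ h.right)) hi

end Setting

end Cfsg.Agent.FusRankThreeChar
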