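import Cfsg.Agent.FusRankThreeChar.KillBase

/-!
An invariant plane containing a moved socle is impossible.
-/

set_option autoImplicit false
set_option linter.style.haveILetI false
set_option linter.unusedSectionVars false

namespace Cfsg.Agent.FusRankThreeChar

open Cfsg Cfsg.FusionSystem Cfsg.Agent.FusSys Subgroup
open Cfsg.Agent.RankThreeEss (Elem)
open Cfsg.Agent.FusRankThreeNormal (Nor zOne apl_map_mul apl_map_one apl_map_inv apl_map_pow
  apl_map_comm comm_step comm_induction commSub mem_commSub commSub_le)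
open scoped commutatorElement

universe u

variable {Ω : Type u} [Group Ω] {S E Q K₁ K₂ : Subgroup Ω} {p : ℕ}
variable {D : (X : Subgroup Ω) → Subgroup (MulAut X)}
variable [Finite S] [hp : Fact p.Prime]

set_option maxHeartbeats 1600000 in
/-- The plane case. -/
theorem Red.kill_two (h : Red p S D K₁ K₂) {Q : Subgroup Ω} (hel : Elem p Q)
    (hQ : ∀ B, Ess S K₁ K₂ B → Q ≤ B) (hQS : Inv D S Q)
    (hQi : ∀ B, Ess S K₁ K₂ B → Inv D B Q) {E : Subgroup Ω} (hE : Ess S K₁ K₂ E)
    (hmove : vOf p S D E ≠ zOne p S) (hV : vOf p S D E ≤ Q) (hQc : Nat.card Q = p ^ 2) : False := by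
  classical
  obtain ⟨B, hB, hBE⟩ := h.exists_other hE
  have hES := hE.1.1
  have hBS := hB.1.1
  have hQle : Q ≤ S := (hQ E hE).trans hES
  haveI := finite_of_le hQle
  haveI := finite_of_le hES
  haveI := finite_of_le hBS
  have hQn : Nor S Q := h.nor_of_inv_top hQle hQS
  set I := K₁ ⊓ K₂ with hI
  have hIE : I ≤ E := h.inter_le hE
  have hIB : I ≤ B := h.inter_le hB
  have hQI : Q ≤ I := le_inf (hQ _ h.left) (hQ _ h.right)
  -- sizes
  have hzV := h.zOne_le_vOf hE
  have hzS : zOne p S ≤ S := fun z hz => hz.1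
  haveI := finite_of_le hzS
  have h1 := h.card_lt_step hzV (Ne.symm hmove) (hV.trans hQle)
  have h1' := h1.trans (card_le_of_le hV)
  have hz : Nat.card (zOne p S) = p := by
    obtain ⟨j, hj⟩ := IsPGroup.iff_card.1 (h.pS.to_le hzS)
    have hj0 : j ≠ 0 := fun e => h.zOne_ne_bot (card_eq_one.1 (by rw [hj, e, pow_zero]))
    rw [hj, hQc, ← pow_succ'] at h1'
    have := (Nat.pow_le_pow_iff_right hp.out.one_lt).1 h1'
    rw [hj, show j = 1 by omega, pow_one]
  have hVQ : vOf p S D E = Q := by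
    refine eq_of_le_of_card_ge hV ?_
    rw [hz, ← pow_two] at h1
    exact hQc.trans_le h1
  have hcen : ∀ y ∈ S, (y ∈ E ↔ ∀ q ∈ Q, y * q = q * y) := fun y hy => by
    rw [← hVQ]; exact h.mem_iff_comm hE hmove hy
  have hBi : Inv D B I := by
    intro α hα y hy hyI
    refine ⟨?_, ?_⟩ <;> [skip; skip]
    all_goals
      have hαE : apl α y ∈ E := (hcen _ (hBS (apl_mem α hy))).2 fun q hq => by
        have hq' : apl α⁻¹ q ∈ Q := hQi B hB _ (inv_mem hα) q (hQ B hB hq) hq
        have h2 := congrArg (apl α) ((hcen y (hBS hy)).1 (hIE hyI) _ hq')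
        rwa [apl_map_mul α hy (apl_mem _ (hQ B hB hq)), apl_map_mul α (apl_mem _ (hQ B hB hq)) hy,
          apl_apl_inv α (hQ B hB hq)] at h2
      have h3 : apl α y ∈ E ⊓ B := ⟨hαE, apl_mem α hy⟩
      rw [inf_eq hE hB hBE.symm] at h3
    exacts [h3.1, h3.2]
  obtain ⟨x, hxE, hxB⟩ := h.exists_not_mem hB hE hBE.symm
  have hxS : x ∈ S := hES hxE
  have hxQ : ∀ q ∈ Q, x * q * x⁻¹ = q := fun q hq => by
    rw [(hcen x hxS).1 hxE q hq, mul_inv_cancel_right]
  -- a chain
  have hchain : (∀ u ∈ I, ⁅u, x⁆ ∈ Q) → False := fun hc => hxB (by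
    refine h.mem_of_series hB hxS (N := ser3 Q I B) (ser3_mono hQI hIB) rfl (n := 3) le_rfl ?_ ?_
    · intro i hi
      match i with
      | 0 => exact inv_bot
      | 1 => exact hQi B hB
      | 2 => exact hBi
      | k + 3 => exact inv_self
    · intro i hi y hy hyN
      have e : y⁻¹ * (x * y * x⁻¹) = ⁅y⁻¹, x⁆ := by rw [commutatorElement_def]; group
      match i, hi with
      | 0, _ => rw [hxQ y hyN, inv_mul_cancel]; exact one_mem _
      | 1, _ => rw [e]; exact hc _ (I.inv_mem hyN)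
      | 2, _ => rw [e]; exact h.comm_mem_inter (S.inv_mem (hBS hy)) hxS)
  have hne : Q ≠ ⊥ := fun e => h.zOne_ne_bot (le_bot_iff.1 ((hzV.trans hV).trans e.le))
  have hab : ¬ ∀ u ∈ E, ∀ v ∈ E, u * v = v * u := fun hab => hchain fun u hu => by
    rw [commutatorElement_eq_one_iff_mul_comm.2 (hab u (hIE hu) x hxE)]; exact one_mem _
  have hnp : ∀ F, Ess S K₁ K₂ F → ∃ y ∈ S, y ∉ F ∧ ∃ a ∈ D F, ∃ γ ∈ D F,
      (∀ w ∈ F, apl a w = y * w * y⁻¹) ∧
      ¬ IsPGroup p (closure ({a, γ * a * γ⁻¹} : Set (MulAut F))) ∧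
      ∀ t ∈ closure ({a, γ * a * γ⁻¹} : Set (MulAut F)),
        (∀ e ∈ F, e⁻¹ * apl t e ∈ Q) → ∃ k, t ^ p ^ k = 1 := by
    intro F hF
    by_cases hFE : F = E
    · subst hFE
      obtain ⟨y, hyB, hyF⟩ := h.exists_not_mem hE hB hBE
      obtain ⟨a, ha, γ, hγ, hax, hnot⟩ := h.nonpgroup hE (hBS hyB) hyF
      refine ⟨y, hBS hyB, hyF, a, ha, γ, hγ, hax, hnot, fun t ht htQ => ?_⟩
      set M := commSub F F with hM
      have hMF : M ≤ F := commSub_le fun u hu v hv => by
        rw [commutatorElement_def]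
        exact F.mul_mem (F.mul_mem (F.mul_mem hu hv) (F.inv_mem hu)) (F.inv_mem hv)
      have hMi : Inv D F M := inv_commSub le_rfl le_rfl inv_self inv_self
      have hMne : M ≠ ⊥ := fun e => hab fun u hu v hv => commutatorElement_eq_one_iff_mul_comm.1
        (mem_bot.1 (e ▸ mem_commSub hu hv))
      have hQM : Q ≤ M := hVQ ▸ orb_le_of_inv hMi
        (h.zOne_le_of_nor hz (hMF.trans hES) (h.nor_of_inv hE hMF hMi) hMne)
      have hMfix : M ≤ fixSub t := commSub_le fun u hu v hv => by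
        refine ⟨hMF (mem_commSub hu hv), ?_⟩
        set q := u⁻¹ * apl t u with hq
        set r := v⁻¹ * apl t v with hr
        have hq' : apl t u = u * q := (mul_inv_cancel_left _ _).symm
        have hr' : apl t v = v * r := (mul_inv_cancel_left _ _).symm
        rw [apl_map_comm t hu hv, hq', hr']
        have c1 : ∀ w ∈ F, ∀ a ∈ Q, Commute w a := fun w hw a ha => (hcen w (hES hw)).1 hw a ha
        have hqQ : q ∈ Q := htQ u hu
        have hrQ : r ∈ Q := htQ v hv
        have e1 : ⁅u * q, v * r⁆ = u * ⁅q, v * r⁆ * u⁻¹ * ⁅u, v * r⁆ := by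
          simp only [commutatorElement_def]; group
        have e2 : ⁅u, v * r⁆ = ⁅u, v⁆ * (v * ⁅u, r⁆ * v⁻¹) := by
          simp only [commutatorElement_def]; group
        rw [e1, commutatorElement_eq_one_iff_mul_comm.2
          (c1 _ (F.mul_mem hv (hQ F hE hrQ)) q hqQ).symm.eq, e2,
          commutatorElement_eq_one_iff_mul_comm.2 (c1 u hu r hrQ).eq]
        group
      refine h.pow_eq_one_of_series hE (N := ser2 Q F) (n := 2) (ser2_mono (hQ F hE)) rfl (le_refl F)
        fun i hi w hw hwN => ?_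
      match i, hi with
      | 0, _ =>
        show _ ∈ (⊥ : Subgroup Ω)
        rw [(hMfix (hQM hwN)).2, inv_mul_cancel]; exact one_mem _
      | 1, _ => exact htQ w hw
    · obtain rfl : F = B := by
        rcases hF.2 with rfl | rfl <;> rcases hB.2 with rfl | rfl <;> rcases hE.2 with rfl | rfl <;>
          first | rfl | exact absurd rfl hFE | exact absurd rfl hBE
      obtain ⟨a, ha, γ, hγ, hax, hnot⟩ := h.nonpgroup hF hxS hxB
      refine ⟨x, hxS, hxB, a, ha, γ, hγ, hax, hnot, fun t ht htQ => ?_⟩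
      have hs := h.pair_stab hF ha hγ hax (N := ser2 Q F) (n := 1)
        (fun i hi => by
          match i with
          | 0 => exact inv_bot
          | 1 => exact hQi F hF
          | k + 2 => exact inv_self)
        (fun i hi w hw hwN => by
          obtain rfl : i = 0 := by omega
          rw [hxQ w hwN, inv_mul_cancel]; exact one_mem _) t ht
      refine h.pow_eq_one_of_series hF (N := ser2 Q F) (n := 2) (ser2_mono (hQ F hF)) rfl (le_refl F)
        fun i hi w hw hwN => ?_
      match i, hi with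
      | 0, _ => exact hs 0 (by norm_num) w hw hwN
      | 1, _ => exact htQ w hw
  rcases h.quot_cases h.ih hne hQ hQS hQi hnp with hL | ⟨hc, hJ⟩
  · exact hchain fun u hu => hL u hu x hxS
  by_cases hBab : ∀ u ∈ B, ∀ v ∈ B, ⁅u, v⁆ ∈ Q
  · exact hJ B E hB hE hBE hBab hBi
  -- the commutators of `B` give the middle of a chain
  have hIS : I ≤ S := hIE.trans hES
  haveI := finite_of_le hIS
  have hIc : Nat.card I = p ^ 4 := by
    have e1 := h.card_eq hB
    rw [hc, hQc, h.card_inter hE hB hBE.symm, ← hI, show p ^ 4 * p ^ 2 = p * (p * p ^ 4) by ring]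
      at e1
    exact (Nat.eq_of_mul_eq_mul_left hp.out.pos (Nat.eq_of_mul_eq_mul_left hp.out.pos e1)).symm
  have hQIne : Q ≠ I := fun e => by
    rw [e, hIc] at hQc
    have := Nat.pow_right_injective hp.out.two_le hQc
    omega
  obtain ⟨W, hQW, hWI, hWn, hWc⟩ := exists_step h.pS hQI hQIne hIS hQn h.nor_inter
  have hWQ : ∀ w ∈ W, ∀ s ∈ S, ⁅w, s⁆ ∈ Q := comm_step h.pS hQW (hWI.trans hIS) hQn hWn hWc
  have hIW : ∀ u ∈ I, ∀ s ∈ S, ⁅u, s⁆ ∈ W :=
    comm_step h.pS hWI hIS hWn h.nor_inter (by rw [hIc, hWc, hQc]; ring)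
  obtain ⟨m, hm, hmE⟩ := h.exists_not_mem hE hB hBE
  have hmS : m ∈ S := hBS hm
  have hBgen : ∀ y ∈ B, y ∈ closure ((I : Set Ω) ∪ {m}) := by
    intro y hy
    obtain ⟨g, hg, k, rfl⟩ := h.exists_mul hE hmS hmE y (hBS hy)
    have hgB : g ∈ B := by
      have := B.mul_mem hy (B.inv_mem (B.pow_mem hm k))
      rwa [mul_inv_cancel_right] at this
    exact Subgroup.mul_mem _ (Subgroup.subset_closure (Or.inl (by
      rw [SetLike.mem_coe, hI, ← inf_eq hE hB hBE.symm]; exact ⟨hg, hgB⟩)))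
      (Subgroup.pow_mem _ (Subgroup.subset_closure (Set.mem_union_right _ (Set.mem_singleton _))) k)
  have hBW : ∀ u ∈ B, ∀ v ∈ B, ⁅u, v⁆ ∈ W := fun u hu v hv =>
    comm_gen hWn (s := (I : Set Ω) ∪ {m}) (by
      rintro y (hy | rfl)
      exacts [hIS hy, hmS]) (by
      rintro y (hy | rfl) z (hz' | rfl)
      · exact hIW y hy z (hIS hz')
      · exact hIW y hy _ hmS
      · rw [← commutatorElement_inv z]; exact inv_mem (hIW z hz' _ hmS)
      · rw [commutatorElement_self]; exact one_mem _) u (hBgen u hu) v (hBgen v hv)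
  have hBB : commSub B B ≤ B := commSub_le fun u hu v hv => hIB (hWI (hBW u hu v hv))
  have hR : commSub B B ⊔ Q = W := h.eq_of_step le_sup_right (fun e => hBab fun u hu v hv => by
      rw [e]; exact mem_sup_left (mem_commSub hu hv))
    (sup_le (commSub_le hBW) hQW) (hWI.trans hIS) hWc
  have hWi : Inv D B W := hR ▸ (inv_commSub le_rfl le_rfl inv_self inv_self).sup (hQi B hB) hBB
    (hQ B hB)
  refine hxB (h.mem_of_series hB hxS (N := ser4 Q W I B) (ser4_mono hQW hWI hIB) rfl (n := 4) le_rfl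
    ?_ ?_)
  · intro i hi
    match i with
    | 0 => exact inv_bot
    | 1 => exact hQi B hB
    | 2 => exact hWi
    | 3 => exact hBi
    | k + 4 => exact inv_self
  · intro i hi y hy hyN
    have e : y⁻¹ * (x * y * x⁻¹) = ⁅y⁻¹, x⁆ := by rw [commutatorElement_def]; group
    match i, hi with
    | 0, _ => rw [hxQ y hyN, inv_mul_cancel]; exact one_mem _
    | 1, _ => rw [e]; exact hWQ _ (W.inv_mem hyN) x hxS
    | 2, _ => rw [e]; exact hIW _ (I.inv_mem hyN) x hxS
    | 3, _ => rw [e]; exact h.comm_mem_inter (S.inv_mem (hBS hy)) hxS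

end Cfsg.Agent.FusRankThreeChar
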