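import Cfsg.Agent.FusRankThreeChar.Reduced
import Cfsg.Agent.FusRankThreeChar.Central

/-!
The claim, by induction on the order.
-/

set_option autoImplicit false
set_option linter.unusedSectionVars false

namespace Cfsg.Agent.FusRankThreeChar

open Cfsg Cfsg.FusionSystem Cfsg.Agent.FusSys Subgroup
open Cfsg.Agent.FusRankThreeNormal (zOne)

universe u

/-- The claim, for all orders. -/
theorem setting_goal_aux {p : ℕ} [hp : Fact p.Prime] (c : ℕ) :
    ∀ {Ω : Type u} [Group Ω] (S : Subgroup Ω) [Finite S]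
      (D : (X : Subgroup Ω) → Subgroup (MulAut X)) (K₁ K₂ : Subgroup Ω),
      Setting p S D K₁ K₂ → Nat.card S = c → Goal p S K₁ K₂ := by
  classical
  induction c using Nat.strong_induction_on with
  | _ c IH => ?_
  intro Ω _ S _ D K₁ K₂ h hc
  have ih : ∀ {G : Type u} [Group G] (S' : Subgroup G) [Finite S']
      (D' : (X : Subgroup G) → Subgroup (MulAut X)) (J₁ J₂ : Subgroup G),
      Setting p S' D' J₁ J₂ → Nat.card S' < Nat.card S → Goal p S' J₁ J₂ :=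
    fun S' _ D' J₁ J₂ h' hlt => IH _ (hc ▸ hlt) S' D' J₁ J₂ h' rfl
  by_cases hex : ∃ Q, Q ≤ zOne p S ∧ Inv D S Q ∧ (∀ F, Ess S K₁ K₂ F → Inv D F Q) ∧ Q ≠ ⊥
  · have hP : ∃ d, ∃ Q, Q ≤ zOne p S ∧ Inv D S Q ∧ (∀ F, Ess S K₁ K₂ F → Inv D F Q) ∧ Q ≠ ⊥ ∧
        Nat.card S - Nat.card Q = d := by
      obtain ⟨Q, h1, h2, h3, h4⟩ := hex
      exact ⟨_, Q, h1, h2, h3, h4, rfl⟩
    obtain ⟨Q, h1, h2, h3, h4, h5⟩ := Nat.find_spec hP
    refine h.central_step ih h1 h4 h2 h3 fun Q' h1' h2' h3' hle => ?_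
    have hQ'S : Q' ≤ S := fun q hq => (h1' hq).1
    haveI := finite_of_le hQ'S
    have h4' : Q' ≠ ⊥ := fun e => h4 (le_bot_iff.1 (e ▸ hle))
    have h6 := Nat.find_min' hP ⟨Q', h1', h2', h3', h4', rfl⟩
    have h7 := card_le_of_le hQ'S
    have h8 := card_le_of_le hle
    exact (eq_of_le_of_card_ge hle (by omega)).symm
  · push Not at hex
    have hr : Red p S D K₁ K₂ :=
      { toSetting := h
        red := fun Q hQ hQS hQi => hex Q hQ hQS hQi
        ih := fun {G} _ S' _ D' J₁ J₂ h' hlt => ih S' D' J₁ J₂ h' hlt }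
    exact hr.goal

/-- The claim. -/
theorem Setting.goal {p : ℕ} [Fact p.Prime] {Ω : Type u} [Group Ω] {S : Subgroup Ω} [Finite S]
    {D : (X : Subgroup Ω) → Subgroup (MulAut X)} {K₁ K₂ : Subgroup Ω}
    (h : Setting p S D K₁ K₂) : Goal p S K₁ K₂ :=
  setting_goal_aux _ S D K₁ K₂ h rfl

end Cfsg.Agent.FusRankThreeChar
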