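import Cfsg.Agent.FusRankThreeChar.Tools

/-!
The hypotheses pass to the quotient by a subgroup kept by all the chosen automorphisms, provided the
conjugate pairs still generate non-`p`-groups there.
-/

set_option autoImplicit false
set_option linter.style.haveILetI false
set_option linter.unusedSectionVars false

namespace Cfsg.Agent.FusRankThreeChar

open Cfsg Cfsg.FusionSystem Cfsg.Agent.FusSys Subgroup
open Cfsg.Agent.RankThreeEss (Elem rank_of_injective)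
open Cfsg.Agent.FusRankThreeNormal (Nor zOne apl_map_mul apl_map_one apl_map_inv apl_map_pow
  apl_map_comm sectional_quotient)
open scoped commutatorElement

universe u

variable {Ω : Type u} [Group Ω] {S Q K₁ K₂ : Subgroup Ω} {G : Type u} [Group G] {f : S →* G}
variable {p : ℕ} {D : (X : Subgroup Ω) → Subgroup (MulAut X)}

/-- The map to the quotient, defined everywhere. -/
noncomputable def qPi (f : S →* G) (x : Ω) : G :=
  haveI := Classical.propDecidable (x ∈ S)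
  if h : x ∈ S then f ⟨x, h⟩ else 1

/-- The image of a subgroup. -/
def qImg (f : S →* G) (X : Subgroup Ω) : Subgroup G := (X.subgroupOf S).map f

/-- The preimage of a subgroup. -/
def qPre (f : S →* G) (X' : Subgroup G) : Subgroup Ω := (X'.comap f).map S.subtype

theorem qPi_eq (f : S →* G) {x : Ω} (hx : x ∈ S) : qPi f x = f ⟨x, hx⟩ := dif_pos hx

theorem qPi_coe (f : S →* G) (x : S) : qPi f (x : Ω) = f x := qPi_eq f x.2

theorem qPi_mul (f : S →* G) {x y : Ω} (hx : x ∈ S) (hy : y ∈ S) :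
    qPi f (x * y) = qPi f x * qPi f y := by
  rw [qPi_eq f (S.mul_mem hx hy), qPi_eq f hx, qPi_eq f hy, ← map_mul]; rfl

theorem qPi_inv (f : S →* G) {x : Ω} (hx : x ∈ S) : qPi f x⁻¹ = (qPi f x)⁻¹ := by
  rw [qPi_eq f (S.inv_mem hx), qPi_eq f hx, ← map_inv]; rfl

theorem qPre_le (X' : Subgroup G) : qPre f X' ≤ S := map_subtype_le _

theorem qPi_mem_of_pre {X' : Subgroup G} {x : Ω} (hx : x ∈ qPre f X') : qPi f x ∈ X' := by
  obtain ⟨y, hy, rfl⟩ := hx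
  rw [coe_subtype, qPi_coe]; exact hy

theorem qPi_mem_img {X : Subgroup Ω} {x : Ω} (hxS : x ∈ S) (hx : x ∈ X) : qPi f x ∈ qImg f X :=
  ⟨⟨x, hxS⟩, hx, (qPi_eq f hxS).symm⟩

theorem mem_img {X : Subgroup Ω} {y : G} (hy : y ∈ qImg f X) : ∃ x ∈ X, x ∈ S ∧ qPi f x = y := by
  obtain ⟨x, hx, rfl⟩ := hy
  exact ⟨x, hx, x.2, qPi_coe f x⟩

theorem img_top (hf : Function.Surjective f) : qImg f S = ⊤ := by
  rw [qImg, subgroupOf_self, map_top_of_surjective f hf]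

theorem exists_pre (hf : Function.Surjective f) {X' : Subgroup G} {y : G} (hy : y ∈ X') :
    ∃ x ∈ qPre f X', qPi f x = y := by
  obtain ⟨x, rfl⟩ := hf y
  exact ⟨x, ⟨x, hy, rfl⟩, qPi_coe f x⟩

variable (hker : ∀ x : S, f x = 1 ↔ (x : Ω) ∈ Q)
include hker

theorem qPi_eq_iff {x y : Ω} (hx : x ∈ S) (hy : y ∈ S) : qPi f x = qPi f y ↔ x⁻¹ * y ∈ Q := by
  rw [qPi_eq f hx, qPi_eq f hy, ← inv_mul_eq_one, ← map_inv, ← map_mul, hker]; rfl

theorem mem_of_qPi {X : Subgroup Ω} (hX : Q ≤ X) {x : Ω} (hx : x ∈ S)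
    (h : qPi f x ∈ qImg f X) : x ∈ X := by
  obtain ⟨y, hy, hyS, e⟩ := mem_img h
  have := X.mul_mem hy (hX ((qPi_eq_iff hker hyS hx).1 e))
  rwa [mul_inv_cancel_left] at this

theorem pre_img {X : Subgroup Ω} (hX : Q ≤ X) (hXS : X ≤ S) : qPre f (qImg f X) = X := by
  refine le_antisymm ?_ fun x hx => ⟨⟨x, hXS hx⟩, ⟨⟨x, hXS hx⟩, hx, rfl⟩, rfl⟩
  intro x hx
  exact mem_of_qPi hker hX (qPre_le _ hx) (qPi_mem_of_pre hx)

theorem img_inf {A B : Subgroup Ω} (hA : Q ≤ A) (hB : Q ≤ B) (hAS : A ≤ S) :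
    qImg f A ⊓ qImg f B = qImg f (A ⊓ B) := by
  refine le_antisymm (fun y hy => ?_) (le_inf (map_mono fun x hx => (mem_subgroupOf.1 hx).1)
    (map_mono fun x hx => (mem_subgroupOf.1 hx).2))
  obtain ⟨x, hx, hxS, rfl⟩ := mem_img hy.1
  exact qPi_mem_img (hAS hx) ⟨hx, mem_of_qPi hker hB hxS hy.2⟩

/-- The kernel of the map on a subgroup. -/
theorem card_img {X : Subgroup Ω} (hX : Q ≤ X) (hXS : X ≤ S) :
    Nat.card X = Nat.card (qImg f X) * Nat.card Q := by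
  set g : X →* G := f.comp (Subgroup.inclusion hXS) with hg
  have hr : g.range = qImg f X := by
    ext y
    exact ⟨by rintro ⟨x, rfl⟩; exact ⟨⟨x, hXS x.2⟩, x.2, rfl⟩,
      by rintro ⟨x, hx, rfl⟩; exact ⟨⟨x, hx⟩, rfl⟩⟩
  have hk : g.ker = Q.subgroupOf X := by
    ext x
    exact hker ⟨x, hXS x.2⟩
  rw [← g.ker.card_mul_index, index_ker, hr, hk, Nat.card_congr (subgroupOfEquivOfLe hX).toEquiv,
    mul_comm]

/-- An automorphism keeping `Q` induces one on the image. -/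
theorem exists_ind {X : Subgroup Ω} (hXS : X ≤ S) {α : MulAut X}
    (hα : ∀ x ∈ X, apl α x ∈ Q ↔ x ∈ Q) :
    ∃ α' : MulAut (qImg f X), ∀ x ∈ X, apl α' (qPi f x) = qPi f (apl α x) := by
  let g : X →* qImg f X := (f.comp (Subgroup.inclusion hXS)).codRestrict _ fun x =>
    ⟨⟨x, hXS x.2⟩, x.2, rfl⟩
  have hg : Function.Surjective g := by
    rintro ⟨_, x, hx, rfl⟩
    exact ⟨⟨x, hx⟩, rfl⟩
  have hgk : ∀ x : X, g x = 1 ↔ (x : Ω) ∈ Q := fun x => by
    rw [← hker ⟨x, hXS x.2⟩, Subtype.ext_iff]; rfl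
  have hle : g.ker ≤ (g.comp α.toMonoidHom).ker := fun x hx => (hgk _).2 (by
    show ((α x : X) : Ω) ∈ Q
    rw [← apl_coe]; exact (hα x x.2).2 ((hgk x).1 hx))
  let ψ : qImg f X →* qImg f X := MonoidHom.liftOfSurjective g hg ⟨g.comp α.toMonoidHom, hle⟩
  have hψ : ∀ x : X, ψ (g x) = g (α x) := fun x =>
    g.liftOfRightInverse_comp_apply _ (Function.rightInverse_surjInv hg) _ x
  have hb : Function.Bijective ψ := by
    refine ⟨(injective_iff_map_eq_one ψ).2 fun y hy => ?_, fun y => ?_⟩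
    · obtain ⟨x, rfl⟩ := hg y
      rw [hψ, hgk, ← apl_coe] at hy
      exact (hgk x).2 ((hα x x.2).1 hy)
    · obtain ⟨x, rfl⟩ := hg y
      exact ⟨g (α⁻¹ x), by rw [hψ, ← MulAut.mul_apply, mul_inv_cancel, MulAut.one_apply]⟩
  refine ⟨MulEquiv.ofBijective ψ hb, fun x hx => ?_⟩
  have h1 : qPi f x = ((g ⟨x, hx⟩ : qImg f X) : G) := qPi_eq f (hXS hx)
  rw [h1, apl_coe, apl_apply α hx, qPi_eq f (hXS (α ⟨x, hx⟩).2)]
  exact congrArg Subtype.val (hψ ⟨x, hx⟩)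

omit hker in
theorem ind_unique {X : Subgroup Ω} {a b : MulAut (qImg f X)}
    (h : ∀ x ∈ X, apl a (qPi f x) = apl b (qPi f x)) : a = b :=
  apl_ext fun y hy => by
    obtain ⟨x, hx, -, rfl⟩ := mem_img hy
    exact h x hx

/-- The induced automorphism, as a homomorphism. -/
theorem exists_indHom {E : Subgroup Ω} (hES : E ≤ S) (hi : Inv D E Q) :
    ∃ φ : D E →* MulAut (qImg f E),
      ∀ (α : D E), ∀ x ∈ E, apl (φ α) (qPi f x) = qPi f (apl (α : MulAut E) x) := by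
  choose φ hφ using fun α : D E => exists_ind hker hES (α := (α : MulAut E))
    fun x hx => hi.iff α.2 hx
  refine ⟨MonoidHom.mk' φ fun α β => ind_unique fun x hx => ?_, hφ⟩
  rw [hφ _ x hx, apl_mul _ _ (qPi_mem_img (hES hx) hx), hφ β x hx, hφ α _ (apl_mem _ hx),
    Subgroup.coe_mul, apl_mul _ _ hx]

omit hker

/-- The automorphisms induced by the chosen ones. -/
def qD (f : S →* G) (hf : Function.Surjective f) (D : (X : Subgroup Ω) → Subgroup (MulAut X))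
    (X' : Subgroup G) : Subgroup (MulAut X') where
  carrier := {α' | ∃ α ∈ D (qPre f X'), ∀ x ∈ qPre f X', apl α' (qPi f x) = qPi f (apl α x)}
  one_mem' := ⟨1, one_mem _, fun x hx => by rw [apl_one hx, apl_one (qPi_mem_of_pre hx)]⟩
  mul_mem' := by
    rintro a b ⟨α, hα, ha⟩ ⟨β, hβ, hb⟩
    refine ⟨α * β, mul_mem hα hβ, fun x hx => ?_⟩
    rw [apl_mul _ _ (qPi_mem_of_pre hx), hb x hx, ha _ (apl_mem _ hx), apl_mul _ _ hx]
  inv_mem' := by
    rintro a ⟨α, hα, ha⟩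
    refine ⟨α⁻¹, inv_mem hα, fun x hx => ?_⟩
    have h1 := ha _ (apl_mem α⁻¹ hx)
    rw [apl_apl_inv α hx] at h1
    conv_lhs => rw [← h1]
    exact apl_inv_apl a (qPi_mem_of_pre (apl_mem α⁻¹ hx))

variable (hf : Function.Surjective f)

include hker in
theorem mem_qD {E : Subgroup Ω} (hE : Q ≤ E) (hES : E ≤ S) {α' : MulAut (qImg f E)} :
    α' ∈ qD f hf D (qImg f E) ↔
      ∃ α ∈ D E, ∀ x ∈ E, apl α' (qPi f x) = qPi f (apl α x) := by
  show (∃ α ∈ D (qPre f (qImg f E)), ∀ x ∈ qPre f (qImg f E),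
    apl α' (qPi f x) = qPi f (apl α x)) ↔ _
  rw [pre_img hker hE hES]

variable [Finite S] [hp : Fact p.Prime]

include hker in
/-- Invariant subgroups pass to the quotient. -/
theorem inv_img {E A : Subgroup Ω} (hE : Q ≤ E) (hES : E ≤ S) (hA : Q ≤ A) (hi : Inv D E A) :
    Inv (qD f hf D) (qImg f E) (qImg f A) := by
  intro α' hα' y hy hyA
  obtain ⟨α, hα, hαx⟩ := (mem_qD hker hf hE hES).1 hα'
  obtain ⟨x, hx, hxS, rfl⟩ := mem_img hy
  rw [hαx x hx]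
  exact qPi_mem_img (hES (apl_mem α hx)) (hi α hα x hx (mem_of_qPi hker hA hxS hyA))

set_option maxHeartbeats 1600000 in
include hker hf in
/-- The quotient satisfies the hypotheses. -/
theorem Setting.quotient (h : Setting p S D K₁ K₂) (hQ : ∀ E, Ess S K₁ K₂ E → Q ≤ E)
    (hQS : Inv D S Q) (hQi : ∀ E, Ess S K₁ K₂ E → Inv D E Q)
    (hnp : ∀ E, Ess S K₁ K₂ E → ∃ x ∈ S, x ∉ E ∧ ∃ a ∈ D E, ∃ γ ∈ D E,
      (∀ y ∈ E, apl a y = x * y * x⁻¹) ∧
      ¬ IsPGroup p (closure ({a, γ * a * γ⁻¹} : Set (MulAut E))) ∧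
      ∀ t ∈ closure ({a, γ * a * γ⁻¹} : Set (MulAut E)),
        (∀ e ∈ E, e⁻¹ * apl t e ∈ Q) → ∃ k, t ^ p ^ k = 1) :
    Setting p (⊤ : Subgroup G) (qD f hf D) (qImg f K₁) (qImg f K₂) := by
  haveI : Finite G := Finite.of_surjective f hf
  have lift : ∀ E', Ess (⊤ : Subgroup G) (qImg f K₁) (qImg f K₂) E' →
      ∃ E, Ess S K₁ K₂ E ∧ E' = qImg f E := by
    rintro E' ⟨-, rfl | rfl⟩
    exacts [⟨K₁, h.left, rfl⟩, ⟨K₂, h.right, rfl⟩]
  have hQS' : Q ≤ S := (hQ _ h.left).trans h.left.1.1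
  -- automorphisms induced by elements
  have indOf : ∀ X : Subgroup Ω, X ≤ S → Q ≤ X → Nor S X → autInducedBy S X ≤ D X →
      autInducedBy (⊤ : Subgroup G) (qImg f X) ≤ qD f hf D (qImg f X) := by
    intro X hXS hXQ hXn hX σ' hσ'
    obtain ⟨g, -, -, hg⟩ := mem_autInducedBy_iff.1 hσ'
    obtain ⟨⟨s, hs⟩, rfl⟩ := hf g
    obtain ⟨α, hαI, hαx⟩ := exists_mem_autInducedBy (P := X) hs (hXn.mem_normalizer hs)
    refine (mem_qD hker hf hXQ hXS).2 ⟨α, hX hαI, fun x hx => ?_⟩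
    rw [hg _ (qPi_mem_img (hXS hx) hx), hαx x hx, qPi_mul f (S.mul_mem hs (hXS hx)) (S.inv_mem hs),
      qPi_mul f hs (hXS hx), qPi_inv f hs, qPi_eq f hs]
  -- the image of a Sylow subgroup
  have indSyl : ∀ X : Subgroup Ω, (hXS : X ≤ S) → Q ≤ X → Nor S X → Inv D X Q →
      ∀ φ : D X →* MulAut (qImg f X),
        (∀ (α : D X), ∀ x ∈ X, apl (φ α) (qPi f x) = qPi f (apl (α : MulAut X) x)) →
        autInducedBy S X ≤ D X →
        ((autInducedBy S X).subgroupOf (D X)).map φ = autInducedBy (⊤ : Subgroup G) (qImg f X) := by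
    intro X hXS hXQ hXn hi φ hφ hle
    ext σ'
    constructor
    · rintro ⟨σ, hσ, rfl⟩
      obtain ⟨s, hs, -, hsx⟩ := mem_autInducedBy_iff.1 (mem_subgroupOf.1 hσ)
      refine mem_autInducedBy_iff.2 ⟨qPi f s, mem_top _, ?_, fun y hy => ?_⟩
      · refine mem_normalizer_fintype (S := (qImg f X : Set G)) fun y hy => ?_
        obtain ⟨x, hx, hxS, rfl⟩ := mem_img hy
        rw [← qPi_inv f hs, ← qPi_mul f hs hxS, ← qPi_mul f (S.mul_mem hs hxS) (S.inv_mem hs)]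
        exact qPi_mem_img (S.mul_mem (S.mul_mem hs hxS) (S.inv_mem hs)) (hXn s hs x hx)
      · obtain ⟨x, hx, hxS, rfl⟩ := mem_img hy
        rw [hφ σ x hx, hsx x hx, qPi_mul f (S.mul_mem hs hxS) (S.inv_mem hs), qPi_mul f hs hxS,
          qPi_inv f hs]
    · intro hσ'
      obtain ⟨g, -, -, hg⟩ := mem_autInducedBy_iff.1 hσ'
      obtain ⟨⟨s, hs⟩, rfl⟩ := hf g
      obtain ⟨α, hαI, hαx⟩ := exists_mem_autInducedBy (P := X) hs (hXn.mem_normalizer hs)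
      refine ⟨⟨α, hle hαI⟩, hαI, ind_unique fun x hx => ?_⟩
      rw [hφ _ x hx, hg _ (qPi_mem_img (hXS hx) hx), hαx x hx,
        qPi_mul f (S.mul_mem hs (hXS hx)) (S.inv_mem hs), qPi_mul f hs (hXS hx), qPi_inv f hs,
        qPi_eq f hs]
  have hStop : qImg f S = ⊤ := img_top hf
  refine
    { pS := (h.pS.of_surjective f hf).to_subgroup ⊤
      odd := h.odd
      rank := ?_
      ne := fun e => h.ne ?_
      left := ⟨⟨le_top, trivial⟩, Or.inl rfl⟩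
      right := ⟨⟨le_top, trivial⟩, Or.inr rfl⟩
      nor := ?_, idx := ?_, conj := ?_, conjTop := ?_, np := ?_, syl := ?_, ext := ?_, res := ?_ }
  · exact fun L N _ => rank_of_injective (sectional_quotient h.rank f.ker)
      (((QuotientGroup.quotientKerEquivOfSurjective f hf).symm.toMonoidHom).comp
        ((⊤ : Subgroup G).subtype.comp L.subtype))
      ((QuotientGroup.quotientKerEquivOfSurjective f hf).symm.injective.comp
        (Subtype.val_injective.comp L.subtype_injective)) N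
  · rw [← pre_img hker (hQ _ h.left) h.left.1.1, e, pre_img hker (hQ _ h.right) h.right.1.1]
  · intro E' hE'
    obtain ⟨E, hE, rfl⟩ := lift E' hE'
    intro g _ y hy
    obtain ⟨⟨s, hs⟩, rfl⟩ := hf g
    obtain ⟨x, hx, hxS, rfl⟩ := mem_img hy
    rw [← qPi_eq f hs, ← qPi_inv f hs, ← qPi_mul f hs hxS,
      ← qPi_mul f (S.mul_mem hs hxS) (S.inv_mem hs)]
    exact qPi_mem_img (S.mul_mem (S.mul_mem hs hxS) (S.inv_mem hs)) (h.nor E hE s hs x hx)
  · intro E' hE'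
    obtain ⟨E, hE, rfl⟩ := lift E' hE'
    have h1 := card_img hker hQS' (le_refl S)
    rw [hStop, h.card_eq hE, card_img hker (hQ E hE) hE.1.1, ← mul_assoc] at h1
    haveI := finite_of_le hQS'
    exact (Nat.eq_of_mul_eq_mul_right Nat.card_pos h1).symm
  · intro E' hE'
    obtain ⟨E, hE, rfl⟩ := lift E' hE'
    exact indOf E hE.1.1 (hQ E hE) (h.nor E hE) (h.conj E hE)
  · have h1 := indOf S le_rfl hQS' (fun s hs x hx => S.mul_mem (S.mul_mem hs hx) (S.inv_mem hs))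
      h.conjTop
    rw [hStop] at h1
    exact h1
  · intro E' hE'
    obtain ⟨E, hE, rfl⟩ := lift E' hE'
    haveI := finite_of_le hE.1.1
    obtain ⟨x, hx, hxE, a, ha, γ, hγ, hax, hnot, hkill⟩ := hnp E hE
    obtain ⟨φ, hφ⟩ := exists_indHom hker hE.1.1 (hQi E hE)
    refine ⟨qPi f x, mem_top _, fun hm => hxE (mem_of_qPi hker (hQ E hE) hx hm), φ ⟨a, ha⟩,
      (mem_qD hker hf (hQ E hE) hE.1.1).2 ⟨a, ha, hφ _⟩, φ ⟨γ, hγ⟩,
      (mem_qD hker hf (hQ E hE) hE.1.1).2 ⟨γ, hγ, hφ _⟩, fun y hy => ?_, fun hp' => hnot ?_⟩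
    · obtain ⟨w, hw, hwS, rfl⟩ := mem_img hy
      rw [hφ _ w hw, hax w hw, qPi_mul f (S.mul_mem hx hwS) (S.inv_mem hx), qPi_mul f hx hwS,
        qPi_inv f hx]
    set b : D E := ⟨γ, hγ⟩ * ⟨a, ha⟩ * (⟨γ, hγ⟩ : D E)⁻¹ with hb
    set H₀ := closure ({(⟨a, ha⟩ : D E), b} : Set (D E)) with hH₀
    intro ⟨t, ht⟩
    obtain ⟨t₀, ht₀, rfl⟩ : ∃ t₀ ∈ H₀, (t₀ : MulAut E) = t := by
      have h2 : H₀.map (D E).subtype = closure ({a, γ * a * γ⁻¹} : Set (MulAut E)) := by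
        rw [hH₀, MonoidHom.map_closure, Set.image_pair]; rfl
      rw [← h2] at ht
      obtain ⟨t₀, ht₀, e⟩ := ht
      exact ⟨t₀, ht₀, e⟩
    have h3 : φ t₀ ∈ closure ({φ ⟨a, ha⟩, φ ⟨γ, hγ⟩ * φ ⟨a, ha⟩ * (φ ⟨γ, hγ⟩)⁻¹} :
        Set (MulAut (qImg f E))) := by
      rw [show φ ⟨γ, hγ⟩ * φ ⟨a, ha⟩ * (φ ⟨γ, hγ⟩)⁻¹ = φ b by rw [hb, map_mul, map_mul, map_inv],
        ← Set.image_pair φ, ← MonoidHom.map_closure]
      exact mem_map_of_mem φ ht₀
    obtain ⟨k, hk⟩ := hp' ⟨_, h3⟩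
    have hk' : φ t₀ ^ p ^ k = 1 := congrArg Subtype.val hk
    rw [← map_pow] at hk'
    obtain ⟨m, hm⟩ := hkill ((t₀ : MulAut E) ^ p ^ k) (pow_mem ht _) fun e he => by
      have h4 := hφ (t₀ ^ p ^ k) e he
      rw [hk', apl_one (qPi_mem_img (hE.1.1 he) he), SubgroupClass.coe_pow] at h4
      exact (qPi_eq_iff hker (hE.1.1 he) (hE.1.1 (apl_mem _ he))).1 h4
    exact ⟨k + m, Subtype.ext (by
      show (t₀ : MulAut E) ^ p ^ (k + m) = 1
      rw [pow_add, pow_mul, hm])⟩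
  · intro X' hX'
    obtain ⟨X, hX, hXQ, hXS, hXn, hXi, rfl⟩ : ∃ X, (Ess S K₁ K₂ X ∨ X = S) ∧ Q ≤ X ∧ X ≤ S ∧
        Nor S X ∧ Inv D X Q ∧ X' = qImg f X := by
      rcases hX' with hX' | rfl
      · obtain ⟨E, hE, rfl⟩ := lift X' hX'
        exact ⟨E, Or.inl hE, hQ E hE, hE.1.1, h.nor E hE, hQi E hE, rfl⟩
      · exact ⟨S, Or.inr rfl, hQS', le_rfl, fun s hs x hx =>
          S.mul_mem (S.mul_mem hs hx) (S.inv_mem hs), hQS, hStop.symm⟩
    haveI := finite_of_le hXS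
    haveI : Finite (MulAut X) := Finite.of_injective _ MulEquiv.toEquiv_injective
    obtain ⟨φ, hφ⟩ := exists_indHom hker hXS hXi
    have hmem : ∀ α : D X, φ α ∈ qD f hf D (qImg f X) := fun α =>
      (mem_qD hker hf hXQ hXS).2 ⟨α, α.2, hφ α⟩
    set ψ := φ.codRestrict (qD f hf D (qImg f X)) hmem with hψ
    have hψs : Function.Surjective ψ := by
      rintro ⟨α', hα'⟩
      obtain ⟨α, hα, hαx⟩ := (mem_qD hker hf hXQ hXS).1 hα'
      exact ⟨⟨α, hα⟩, Subtype.ext (ind_unique fun x hx => (hφ _ x hx).trans (hαx x hx).symm)⟩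
    obtain ⟨R, hR⟩ := h.syl X hX
    have hle : autInducedBy S X ≤ D X := by
      rcases hX with hX | rfl
      exacts [h.conj X hX, h.conjTop]
    refine ⟨R.mapSurjective hψs, ?_⟩
    rw [Sylow.coe_mapSurjective, hR]
    ext σ
    rw [mem_subgroupOf, ← indSyl X hXS hXQ hXn hXi φ hφ hle]
    exact ⟨fun ⟨y, hy, e⟩ => ⟨y, hy, congrArg Subtype.val e⟩,
      fun ⟨y, hy, e⟩ => ⟨y, hy, Subtype.ext e⟩⟩
  · intro E' hE' α' hα' hn'
    obtain ⟨E, hE, rfl⟩ := lift E' hE'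
    haveI := finite_of_le hE.1.1
    haveI : Finite (MulAut E) := Finite.of_injective _ MulEquiv.toEquiv_injective
    obtain ⟨φ, hφ⟩ := exists_indHom hker hE.1.1 (hQi E hE)
    obtain ⟨α, hα, hαx⟩ := (mem_qD hker hf (hQ E hE) hE.1.1).1 hα'
    have he : φ ⟨α, hα⟩ = α' := ind_unique fun x hx => (hφ _ x hx).trans (hαx x hx).symm
    obtain ⟨R, hR⟩ := h.syl E (Or.inl hE)
    have hRmap := indSyl E hE.1.1 (hQ E hE) (h.nor E hE) (hQi E hE) φ hφ (h.conj E hE)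
    obtain ⟨n, hn, hnR⟩ := exists_normalizing_lift φ R (g := ⟨α, hα⟩) fun r hr => by
      rw [he, hR, hRmap]
      refine hn' _ ?_
      rw [← hRmap, ← hR]
      exact mem_map_of_mem φ hr
    obtain ⟨β, hβ, hβx⟩ := h.ext E hE n n.2 fun σ hσ => by
      have := hnR ⟨σ, h.conj E hE hσ⟩ (by rw [hR]; exact hσ)
      rw [hR] at this
      exact this
    obtain ⟨ψ, hψ⟩ := exists_indHom hker (le_refl S) hQS
    have hk := (mem_qD hker hf hQS' (le_refl S)).2 ⟨β, hβ, hψ ⟨β, hβ⟩⟩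
    have key : ∀ (T : Subgroup G), T = qImg f S → ∃ β' ∈ qD f hf D T,
        ∀ y ∈ qImg f E, apl β' y = apl α' y := by
      rintro _ rfl
      refine ⟨_, hk, fun y hy => ?_⟩
      obtain ⟨x, hx, hxS, rfl⟩ := mem_img hy
      rw [hψ _ x hxS, ← he, ← hn, hφ _ x hx]
      exact congrArg (qPi f) (hβx x hx)
    exact key ⊤ hStop.symm
  · intro E' hE'
    obtain ⟨E, hE, rfl⟩ := lift E' hE'
    have key : ∀ (T : Subgroup G), T = qImg f S → ∀ β' ∈ qD f hf D T,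
        ∃ α' ∈ qD f hf D (qImg f E), ∀ y ∈ qImg f E, apl α' y = apl β' y := by
      rintro _ rfl β' hβ'
      obtain ⟨β, hβ, hβx⟩ := (mem_qD hker hf hQS' (le_refl S)).1 hβ'
      obtain ⟨α, hα, hαx⟩ := h.res E hE β hβ
      obtain ⟨φ, hφ⟩ := exists_indHom hker hE.1.1 (hQi E hE)
      refine ⟨φ ⟨α, hα⟩, (mem_qD hker hf (hQ E hE) hE.1.1).2 ⟨α, hα, hφ _⟩, fun y hy => ?_⟩
      obtain ⟨x, hx, hxS, rfl⟩ := mem_img hy
      rw [hφ _ x hx, hβx x hxS]
      exact congrArg (qPi f) (hαx x hx)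
    exact key ⊤ hStop.symm

end Cfsg.Agent.FusRankThreeChar
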