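import Cfsg.Agent.FusRankThreeChar.Base

/-!
The statement proved by induction on the order, and the reduced configuration in which no central
subgroup of exponent `p` is kept by all the chosen automorphisms.
-/

set_option autoImplicit false
set_option linter.style.haveILetI false
set_option linter.unusedSectionVars false

namespace Cfsg.Agent.FusRankThreeChar

open Cfsg Cfsg.FusionSystem Cfsg.Agent.FusSys Subgroup
open Cfsg.Agent.RankThreeEss (Elem)
open Cfsg.Agent.FusRankThreeNormal (Nor zOne mem_zOne zOne_le nor_zOne apl_map_mul apl_map_one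
  apl_map_inv apl_map_pow apl_map_comm apl_injective commSub mem_commSub commSub_le)
open scoped commutatorElement

universe u

variable {Ω : Type u} [Group Ω] {S E Q K₁ K₂ : Subgroup Ω} {p : ℕ}
variable {D : (X : Subgroup Ω) → Subgroup (MulAut X)}

theorem aut_inv_app {P : Type*} [Group P] (g : MulAut P) (w : P) : g⁻¹ (g w) = w := by
  rw [← MulAut.mul_apply, inv_mul_cancel, MulAut.one_apply]

theorem aut_app_inv {P : Type*} [Group P] (g : MulAut P) (w : P) : g (g⁻¹ w) = w := by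
  rw [← MulAut.mul_apply, mul_inv_cancel, MulAut.one_apply]

/-- The claim: the intersection of the two subgroups is central, or the order is `p ^ 4`. -/
def Goal (p : ℕ) (S K₁ K₂ : Subgroup Ω) : Prop :=
  (∀ x ∈ K₁ ⊓ K₂, ∀ s ∈ S, x * s = s * x) ∨ Nat.card S = p ^ 4

theorem inv_commSub {A B : Subgroup Ω} (hA : A ≤ E) (hB : B ≤ E) (hiA : Inv D E A)
    (hiB : Inv D E B) : Inv D E (commSub A B) := by
  have hle : commSub A B ≤ E := commSub_le fun u hu v hv => by
    rw [commutatorElement_def]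
    exact E.mul_mem (E.mul_mem (E.mul_mem (hA hu) (hB hv)) (E.inv_mem (hA hu))) (E.inv_mem (hB hv))
  intro α hα x _ hx
  induction hx using Subgroup.closure_induction with
  | mem y hy =>
    obtain ⟨u, hu, v, hv, rfl⟩ := hy
    rw [apl_map_comm α (hA hu) (hB hv)]
    exact mem_commSub (hiA α hα u (hA hu) hu) (hiB α hα v (hB hv) hv)
  | one => rw [apl_map_one]; exact one_mem _
  | mul a b ha hb iha ihb =>
    rw [apl_map_mul α (hle ha) (hle hb)]
    exact mul_mem (iha (hle ha)) (ihb (hle hb))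
  | inv a ha iha =>
    rw [apl_map_inv α (hle ha)]
    exact inv_mem (iha (hle ha))

theorem ess_cases {B : Subgroup Ω} (h : Ess S K₁ K₂ B) : B = K₁ ∨ B = K₂ := h.2

variable [Finite S] [hp : Fact p.Prime]

/-- Two different distinguished subgroups meet in `K₁ ⊓ K₂`. -/
theorem inf_eq {E₁ E₂ : Subgroup Ω} (h1 : Ess S K₁ K₂ E₁) (h2 : Ess S K₁ K₂ E₂) (hne : E₁ ≠ E₂) :
    E₁ ⊓ E₂ = K₁ ⊓ K₂ := by
  rcases h1.2 with rfl | rfl <;> rcases h2.2 with rfl | rfl
  exacts [absurd rfl hne, rfl, inf_comm _ _, absurd rfl hne]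

namespace Setting

variable (h : Setting p S D K₁ K₂)
include h

/-- Elements stabilising an invariant series of length two lie inside. -/
theorem mem_of_stab (hE : Ess S K₁ K₂ E) (hi : Inv D E Q) {x : Ω} (hx : x ∈ S)
    (h1 : ∀ q ∈ E, q ∈ Q → x * q * x⁻¹ = q) (h2 : ∀ e ∈ E, e⁻¹ * (x * e * x⁻¹) ∈ Q) : x ∈ E := by
  by_contra hxE
  haveI := finite_of_le hE.1.1
  obtain ⟨a, ha, γ, hγ, hax, hnp⟩ := h.nonpgroup hE hx hxE
  let C : ℕ → Subgroup E := fun i => if i = 0 then ⊥ else if i = 1 then Q.subgroupOf E else ⊤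
  have hmono : Monotone C := monotone_nat_of_le_succ fun i => by
    match i with
    | 0 => exact bot_le
    | 1 => exact le_top
    | k + 2 => exact le_rfl
  have hav : ∀ y : E, ((a y : E) : Ω) = x * y * x⁻¹ := fun y => (apl_coe a y).symm.trans (hax y y.2)
  refine hnp (isPGroup_of_chain (h.pS.to_le hE.1.1) C hmono 2 rfl rfl _ fun f hf i hi2 y hy => ?_)
  have hγ' : ∀ w : E, (w : Ω) ∈ Q ↔ ((γ w : E) : Ω) ∈ Q := fun w => by
    rw [← apl_coe γ w]; exact (hi.iff hγ w.2).symm
  match i with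
  | 0 =>
    change (y : Ω) ∈ Q at hy
    refine mem_bot.2 ?_
    rcases hf with rfl | rfl
    · exact inv_mul_eq_one.2 (Subtype.ext (by rw [hav, h1 y y.2 hy]))
    · rw [inv_mul_eq_one, MulAut.mul_apply, MulAut.mul_apply]
      set w := γ⁻¹ y with hw
      have hy' : y = γ w := (aut_app_inv γ y).symm
      rw [hy'] at hy ⊢
      exact congrArg γ (Subtype.ext (by rw [hav, h1 w w.2 ((hγ' w).2 hy)])).symm
  | 1 =>
    show ((y⁻¹ * f y : E) : Ω) ∈ Q
    rcases hf with rfl | rfl
    · rw [Subgroup.coe_mul, Subgroup.coe_inv, hav]; exact h2 y y.2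
    · rw [MulAut.mul_apply, MulAut.mul_apply]
      set w := γ⁻¹ y with hw
      rw [← aut_app_inv γ y, ← hw, ← map_inv, ← map_mul, ← hγ']
      rw [Subgroup.coe_mul, Subgroup.coe_inv, hav]
      exact h2 w w.2

/-- An automorphism of `S` keeps every orbit subgroup. -/
theorem orb_keep (hE : Ess S K₁ K₂ E) {β : MulAut S} (hβ : β ∈ D S) (R : Subgroup Ω) :
    ∀ x ∈ orb D E R, apl β x ∈ orb D E R := fun x hx => by
  obtain ⟨α, hα, hαx⟩ := h.res E hE β hβ
  rw [← hαx x (orb_le hx)]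
  exact inv_orb α hα x (orb_le hx) hx

theorem inv_top_orb (hE : Ess S K₁ K₂ E) (R : Subgroup Ω) : Inv D S (orb D E R) :=
  fun _ hβ x _ hx => h.orb_keep hE hβ R x hx

theorem inv_top_vOf (hE : Ess S K₁ K₂ E) : Inv D S (vOf p S D E) := h.inv_top_orb hE _

theorem eq_of_le (hE : Ess S K₁ K₂ E) {B : Subgroup Ω} (hB : Ess S K₁ K₂ B) (hle : B ≤ E) :
    B = E := by
  haveI := finite_of_le hE.1.1
  exact eq_of_le_of_card_ge hle
    (Nat.eq_of_mul_eq_mul_left hp.out.pos ((h.card_eq hB).symm.trans (h.card_eq hE))).ge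

theorem not_le (hE : Ess S K₁ K₂ E) {B : Subgroup Ω} (hB : Ess S K₁ K₂ B) (hne : B ≠ E) :
    ¬ B ≤ E := fun hle => hne (h.eq_of_le hE hB hle)

end Setting

/-- The reduced configuration, with the statement known for smaller orders. -/
structure Red {Ω : Type u} [Group Ω] (p : ℕ) [Fact p.Prime] (S : Subgroup Ω)
    (D : (X : Subgroup Ω) → Subgroup (MulAut X)) (K₁ K₂ : Subgroup Ω) : Prop
    extends Setting p S D K₁ K₂ where
  red : ∀ Q ≤ zOne p S, Inv D S Q → (∀ B, Ess S K₁ K₂ B → Inv D B Q) → Q = ⊥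
  ih : ∀ {G : Type u} [Group G] (S' : Subgroup G) [Finite S']
    (D' : (X : Subgroup G) → Subgroup (MulAut X)) (J₁ J₂ : Subgroup G),
    Setting p S' D' J₁ J₂ → Nat.card S' < Nat.card S → Goal p S' J₁ J₂

end Cfsg.Agent.FusRankThreeChar
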