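import Cfsg.Agent.FusRankThreeChar.CaseOne
import Cfsg.Agent.FusRankThreeChar.CaseTwoA
import Cfsg.Agent.FusRankThreeChar.CaseTwoB

/-!
The reduced configuration satisfies the claim.
-/

set_option autoImplicit false

namespace Cfsg.Agent.FusRankThreeChar

open Cfsg Cfsg.FusionSystem Subgroup

universe u

variable {Ω : Type u} [Group Ω] {S K₁ K₂ : Subgroup Ω} {p : ℕ}
variable {D : (X : Subgroup Ω) → Subgroup (MulAut X)}
variable [Finite S] [hp : Fact p.Prime]

/-- The reduced case. -/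
theorem Red.goal (h : Red p S D K₁ K₂) : Goal p S K₁ K₂ := by
  by_cases hone : ∃ E B, Moved p S D K₁ K₂ E ∧ Ess S K₁ K₂ B ∧ ¬ vOf p S D E ≤ B
  · obtain ⟨E, B, hE, hB, hn⟩ := hone
    exact h.case_one hE.1 hB hE.2 hn
  push Not at hone
  have t : Two p S D K₁ K₂ := ⟨h, fun E hE B hB => hone E B hE hB⟩
  by_cases hW : ∃ B, Ess S K₁ K₂ B ∧ ∃ a ∈ orb D B (pSub p S D K₁ K₂),
      ∃ b ∈ orb D B (pSub p S D K₁ K₂), a * b ≠ b * a
  · exact t.nonabelian hW
  · push Not at hW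
    exact (t.abelian_false hW).elim

end Cfsg.Agent.FusRankThreeChar
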