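import Cfsg.Agent.FusRankThreeChar.Tools

/-!
Stabilisers of series inside the chosen automorphisms, extensions of central elements, and small
facts about commutators.
-/

set_option autoImplicit false
set_option linter.style.haveILetI false
set_option linter.unusedSectionVars false

namespace Cfsg.Agent.FusRankThreeChar

open Cfsg Cfsg.FusionSystem Cfsg.Agent.FusSys Subgroup
open Cfsg.Agent.RankThreeEss (Elem)
open Cfsg.Agent.FusRankThreeNormal (Nor zOne apl_map_mul apl_map_one apl_map_inv apl_map_pow)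
open scoped commutatorElement

universe u

section Comm

variable {G : Type*} [Group G] {x v : G}

theorem comm_pow_left (h : Commute x ⁅x, v⁆) (k : ℕ) : ⁅x ^ k, v⁆ = ⁅x, v⁆ ^ k := by
  induction k with
  | zero => simp
  | succ k ih =>
    have e : ⁅x ^ (k + 1), v⁆ = x * ⁅x ^ k, v⁆ * x⁻¹ * ⁅x, v⁆ := by
      rw [pow_succ']; simp only [commutatorElement_def]; group
    rw [e, ih, (h.pow_right k).eq, mul_inv_cancel_right, pow_succ]

theorem comm_pow_right (h : Commute v ⁅x, v⁆) (k : ℕ) : ⁅x, v ^ k⁆ = ⁅x, v⁆ ^ k := by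
  induction k with
  | zero => simp
  | succ k ih =>
    have e : ⁅x, v ^ (k + 1)⁆ = ⁅x, v⁆ * (v * ⁅x, v ^ k⁆ * v⁻¹) := by
      rw [pow_succ']; simp only [commutatorElement_def]; group
    rw [e, ih, (h.pow_right k).eq, mul_inv_cancel_right, pow_succ']

theorem comm_inv_right (h : Commute v ⁅x, v⁆) : ⁅x, v⁻¹⁆ = ⁅x, v⁆⁻¹ := by
  have e : ⁅x, v⁻¹⁆ = v⁻¹ * ⁅x, v⁆⁻¹ * v := by simp only [commutatorElement_def]; group
  rw [e, mul_assoc, ← h.inv_right.eq, inv_mul_cancel_left]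

end Comm

variable {Ω : Type u} [Group Ω] {S E Q K₁ K₂ : Subgroup Ω} {p : ℕ}
variable {D : (X : Subgroup Ω) → Subgroup (MulAut X)}

/-- The chosen automorphisms keeping the terms of a series and trivial on its first `n` factors. -/
def stabSub (D : (X : Subgroup Ω) → Subgroup (MulAut X)) (E : Subgroup Ω) (N : ℕ → Subgroup Ω)
    (n : ℕ) : Subgroup (D E) where
  carrier := {σ | (∀ i ≤ n, ∀ y ∈ E, apl (σ : MulAut E) y ∈ N i ↔ y ∈ N i) ∧
    ∀ i < n, ∀ y ∈ E, y ∈ N (i + 1) → y⁻¹ * apl (σ : MulAut E) y ∈ N i}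
  one_mem' := ⟨fun i _ y hy => by rw [OneMemClass.coe_one, apl_one hy],
    fun i _ y hy _ => by rw [OneMemClass.coe_one, apl_one hy, inv_mul_cancel]; exact one_mem _⟩
  mul_mem' := by
    rintro f g ⟨hf, hf'⟩ ⟨hg, hg'⟩
    refine ⟨fun i hi y hy => ?_, fun i hi y hy hyN => ?_⟩
    · rw [Subgroup.coe_mul, apl_mul _ _ hy, hf i hi _ (apl_mem _ hy), hg i hi y hy]
    · have hgy : apl (g : MulAut E) y ∈ E := apl_mem _ hy
      have e : y⁻¹ * apl ((f * g : D E) : MulAut E) y =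
          (y⁻¹ * apl (f : MulAut E) y) * apl (f : MulAut E) (y⁻¹ * apl (g : MulAut E) y) := by
        rw [apl_map_mul (f : MulAut E) (inv_mem hy) hgy, apl_map_inv (f : MulAut E) hy,
          Subgroup.coe_mul, apl_mul _ _ hy]
        group
      rw [e]
      exact mul_mem (hf' i hi y hy hyN)
        ((hf i hi.le _ (mul_mem (inv_mem hy) hgy)).2 (hg' i hi y hy hyN))
  inv_mem' := by
    rintro f ⟨hf, hf'⟩
    have h1 : ∀ i ≤ n, ∀ y ∈ E, apl ((f⁻¹ : D E) : MulAut E) y ∈ N i ↔ y ∈ N i := by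
      intro i hi y hy
      rw [Subgroup.coe_inv]
      conv_rhs => rw [← apl_apl_inv (f : MulAut E) hy]
      exact (hf i hi _ (apl_mem _ hy)).symm
    refine ⟨h1, fun i hi y hy hyN => ?_⟩
    have h2 := hf' i hi _ (apl_mem ((f⁻¹ : D E) : MulAut E) hy) ((h1 _ hi y hy).2 hyN)
    rw [Subgroup.coe_inv, apl_apl_inv _ hy] at h2
    have h3 := inv_mem h2
    rw [Subgroup.coe_inv]
    rwa [mul_inv_rev, inv_inv] at h3

variable [Finite S] [hp : Fact p.Prime]

namespace Setting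

variable (h : Setting p S D K₁ K₂)
include h

theorem mem_of_sq {W : Subgroup Ω} {c : Ω} (hc : c ∈ S) (h2 : c * c ∈ W) : c ∈ W := by
  obtain ⟨m, hm⟩ := IsPGroup.iff_card.1 h.pS
  obtain ⟨j, hj⟩ := h.odd.pow (n := m)
  have h1 : c ^ (2 * j + 1) = 1 := by
    have := congrArg Subtype.val (pow_card_eq_one' (G := S) (x := ⟨c, hc⟩))
    rw [hm, hj] at this
    exact this
  have h3 : (c * c) ^ (j + 1) ∈ W := pow_mem h2 _
  rwa [← pow_two, ← pow_mul, show 2 * (j + 1) = (2 * j + 1) + 1 by ring, pow_succ, h1, one_mul] at h3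

theorem card_inter (hE : Ess S K₁ K₂ E) {B : Subgroup Ω} (hB : Ess S K₁ K₂ B) (hne : E ≠ B) :
    Nat.card B = p * Nat.card (K₁ ⊓ K₂ : Subgroup Ω) := by
  haveI := finite_of_le hB.1.1
  have h1 := (E.subgroupOf B).card_mul_index
  rw [h.inter_index hE hB (h.not_le hE hB hne.symm),
    ← card_map_of_injective (K := E.subgroupOf B) B.subtype_injective, subgroupOf_map_subtype,
    inf_eq hE hB hne, mul_comm] at h1
  exact h1.symm

theorem inter_le (hE : Ess S K₁ K₂ E) : K₁ ⊓ K₂ ≤ E := by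
  rcases hE.2 with rfl | rfl
  exacts [inf_le_left, inf_le_right]

theorem inter_le_S : K₁ ⊓ K₂ ≤ S := inf_le_left.trans h.left.1.1

theorem exists_other (hE : Ess S K₁ K₂ E) : ∃ B, Ess S K₁ K₂ B ∧ B ≠ E := by
  rcases hE.2 with rfl | rfl
  exacts [⟨_, h.right, h.ne.symm⟩, ⟨_, h.left, h.ne⟩]

theorem exists_not_mem (hE : Ess S K₁ K₂ E) {B : Subgroup Ω} (hB : Ess S K₁ K₂ B) (hne : B ≠ E) :
    ∃ x ∈ B, x ∉ E :=
  SetLike.not_le_iff_exists.1 (h.not_le hE hB hne)

/-- A central element of a stabiliser, extended to the whole group. -/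
theorem exists_ext_of_central (hE : Ess S K₁ K₂ E) {G₀ : Subgroup (D E)}
    (hR : ∀ σ (hσ : σ ∈ autInducedBy S E), (⟨σ, h.conj E hE hσ⟩ : D E) ∈ G₀)
    {H : Type*} [Group H] (φ : G₀ →* H) (g : G₀) (hg : ∀ x, φ g * φ x = φ x * φ g) :
    ∃ n : G₀, φ n = φ g ∧ ∃ β ∈ D S, ∀ y ∈ E, apl β y = apl ((n : D E) : MulAut E) y := by
  haveI := finite_of_le hE.1.1
  haveI : Finite (MulAut E) := Finite.of_injective _ MulEquiv.toEquiv_injective
  obtain ⟨R, hRe⟩ := h.syl E (Or.inl hE)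
  have hle : (R : Subgroup (D E)) ≤ G₀ := fun r hr => by
    rw [hRe] at hr
    exact hR r (mem_subgroupOf.1 hr)
  obtain ⟨n, hn, hnR⟩ := exists_normalizing_lift φ (R.subtype hle) (g := g) fun r hr => by
    rw [hg r, mul_inv_cancel_right]
    exact mem_map_of_mem φ hr
  refine ⟨n, hn, h.ext E hE _ (n : D E).2 fun σ hσ => ?_⟩
  have h1 := hnR ⟨_, hR σ hσ⟩ (by
    show (⟨σ, h.conj E hE hσ⟩ : D E) ∈ (R : Subgroup (D E))
    rw [hRe]; exact hσ)
  have h2 : (n : D E) * ⟨σ, h.conj E hE hσ⟩ * (n : D E)⁻¹ ∈ (R : Subgroup (D E)) := h1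
  rw [hRe] at h2
  exact h2

end Setting

end Cfsg.Agent.FusRankThreeChar
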