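import Cfsg.Agent.FusRankThreeChar.Line
import Cfsg.Agent.Fusion.OmegaFixed
import Cfsg.Agent.FusSys.SylowAux

/-!
Series kept by the automorphisms, lifts normalising a Sylow subgroup and powers of automorphisms.
-/

set_option autoImplicit false
set_option linter.style.haveILetI false
set_option linter.unusedSectionVars false

namespace Cfsg.Agent.FusRankThreeChar

open Cfsg Cfsg.FusionSystem Cfsg.Agent.FusSys Subgroup
open Cfsg.Agent.RankThreeEss (Elem)
open Cfsg.Agent.FusRankThreeNormal (Nor zOne apl_map_mul apl_map_one apl_map_inv apl_map_pow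
  pow_apply_fix Neg)
open scoped commutatorElement

universe u

/-! ### Series -/

/-- A series of length two. -/
def ser2 {G : Type*} [Group G] (A B : Subgroup G) : ℕ → Subgroup G
  | 0 => ⊥
  | 1 => A
  | _ => B

/-- A series of length three. -/
def ser3 {G : Type*} [Group G] (A B C : Subgroup G) : ℕ → Subgroup G
  | 0 => ⊥
  | 1 => A
  | 2 => B
  | _ => C

theorem ser2_mono {G : Type*} [Group G] {A B : Subgroup G} (h : A ≤ B) : Monotone (ser2 A B) :=
  monotone_nat_of_le_succ fun i => by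
    match i with
    | 0 => exact bot_le
    | 1 => exact h
    | k + 2 => exact le_rfl

theorem ser3_mono {G : Type*} [Group G] {A B C : Subgroup G} (h : A ≤ B) (h' : B ≤ C) :
    Monotone (ser3 A B C) :=
  monotone_nat_of_le_succ fun i => by
    match i with
    | 0 => exact bot_le
    | 1 => exact h
    | 2 => exact h'
    | k + 3 => exact le_rfl

section Aut

variable {P : Type*} [Group P] {p : ℕ} [hp : Fact p.Prime]

/-- Powers of an automorphism stabilising a series stabilise it. -/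
theorem stab_pow {N : ℕ → Subgroup P} (hmono : Monotone N) {n : ℕ} {f : MulAut P} (h0 : N 0 = ⊥)
    (hf : ∀ i < n, ∀ x ∈ N (i + 1), x⁻¹ * f x ∈ N i) :
    ∀ m : ℕ, ∀ i < n, ∀ x ∈ N (i + 1), x⁻¹ * (f ^ m) x ∈ N i := by
  have keep : ∀ i ≤ n, ∀ y ∈ N i, f y ∈ N i := by
    intro i hi y hy
    match i with
    | 0 => rw [h0, mem_bot] at hy ⊢; rw [hy, map_one]
    | j + 1 =>
      have := (N (j + 1)).mul_mem hy (hmono j.le_succ (hf j (by omega) y hy))
      rwa [mul_inv_cancel_left] at this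
  intro m
  induction m with
  | zero => intro i _ x _; simp
  | succ m ih =>
    intro i hi x hx
    have e : x⁻¹ * (f ^ (m + 1)) x = (x⁻¹ * f x) * f (x⁻¹ * (f ^ m) x) := by
      rw [pow_succ', MulAut.mul_apply, map_mul, map_inv]; group
    rw [e]
    exact mul_mem (hf i hi x hx) (keep i hi.le _ (ih i hi x hx))

variable [Finite P]

/-- A power of an automorphism stabilising a series fixes its top term pointwise. -/
theorem exists_pow_fix (hP : IsPGroup p P) {N : ℕ → Subgroup P} (hmono : Monotone N) {n : ℕ}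
    {f : MulAut P} (h0 : N 0 = ⊥) (hf : ∀ i < n, ∀ x ∈ N (i + 1), x⁻¹ * f x ∈ N i) :
    ∃ k, ∀ x ∈ N n, (f ^ p ^ k) x = x := by
  obtain ⟨m, hm⟩ := IsPGroup.iff_card.1 hP
  have step : ∀ i ≤ n, ∃ k, ∀ x ∈ N i, (f ^ p ^ k) x = x := by
    intro i
    induction i with
    | zero => exact fun _ => ⟨0, fun x hx => by rw [h0, mem_bot] at hx; rw [hx, map_one]⟩
    | succ i ih =>
      intro hi
      obtain ⟨k, hk⟩ := ih (by omega)
      refine ⟨k + m, fun x hx => ?_⟩
      rw [pow_add, pow_mul, pow_apply_fix (hk _ (stab_pow hmono h0 hf _ i (by omega) x hx)), ← hm,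
        pow_card_eq_one', mul_one]
  exact step n le_rfl

/-- Odd powers of an inversion modulo `C` invert modulo `C`. -/
theorem inv_odd_pow {C : Subgroup P} {f : MulAut P} (hC : ∀ x ∈ C, f x ∈ C)
    (hneg : ∀ g, g * f g ∈ C) [C.Normal] (m : ℕ) :
    (∀ g, g⁻¹ * (f ^ (2 * m)) g ∈ C) ∧ ∀ g, g * (f ^ (2 * m + 1)) g ∈ C := by
  have key : ∀ m : ℕ, (∀ g, g⁻¹ * (f ^ (2 * m)) g ∈ C) → ∀ g, g * (f ^ (2 * m + 1)) g ∈ C := by
    intro m h g
    rw [pow_succ', MulAut.mul_apply]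
    have e : g * f ((f ^ (2 * m)) g) = (g * f g) * f (g⁻¹ * (f ^ (2 * m)) g) := by
      rw [map_mul, map_inv]; group
    rw [e]
    exact mul_mem (hneg g) (hC _ (h g))
  suffices h : ∀ g, g⁻¹ * (f ^ (2 * m)) g ∈ C from ⟨h, key m h⟩
  induction m with
  | zero => simp
  | succ m ih =>
    intro g
    rw [show 2 * (m + 1) = (2 * m + 1) + 1 by ring, pow_succ, MulAut.mul_apply]
    have h1 := key m ih (f g)
    have h2 := ‹C.Normal›.conj_mem _ (hneg g) g⁻¹
    rw [inv_inv, show g⁻¹ * (g * f g) * g = f g * g by group] at h2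
    have e : g⁻¹ * (f ^ (2 * m + 1)) (f g) = (f g * g)⁻¹ * (f g * (f ^ (2 * m + 1)) (f g)) := by
      group
    rw [e]
    exact mul_mem (inv_mem h2) h1

/-- Odd powers of an inversion modulo `C`. -/
theorem inv_pow_p {C : Subgroup P} {f : MulAut P} (hodd : Odd p) (hC : ∀ x ∈ C, f x ∈ C)
    (hneg : ∀ g, g * f g ∈ C) [C.Normal] (k : ℕ) : ∀ g, g * (f ^ p ^ k) g ∈ C := by
  obtain ⟨m, hm⟩ := hodd.pow (n := k)
  rw [hm]
  exact (inv_odd_pow hC hneg m).2

/-- An automorphism stabilising a series up to `C` and inverting modulo `C` has a power that is an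
involution of that kind. -/
theorem exists_pow_neg (hP : IsPGroup p P) (hodd : Odd p) {N : ℕ → Subgroup P} (hmono : Monotone N)
    {n : ℕ} {f : MulAut P} (h0 : N 0 = ⊥) (hf : ∀ i < n, ∀ x ∈ N (i + 1), x⁻¹ * f x ∈ N i)
    [(N n).Normal] (hneg : ∀ g, g * f g ∈ N n) : ∃ k, Neg (N n) (f ^ p ^ k) := by
  obtain ⟨m, hm⟩ := IsPGroup.iff_card.1 hP
  obtain ⟨k, hk⟩ := exists_pow_fix hP hmono h0 hf
  have hC : ∀ x ∈ N n, f x ∈ N n := by
    intro x hx
    match n, hx with
    | 0, hx => rw [h0, mem_bot] at hx ⊢; rw [hx, map_one]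
    | j + 1, hx =>
      have := (N (j + 1)).mul_mem hx (hmono j.le_succ (hf j (by omega) x hx))
      rwa [mul_inv_cancel_left] at this
  have hfix : ∀ x ∈ N n, (f ^ p ^ (k + m)) x = x := fun x hx => by
    rw [pow_add, pow_mul]
    have : ∀ j : ℕ, ((f ^ p ^ k) ^ j) x = x := fun j => by
      induction j with
      | zero => rfl
      | succ j ih => rw [pow_succ', MulAut.mul_apply, ih, hk x hx]
    exact this _
  refine ⟨k + m, ⟨?_, hfix, inv_pow_p hodd hC hneg _⟩⟩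
  set F := f ^ p ^ k with hF
  rw [pow_add, pow_mul, ← hF, ← (Commute.refl F).mul_pow]
  refine MulEquiv.ext fun g => ?_
  have h1 : ∀ g, g * F g ∈ N n := inv_pow_p hodd hC hneg _
  have hFC : ∀ x ∈ N n, F x ∈ N n := fun x hx => by rw [hk x hx]; exact hx
  have h2 := (inv_odd_pow hFC h1 1).1 g
  rw [show 2 * 1 = 2 by rfl, pow_two] at h2
  rw [pow_apply_fix (by rw [MulAut.mul_apply, hk _ h2, hk _ h2]), ← hm, pow_card_eq_one', mul_one,
    MulAut.one_apply]

end Aut

/-- An element has a `p`-power whose order is prime to `p`. -/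
theorem exists_coprime_pow {G : Type*} [Group G] [Finite G] {p : ℕ} [hp : Fact p.Prime] (t : G) :
    ∃ k, Nat.Coprime (orderOf (t ^ p ^ k)) p := by
  refine ⟨(orderOf t).factorization p, ?_⟩
  rw [orderOf_pow' _ (pow_ne_zero _ hp.out.ne_zero),
    Nat.gcd_eq_right (Nat.ordProj_dvd _ _), Nat.coprime_comm]
  exact Nat.coprime_ordCompl hp.out (orderOf_pos t).ne'

/-- A lift normalising a given Sylow subgroup. -/
theorem exists_normalizing_lift {G H : Type*} [Group G] [Finite G] [Group H] {p : ℕ}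
    [Fact p.Prime] (φ : G →* H) (R : Sylow p G) {g : G}
    (hg : ∀ r ∈ (R : Subgroup G), φ g * φ r * (φ g)⁻¹ ∈ (R : Subgroup G).map φ) :
    ∃ n, φ n = φ g ∧ ∀ r ∈ (R : Subgroup G), n * r * n⁻¹ ∈ (R : Subgroup G) := by
  set M := ((R : Subgroup G).map φ).comap φ with hM
  have hRM : (R : Subgroup G) ≤ M := le_comap_map _ _
  have hsub : (R : Subgroup G).map (MulAut.conj g).toMonoidHom ≤ M := by
    rintro _ ⟨r, hr, rfl⟩
    show φ (g * r * g⁻¹) ∈ (R : Subgroup G).map φ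
    rw [map_mul, map_mul, map_inv]
    exact hg r hr
  obtain ⟨⟨k, hkM⟩, hk⟩ := exists_conj_mem_sylow
    (R := ((R : Subgroup G).map (MulAut.conj g).toMonoidHom).subgroupOf M)
    ((R.2.map _).comap_subtype) (R.subtype hRM)
  obtain ⟨r, hr, hrk⟩ := hkM
  refine ⟨r⁻¹ * (k * g), by rw [map_mul, map_mul, map_inv, ← hrk, inv_mul_cancel_left], fun x hx => ?_⟩
  have h2 : k * (g * x * g⁻¹) * k⁻¹ ∈ (R : Subgroup G) :=
    hk ⟨g * x * g⁻¹, hsub ⟨x, hx, rfl⟩⟩ ⟨x, hx, rfl⟩
  rw [show r⁻¹ * (k * g) * x * (r⁻¹ * (k * g))⁻¹ = r⁻¹ * (k * (g * x * g⁻¹) * k⁻¹) * r by group]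
  exact mul_mem (mul_mem (inv_mem hr) h2) hr

variable {Ω : Type u} [Group Ω] {S E Q K₁ K₂ : Subgroup Ω} {p : ℕ}
variable {D : (X : Subgroup Ω) → Subgroup (MulAut X)}
variable [Finite S] [hp : Fact p.Prime]

/-- A step of order `p` between two normal subgroups. -/
theorem exists_step (hS : IsPGroup p S) {A B : Subgroup Ω} (hAB : A ≤ B) (hne : A ≠ B)
    (hBS : B ≤ S) (hA : Nor S A) (hB : Nor S B) :
    ∃ W, A ≤ W ∧ W ≤ B ∧ Nor S W ∧ Nat.card W = p * Nat.card A := by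
  haveI := hA.subgroupOf (le_refl S)
  haveI := hB.subgroupOf (le_refl S)
  set q := QuotientGroup.mk' (A.subgroupOf S) with hq
  haveI : ((B.subgroupOf S).map q).Normal :=
    Subgroup.Normal.map inferInstance _ (QuotientGroup.mk'_surjective _)
  haveI := (hS.to_quotient (A.subgroupOf S)).isNilpotent
  have hker : ∀ x : S, q x = 1 ↔ (x : Ω) ∈ A := fun x => QuotientGroup.eq_one_iff x
  have hne' : (B.subgroupOf S).map q ≠ ⊥ := fun e => hne (le_antisymm hAB fun b hb => by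
    have : q ⟨b, hBS hb⟩ ∈ (B.subgroupOf S).map q := ⟨⟨b, hBS hb⟩, hb, rfl⟩
    rw [e, mem_bot, hker] at this
    exact this)
  set C := (B.subgroupOf S).map q ⊓ Subgroup.center _ with hC
  haveI : Nontrivial C := (Subgroup.nontrivial_iff_ne_bot C).2 (Core.inf_center_ne_bot hne')
  obtain ⟨n, hn⟩ := IsPGroup.iff_card.1 ((hS.to_quotient (A.subgroupOf S)).to_subgroup C)
  have hdvd : p ∣ Nat.card C := by
    rw [hn]
    refine dvd_pow_self p fun e => ?_
    rw [e, pow_zero] at hn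
    exact (Finite.one_lt_card_iff_nontrivial.2 ‹_›).ne' hn
  obtain ⟨⟨z, hz0⟩, hz⟩ := exists_prime_orderOf_dvd_card' p hdvd
  have hzB : z ∈ (B.subgroupOf S).map q := hz0.1
  have hzc : z ∈ Subgroup.center _ := hz0.2
  rw [Subgroup.orderOf_mk] at hz
  set Z := zpowers z with hZ
  haveI hZn : Z.Normal := ⟨fun x hx g => by
    rwa [(mem_center_iff.1 ((zpowers_le.2 hzc) hx) g), mul_inv_cancel_right]⟩
  set W' := Z.comap q with hW'
  have hle : W' ≤ B.subgroupOf S := fun x hx => by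
    obtain ⟨b, hb, hbx⟩ := (zpowers_le.2 hzB) (show q x ∈ zpowers z from hx)
    have h1 : b⁻¹ * x ∈ A.subgroupOf S := (QuotientGroup.eq).1 hbx
    show (x : Ω) ∈ B
    have h2 : ((b⁻¹ * x : S) : Ω) ∈ B := hAB (mem_subgroupOf.1 h1)
    have h3 := B.mul_mem (show (b : Ω) ∈ B from hb) h2
    rwa [← Subgroup.coe_mul, mul_inv_cancel_left] at h3
  refine ⟨W'.map S.subtype, fun a ha => ?_, ?_, ?_, ?_⟩
  · refine ⟨⟨a, hBS (hAB ha)⟩, ?_, rfl⟩
    show q _ ∈ Z
    rw [(hker _).2 ha]; exact one_mem _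
  · rintro _ ⟨x, hx, rfl⟩; exact hle hx
  · rintro s hs _ ⟨x, hx, rfl⟩
    exact ⟨⟨s, hs⟩ * x * ⟨s, hs⟩⁻¹, (inferInstance : W'.Normal).conj_mem x hx _, rfl⟩
  · rw [card_map_of_injective S.subtype_injective]
    have h1 := W'.card_mul_index
    rw [hW', index_comap_of_surjective _ (QuotientGroup.mk'_surjective _),
      card_eq_card_quotient_mul_card_subgroup (A.subgroupOf S), ← Z.card_mul_index, hZ,
      Nat.card_zpowers, hz, Nat.card_congr (subgroupOfEquivOfLe (hAB.trans hBS)).toEquiv,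
      ← hZ, ← hW'] at h1
    refine Nat.eq_of_mul_eq_mul_right (Nat.pos_of_ne_zero Z.index_ne_zero_of_finite) (h1.trans ?_)
    ring

namespace Setting

variable (h : Setting p S D K₁ K₂)
include h

theorem comm_mem_inter {a b : Ω} (ha : a ∈ S) (hb : b ∈ S) : ⁅a, b⁆ ∈ K₁ ⊓ K₂ :=
  ⟨h.comm_mem_ess h.left ha hb, h.comm_mem_ess h.right ha hb⟩

theorem nor_inter : Nor S (K₁ ⊓ K₂) := fun s hs x hx =>
  ⟨h.nor_ess h.left s hs x hx.1, h.nor_ess h.right s hs x hx.2⟩

/-- The closure of a conjugate pair consists of chosen automorphisms. -/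
theorem pair_le (_hE : Ess S K₁ K₂ E) {a γ : MulAut E} (ha : a ∈ D E) (hγ : γ ∈ D E) :
    closure ({a, γ * a * γ⁻¹} : Set (MulAut E)) ≤ D E := (closure_le _).2 (by
  rintro f (rfl | rfl)
  exacts [ha, mul_mem (mul_mem hγ ha) (inv_mem hγ)])

/-- A conjugate pair stabilises an invariant series stabilised by the element. -/
theorem pair_stab (hE : Ess S K₁ K₂ E) {x : Ω} {a γ : MulAut E} (ha : a ∈ D E) (hγ : γ ∈ D E)
    (hax : ∀ y ∈ E, apl a y = x * y * x⁻¹) {N : ℕ → Subgroup Ω} {n : ℕ}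
    (hinv : ∀ i ≤ n, Inv D E (N i))
    (hx : ∀ i < n, ∀ y ∈ E, y ∈ N (i + 1) → y⁻¹ * (x * y * x⁻¹) ∈ N i) :
    ∀ f ∈ closure ({a, γ * a * γ⁻¹} : Set (MulAut E)), ∀ i < n, ∀ y ∈ E, y ∈ N (i + 1) →
      y⁻¹ * apl f y ∈ N i := by
  intro f hf
  induction hf using Subgroup.closure_induction with
  | mem f hf =>
    intro i hi y hy hyN
    rcases hf with rfl | rfl
    · rw [hax y hy]; exact hx i hi y hy hyN
    · set w := apl γ⁻¹ y with hw
      have hwE : w ∈ E := apl_mem _ hy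
      have hwN : w ∈ N (i + 1) := hinv _ hi _ (inv_mem hγ) y hy hyN
      have hyw : y = apl γ w := (apl_apl_inv γ hy).symm
      have haw : apl a w ∈ E := apl_mem _ hwE
      rw [apl_mul _ _ hy, apl_mul _ _ (apl_mem _ hy), ← hw, hyw, ← apl_map_inv γ hwE,
        ← apl_map_mul γ (inv_mem hwE) haw]
      refine hinv i hi.le γ hγ _ (mul_mem (inv_mem hwE) haw) ?_
      rw [hax w hwE]; exact hx i hi w hwE hwN
  | one => intro i _ y hy _; rw [apl_one hy, inv_mul_cancel]; exact one_mem _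
  | mul f g hfc hgc ihf ihg =>
    intro i hi y hy hyN
    have hgy : apl g y ∈ E := apl_mem _ hy
    have hd : y⁻¹ * apl g y ∈ E := mul_mem (inv_mem hy) hgy
    have e : y⁻¹ * apl (f * g) y = (y⁻¹ * apl f y) * apl f (y⁻¹ * apl g y) := by
      rw [apl_map_mul f (inv_mem hy) hgy, apl_map_inv f hy, apl_mul f g hy]; group
    rw [e]
    exact mul_mem (ihf i hi y hy hyN)
      (hinv i hi.le f (h.pair_le hE ha hγ hfc) _ hd (ihg i hi y hy hyN))
  | inv f hfc ihf =>
    intro i hi y hy hyN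
    have h1 := ihf i hi _ (apl_mem f⁻¹ hy)
      (hinv _ hi _ (inv_mem (h.pair_le hE ha hγ hfc)) y hy hyN)
    rw [apl_apl_inv f hy] at h1
    have h2 := inv_mem h1
    rwa [mul_inv_rev, inv_inv] at h2

/-- An automorphism stabilising a series up to the subgroup is a `p`-element. -/
theorem pow_eq_one_of_series (hE : Ess S K₁ K₂ E) {N : ℕ → Subgroup Ω} (hmono : Monotone N)
    (h0 : N 0 = ⊥) {n : ℕ} (hn : E ≤ N n) {f : MulAut E}
    (hf : ∀ i < n, ∀ y ∈ E, y ∈ N (i + 1) → y⁻¹ * apl f y ∈ N i) : ∃ k, f ^ p ^ k = 1 := by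
  haveI := finite_of_le hE.1.1
  obtain ⟨k, hk⟩ := exists_pow_fix (h.pS.to_le hE.1.1) (N := fun i => (N i).subgroupOf E)
    (fun i j hij x hx => hmono hij hx) (n := n) (f := f) (by rw [h0, bot_subgroupOf])
    (fun i hi y hy => by
      show ((y⁻¹ * f y : E) : Ω) ∈ N i
      rw [Subgroup.coe_mul, Subgroup.coe_inv, ← apl_coe]; exact hf i hi y y.2 hy)
  exact ⟨k, MulEquiv.ext fun y => hk y (hn y.2)⟩

/-- An element stabilising an invariant series lies inside. -/
theorem mem_of_series (hE : Ess S K₁ K₂ E) {x : Ω} (hxS : x ∈ S) {N : ℕ → Subgroup Ω}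
    (hmono : Monotone N) (h0 : N 0 = ⊥) {n : ℕ} (hn : E ≤ N n) (hinv : ∀ i ≤ n, Inv D E (N i))
    (hx : ∀ i < n, ∀ y ∈ E, y ∈ N (i + 1) → y⁻¹ * (x * y * x⁻¹) ∈ N i) : x ∈ E := by
  by_contra hxE
  obtain ⟨a, ha, γ, hγ, hax, hnp⟩ := h.nonpgroup hE hxS hxE
  refine hnp fun ⟨f, hf⟩ => ?_
  obtain ⟨k, hk⟩ := h.pow_eq_one_of_series hE hmono h0 hn (h.pair_stab hE ha hγ hax hinv hx f hf)
  exact ⟨k, Subtype.ext hk⟩

end Setting

end Cfsg.Agent.FusRankThreeChar
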