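import Cfsg.Agent.FusRankThreeChar.Induct

/-!
The involution of a distinguished subgroup inverting a quotient of order `p ^ 2`, extended to the
whole group.
-/

set_option autoImplicit false
set_option linter.style.haveILetI false
set_option linter.unusedSectionVars false

namespace Cfsg.Agent.FusRankThreeChar

open Cfsg Cfsg.FusionSystem Cfsg.Agent.FusSys Subgroup
open Cfsg.Agent.RankThreeEss (Elem)
open Cfsg.Agent.FusRankThreeNormal (Nor zOne apl_map_mul apl_map_one apl_map_inv apl_map_pow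
  apl_map_comm exists_neg Neg sup_zpowers_eq central_of_two sectional_of_le comm_induction)
open scoped commutatorElement

universe u

variable {Ω : Type u} [Group Ω] {S E Q K₁ K₂ : Subgroup Ω} {p : ℕ}
variable {D : (X : Subgroup Ω) → Subgroup (MulAut X)}

/-- The action on a quotient. -/
def quotAut {P : Type*} [Group P] {M : Subgroup P} [M.Normal] {G : Type*} [Group G]
    (φ : G →* MulAut P) (hM : ∀ g, ∀ x ∈ M, φ g x ∈ M) : G →* MulAut (P ⧸ M) where
  toFun g :=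
    { toFun := QuotientGroup.map M M (φ g).toMonoidHom (fun x hx => hM g x hx)
      invFun := QuotientGroup.map M M (φ g⁻¹).toMonoidHom (fun x hx => hM g⁻¹ x hx)
      left_inv := fun y => by
        induction y using QuotientGroup.induction_on with
        | _ x =>
          show ((φ g⁻¹ (φ g x) : P) : P ⧸ M) = _
          rw [← MulAut.mul_apply, ← map_mul, inv_mul_cancel, map_one, MulAut.one_apply]
      right_inv := fun y => by
        induction y using QuotientGroup.induction_on with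
        | _ x =>
          show ((φ g (φ g⁻¹ x) : P) : P ⧸ M) = _
          rw [← MulAut.mul_apply, ← map_mul, mul_inv_cancel, map_one, MulAut.one_apply]
      map_mul' := map_mul _ }
  map_one' := MulEquiv.ext fun y => by
    induction y using QuotientGroup.induction_on with
    | _ x =>
      show ((φ 1 x : P) : P ⧸ M) = _
      rw [map_one, MulAut.one_apply]; rfl
  map_mul' g g' := MulEquiv.ext fun y => by
    induction y using QuotientGroup.induction_on with
    | _ x =>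
      show ((φ (g * g') x : P) : P ⧸ M) = ((φ g (φ g' x) : P) : P ⧸ M)
      rw [map_mul, MulAut.mul_apply]

theorem quotAut_apply {P : Type*} [Group P] {M : Subgroup P} [M.Normal] {G : Type*} [Group G]
    (φ : G →* MulAut P) (hM : ∀ g, ∀ x ∈ M, φ g x ∈ M) (g : G) (x : P) :
    quotAut φ hM g (x : P ⧸ M) = ((φ g x : P) : P ⧸ M) := rfl

/-- What the involution gives. -/
structure Torus (p : ℕ) (S : Subgroup Ω) (D : (X : Subgroup Ω) → Subgroup (MulAut X))
    (K₁ K₂ E N C : Subgroup Ω) (x : Ω) (β : MulAut S) (n u : Ω) : Prop where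
  memD : β ∈ D S
  le : N ≤ C
  leI : C ≤ K₁ ⊓ K₂
  card : Nat.card (K₁ ⊓ K₂ : Subgroup Ω) = p * Nat.card C
  nor : Nor S C
  exp : ∀ g ∈ E, g ^ p ∈ C
  moves : ⁅u, x⁆ ∉ C
  fix : ∀ c ∈ C, apl β c = c
  neg : ∀ g ∈ E, g * apl β g ∈ C
  cen : ∀ c ∈ C, ∀ g ∈ E, g * c = c * g
  nI : n ∈ K₁ ⊓ K₂
  nC : n ∉ C
  np : n ^ p = 1
  nneg : apl β n = n⁻¹
  uE : u ∈ E
  uI : u ∉ K₁ ⊓ K₂
  up : u ^ p = 1
  uneg : apl β u = u⁻¹
  igen : K₁ ⊓ K₂ ≤ C ⊔ zpowers n
  egen : ∀ g ∈ E, g ∈ closure (((K₁ ⊓ K₂ : Subgroup Ω) : Set Ω) ∪ {u})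

variable [Finite S] [hp : Fact p.Prime]

set_option maxHeartbeats 3200000 in
/-- The construction. -/
theorem Setting.exists_torus (h : Setting p S D K₁ K₂) (hE : Ess S K₁ K₂ E) {x : Ω} (hxS : x ∈ S)
    (hxE : x ∉ E) {Q N : Subgroup Ω} (hQN : Q ≤ N) (hNI : N ≤ K₁ ⊓ K₂) (hQi : Inv D E Q)
    (hNi : Inv D E N) (hQz : ∀ q ∈ Q, ∀ s ∈ S, q * s = s * q)
    (hNQ : ∀ v ∈ N, ∀ s ∈ S, ⁅v, s⁆ ∈ Q) (hIN : ∀ v ∈ K₁ ⊓ K₂, ∀ s ∈ S, ⁅v, s⁆ ∈ N) :
    ∃ C β n u, Torus p S D K₁ K₂ E N C x β n u := by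
  classical
  set I := K₁ ⊓ K₂ with hI
  have hES := hE.1.1
  have hIE : I ≤ E := h.inter_le hE
  have hNE : N ≤ E := hNI.trans hIE
  haveI := finite_of_le hES
  haveI : Finite (MulAut E) := Finite.of_injective _ MulEquiv.toEquiv_injective
  have hNn : Nor S N := h.nor_of_inv hE hNE hNi
  have ecomm : ∀ y s : Ω, y⁻¹ * (s * y * s⁻¹) = ⁅y⁻¹, s⁆ := fun y s => by
    rw [commutatorElement_def]; group
  -- the pair
  obtain ⟨a, ha, γ, hγ, hax, hnp⟩ := h.nonpgroup hE hxS hxE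
  have hpair := h.pair_stab hE ha hγ hax (N := ser2 Q N) (n := 2)
    (fun i hi => by
      match i with
      | 0 => exact inv_bot
      | 1 => exact hQi
      | k + 2 => exact hNi)
    (fun i hi y hy hyN => by
      rw [ecomm]
      match i, hi with
      | 0, _ =>
        exact mem_bot.2 (commutatorElement_eq_one_iff_mul_comm.2
          (hQz _ (Q.inv_mem hyN) x hxS))
      | 1, _ => exact hNQ _ (N.inv_mem hyN) x hxS)
  set P' := N.subgroupOf E with hP'
  haveI hP'n : P'.Normal := hNn.subgroupOf hES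
  set φ : D E →* MulAut (E ⧸ P') := quotAut (D E).subtype (fun g y hy => by
    show ((g : MulAut E) y : Ω) ∈ N
    rw [← apl_coe]; exact hNi _ g.2 y y.2 hy) with hφ
  set q := QuotientGroup.mk' P' with hq
  have hqs : Function.Surjective q := QuotientGroup.mk'_surjective _
  have hqk : q.ker = P' := QuotientGroup.ker_mk' _
  have hφq : ∀ (g : D E) (y : E), φ g (q y) = q ((g : MulAut E) y) := fun g y => rfl
  set T : Subgroup E := I.subgroupOf E with hT
  haveI hTn : T.Normal := h.nor_inter.subgroupOf hES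
  have hP'T : P' ≤ T := fun y hy => hNI hy
  have hTi : T.index = p := by
    obtain ⟨B, hB, hBE⟩ := h.exists_other hE
    have := h.inter_index hB hE (h.not_le hB hE hBE.symm)
    rwa [subgroupOf_inj.2 (show B ⊓ E = I ⊓ E by
      rw [inf_eq hB hE hBE, ← hI, inf_eq_left.2 hIE]) ] at this
  set T₁ := T.map q with hT₁
  haveI hT₁n : T₁.Normal := hTn.map _ hqs
  have hT₁i : T₁.index = p := by
    rw [hT₁, index_map_eq T hqs (hqk.trans_le hP'T), hTi]
  set a₁ : D E := ⟨a, ha⟩ with ha₁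
  set γ₁ : D E := ⟨γ, hγ⟩ with hγ₁
  set A₀ := φ a₁ with hA₀
  set B₀ := φ (γ₁ * a₁ * γ₁⁻¹) with hB₀
  set T₂ := T₁.map (φ γ₁).toMonoidHom with hT₂
  haveI hT₂n : T₂.Normal := hT₁n.map _ (φ γ₁).surjective
  have hT₂i : T₂.index = p := by rw [hT₂]; exact (index_map_equiv T₁ (φ γ₁)).trans hT₁i
  have haval : ∀ y : E, ((a y : E) : Ω) = x * y * x⁻¹ := fun y =>
    (apl_coe a y).symm.trans (hax y y.2)
  have hA0T : ∀ v ∈ T₁, A₀ v = v := by
    rintro _ ⟨y, hy, rfl⟩
    rw [hA₀, hφq]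
    refine (QuotientGroup.eq.2 ?_).symm
    show (y : Ω)⁻¹ * ((a y : E) : Ω) ∈ N
    rw [haval, ecomm]
    exact hIN _ (I.inv_mem hy) x hxS
  have hA0m : ∀ v, v⁻¹ * A₀ v ∈ T₁ := by
    intro v
    obtain ⟨y, rfl⟩ := hqs v
    rw [hA₀, hφq, ← map_inv, ← map_mul]
    refine mem_map_of_mem q ?_
    show (y : Ω)⁻¹ * ((a y : E) : Ω) ∈ I
    rw [haval, ecomm]
    exact h.comm_mem_inter (S.inv_mem (hES y.2)) hxS
  have hB₀' : ∀ v, B₀ v = φ γ₁ (A₀ ((φ γ₁)⁻¹ v)) := fun v => by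
    rw [hB₀, map_mul, map_mul, map_inv]; rfl
  have hB0T : ∀ v ∈ T₂, B₀ v = v := by
    rintro _ ⟨w, hw, rfl⟩
    show B₀ (φ γ₁ w) = φ γ₁ w
    rw [hB₀', aut_inv_app, hA0T w hw]
  have hB0m : ∀ v, v⁻¹ * B₀ v ∈ T₂ := fun v => ⟨((φ γ₁)⁻¹ v)⁻¹ * A₀ ((φ γ₁)⁻¹ v), hA0m _, by
    show φ γ₁ (((φ γ₁)⁻¹ v)⁻¹ * A₀ ((φ γ₁)⁻¹ v)) = _
    rw [map_mul, map_inv, aut_app_inv, hB₀']⟩
  set H₀ := closure ({a₁, γ₁ * a₁ * γ₁⁻¹} : Set (D E)) with hH₀
  have hH₀' : H₀.map (D E).subtype = closure ({a, γ * a * γ⁻¹} : Set (MulAut E)) := by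
    rw [hH₀, MonoidHom.map_closure, Set.image_pair]; rfl
  have hH₀r : H₀.map φ = closure ({A₀, B₀} : Set (MulAut (E ⧸ P'))) := by
    rw [hH₀, MonoidHom.map_closure, Set.image_pair]
  have hna : ¬ IsPGroup p (closure ({A₀, B₀} : Set (MulAut (E ⧸ P')))) := by
    intro hp'
    refine hnp fun ⟨t, ht⟩ => ?_
    rw [← hH₀'] at ht
    obtain ⟨t₀, ht₀, rfl⟩ := ht
    obtain ⟨k, hk⟩ := hp' ⟨φ t₀, hH₀r ▸ mem_map_of_mem φ ht₀⟩
    have hk' : φ (t₀ ^ p ^ k) = 1 := by rw [map_pow]; exact congrArg Subtype.val hk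
    have hmem : ((t₀ : MulAut E)) ^ p ^ k ∈ closure ({a, γ * a * γ⁻¹} : Set (MulAut E)) := by
      refine pow_mem ?_ _
      rw [← hH₀']; exact mem_map_of_mem _ ht₀
    obtain ⟨k', hk''⟩ := h.pow_eq_one_of_series hE (N := ser3 Q N E) (n := 3) (ser3_mono hQN hNE)
      rfl (le_refl E) (f := ((t₀ : MulAut E)) ^ p ^ k) (fun i hi3 y hy hyN => by
        match i, hi3 with
        | 0, _ => exact hpair _ hmem 0 (by norm_num) y hy hyN
        | 1, _ => exact hpair _ hmem 1 (by norm_num) y hy hyN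
        | 2, _ =>
          have h2 := DFunLike.congr_fun hk' (q ⟨y, hy⟩)
          rw [hφq, MulAut.one_apply] at h2
          have h3 := QuotientGroup.eq.1 h2.symm
          rw [SubgroupClass.coe_pow] at h3
          show y⁻¹ * _ ∈ N
          rw [apl_apply _ hy]
          exact h3)
    exact ⟨k + k', Subtype.ext (by
      show ((t₀ : MulAut E)) ^ p ^ (k + k') = 1
      rw [pow_add, pow_mul, hk''])⟩
  obtain ⟨hTT, ⟨w₀, hw₀⟩, t, htm, hN⟩ :=
    exists_neg ((h.pS.to_le hES).to_quotient P') h.odd hT₁i hT₂i hA0T hB0T hA0m hB0m hna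
  -- the subgroup `C`
  set C₁ := (T₁ ⊓ T₂).comap q with hC₁
  set C := C₁.map E.subtype with hC
  have hC₁T : C₁ ≤ T := fun y hy => by
    obtain ⟨w, hw, hwy⟩ := hy.1
    have h1 : w⁻¹ * y ∈ P' := QuotientGroup.eq.1 hwy
    have h2 := T.mul_mem hw (hP'T h1)
    rwa [mul_inv_cancel_left] at h2
  have hCI : C ≤ I := by rintro _ ⟨y, hy, rfl⟩; exact hC₁T hy
  have hCE : C ≤ E := map_subtype_le _
  have hNC : N ≤ C := fun v hv => by
    refine ⟨⟨v, hNE hv⟩, ?_, rfl⟩
    show q _ ∈ T₁ ⊓ T₂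
    rw [show q ⟨v, hNE hv⟩ = 1 from (QuotientGroup.eq_one_iff _).2 (show v ∈ N from hv)]
    exact one_mem _
  have hCn : Nor S C := fun s hs c hc => by
    have := C.mul_mem hc (hNC (hIN _ (I.inv_mem (hCI hc)) s hs))
    rwa [← ecomm, mul_inv_cancel_left] at this
  have hrel : (T₁ ⊓ T₂).relIndex T₁ = p := by
    have hd : T₂.relIndex T₁ ∣ p := hT₂i ▸ relIndex_dvd_index_of_normal _ _
    rw [inf_relIndex_left]
    rcases (Nat.dvd_prime hp.out).1 hd with e | e
    · exact absurd (eq_of_le_of_card_ge (relIndex_eq_one.1 e) (by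
        rw [hT₂, card_map_of_injective (f := (φ γ₁).toMonoidHom) (φ γ₁).injective])) hTT
    · exact e
  have hC₁i : C₁.index = p * p := by
    rw [hC₁, index_comap_of_surjective _ hqs, ← relIndex_mul_index (inf_le_left : T₁ ⊓ T₂ ≤ T₁),
      hrel, hT₁i]
  have hC₁c : Nat.card C₁ = Nat.card C := (card_map_of_injective E.subtype_injective).symm
  have hEc : Nat.card E = Nat.card C * p * p := by
    rw [← C₁.card_mul_index, hC₁i, hC₁c, mul_assoc]
  have hIc : Nat.card I = p * Nat.card C := by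
    obtain ⟨B, hB, hBE⟩ := h.exists_other hE
    have h1 := h.card_inter hB hE hBE
    rw [hEc, ← hI, show Nat.card C * p * p = p * (p * Nat.card C) by ring] at h1
    exact (Nat.eq_of_mul_eq_mul_left hp.out.pos h1).symm
  have hpowC : ∀ g : E, g ^ p ∈ C₁ := fun g => by
    show q (g ^ p) ∈ T₁ ⊓ T₂
    rw [map_pow]
    refine ⟨?_, ?_⟩
    · have := pow_index_mem T₁ (q g); rwa [hT₁i] at this
    · have := pow_index_mem T₂ (q g); rwa [hT₂i] at this
  have hcomC : ∀ g k : E, ⁅g, k⁆ ∈ C₁ := by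
    have key : ∀ (M : Subgroup (E ⧸ P')) [M.Normal], M.index = p → ∀ g k : E ⧸ P', ⁅g, k⁆ ∈ M := by
      intro M _ hM g k
      haveI : IsCyclic ((E ⧸ P') ⧸ M) :=
        isCyclic_of_prime_card (p := p) (by rw [← index_eq_card, hM])
      letI := IsCyclic.commGroup (α := (E ⧸ P') ⧸ M)
      rw [← QuotientGroup.eq_one_iff, ← QuotientGroup.mk'_apply, map_commutatorElement,
        commutatorElement_eq_one_iff_mul_comm]
      exact mul_comm _ _
    intro g k
    show q ⁅g, k⁆ ∈ T₁ ⊓ T₂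
    rw [map_commutatorElement]
    exact ⟨key T₁ hT₁i _ _, key T₂ hT₂i _ _⟩
  haveI hC₁n : C₁.Normal := inferInstance
  -- extension to `S`
  rw [← hH₀r] at htm
  obtain ⟨t₀, ht₀, rfl⟩ := htm
  set G₀ := stabSub D E (ser3 Q N C) 3 with hG₀
  have hR : ∀ σ (hσ : σ ∈ autInducedBy S E), (⟨σ, h.conj E hE hσ⟩ : D E) ∈ G₀ := by
    intro σ hσ
    obtain ⟨s, hs, -, hsx⟩ := mem_autInducedBy_iff.1 hσ
    have hσD : σ ∈ D E := h.conj E hE hσ
    refine ⟨fun i hi y hy => ?_, fun i hi y hy hyN => ?_⟩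
    · match i with
      | 0 => exact inv_bot.iff hσD hy
      | 1 => exact hQi.iff hσD hy
      | 2 => exact hNi.iff hσD hy
      | k + 3 =>
        show apl σ y ∈ C ↔ y ∈ C
        rw [hsx y hy]
        exact ((mem_normalizer_iff.1 (hCn.mem_normalizer hs)) y).symm
    · show y⁻¹ * apl σ y ∈ ser3 Q N C i
      rw [hsx y hy, ecomm]
      rcases (show i = 0 ∨ i = 1 ∨ i = 2 by omega) with rfl | rfl | rfl
      · exact mem_bot.2 (commutatorElement_eq_one_iff_mul_comm.2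
          (hQz _ (Q.inv_mem hyN) s hs))
      · exact hNQ _ (N.inv_mem hyN) s hs
      · exact hIN _ (I.inv_mem (hCI hyN)) s hs
  have ht₀G : t₀ ∈ G₀ := by
    have htmem : (t₀ : MulAut E) ∈ closure ({a, γ * a * γ⁻¹} : Set (MulAut E)) := by
      rw [← hH₀']; exact mem_map_of_mem _ ht₀
    have hfix : ∀ y : E, (y : Ω) ∈ C → (y : Ω)⁻¹ * ((t₀ : MulAut E) y : E) ∈ N := by
      intro y hy
      obtain ⟨y', hy', e⟩ := hy
      obtain rfl : y' = y := Subtype.ext e
      have h1 := hN.fix (q y') hy'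
      rw [hφq] at h1
      exact (QuotientGroup.eq (s := P')).1 h1.symm
    refine ⟨fun i hi y hy => ?_, fun i hi y hy hyN => ?_⟩
    · match i with
      | 0 => exact inv_bot.iff t₀.2 hy
      | 1 => exact hQi.iff t₀.2 hy
      | 2 => exact hNi.iff t₀.2 hy
      | k + 3 =>
        show apl (t₀ : MulAut E) y ∈ C ↔ y ∈ C
        refine ⟨fun hm => ?_, fun hm => ?_⟩
        · obtain ⟨y', hy', e⟩ := hm
          have hy'' : q y' ∈ T₁ ⊓ T₂ := hy'
          have h1 := hN.fix (q y') hy''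
          have e' : y' = (t₀ : MulAut E) ⟨y, hy⟩ := Subtype.ext (e.trans (apl_apply _ hy))
          have h2 : q y' = φ t₀ (q ⟨y, hy⟩) := by rw [hφq, e']
          rw [h2] at h1 hy''
          have h3 : φ t₀ (q ⟨y, hy⟩) = q ⟨y, hy⟩ := (φ t₀).injective h1
          rw [h3] at h2
          refine ⟨⟨y, hy⟩, ?_, rfl⟩
          show q ⟨y, hy⟩ ∈ T₁ ⊓ T₂
          rw [← h3]; exact hy''
        · have h1 := hfix ⟨y, hy⟩ hm
          have h2 := C.mul_mem hm (hNC h1)
          rw [mul_inv_cancel_left, ← apl_coe] at h2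
          exact h2
    · rcases (show i = 0 ∨ i = 1 ∨ i = 2 by omega) with rfl | rfl | rfl
      · exact hpair _ htmem 0 (by norm_num) y hy hyN
      · exact hpair _ htmem 1 (by norm_num) y hy hyN
      · rw [apl_apply _ hy]
        exact hfix ⟨y, hy⟩ hyN
  set ψ : G₀ →* MulAut (E ⧸ C₁) := quotAut ((D E).subtype.comp G₀.subtype) (fun g y hy => by
    have h1 := (g.2.1 3 le_rfl y y.2).2 (show (y : Ω) ∈ C from ⟨y, hy, rfl⟩)
    obtain ⟨y', hy', e⟩ := h1
    rwa [show ((D E).subtype.comp G₀.subtype) g y = y' from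
      Subtype.ext ((apl_coe _ y).symm.trans e.symm)]) with hψ
  have hψneg : ∀ v, ψ ⟨t₀, ht₀G⟩ v = v⁻¹ := by
    intro v
    induction v using QuotientGroup.induction_on with
    | _ y =>
      rw [hψ, quotAut_apply, ← QuotientGroup.mk_inv]
      refine QuotientGroup.eq.2 ?_
      rw [← inv_mem_iff, mul_inv_rev, inv_inv, inv_inv]
      have h1 := hN.neg (q y)
      rw [hφq, ← map_mul] at h1
      exact h1
  obtain ⟨n₀, hn₀, β₀, hβ₀, hβn⟩ := h.exists_ext_of_central hE hR ψ ⟨t₀, ht₀G⟩ fun g =>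
    MulEquiv.ext fun v => by rw [MulAut.mul_apply, MulAut.mul_apply, hψneg, hψneg, map_inv]
  set f₀ : MulAut E := ((n₀ : D E) : MulAut E) with hf₀
  have hfneg : ∀ g : E, g * f₀ g ∈ C₁ := by
    intro g
    have h1 := DFunLike.congr_fun hn₀ (g : E ⧸ C₁)
    rw [hψneg, hψ, quotAut_apply] at h1
    have h2 := QuotientGroup.eq.1 h1.symm
    rwa [inv_inv] at h2
  have hsub : C.subgroupOf E = C₁ := by
    rw [hC]; exact comap_map_eq_self_of_injective E.subtype_injective _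
  haveI hsn : ((ser3 Q N C 3).subgroupOf E).Normal := by
    show (C.subgroupOf E).Normal
    rw [hsub]; exact hC₁n
  obtain ⟨k, hk⟩ := exists_pow_neg (h.pS.to_le hES) h.odd
    (N := fun i => (ser3 Q N C i).subgroupOf E)
    (fun i j hij w hw => ser3_mono hQN hNC hij hw) (n := 3) (f := f₀)
    (show (⊥ : Subgroup Ω).subgroupOf E = ⊥ from bot_subgroupOf _)
    (fun i hi y hy => by
      refine mem_subgroupOf.2 ?_
      rw [Subgroup.coe_mul, Subgroup.coe_inv, ← apl_coe]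
      exact n₀.2.2 i hi y y.2 hy)
    (fun g => by
      show g * f₀ g ∈ C.subgroupOf E
      rw [hsub]; exact hfneg g)
  have hNeg : Neg C₁ (f₀ ^ p ^ k) := hsub ▸ hk
  set β := β₀ ^ p ^ k with hβ
  have hβE : ∀ y : E, apl β (y : Ω) = ((f₀ ^ p ^ k) y : E) := by
    have key : ∀ (j : ℕ) (y : E), apl (β₀ ^ j) (y : Ω) = ((f₀ ^ j) y : E) := by
      intro j
      induction j with
      | zero => intro y; rw [pow_zero, pow_zero, apl_one (hES y.2), MulAut.one_apply]
      | succ j ih =>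
        intro y
        rw [pow_succ', apl_mul _ _ (hES y.2), ih, hβn _ ((f₀ ^ j) y).2, pow_succ', MulAut.mul_apply,
          apl_coe]
    exact key _
  -- representatives
  obtain ⟨u₀, hu₀T, hu₀C⟩ : ∃ u ∈ T, u ∉ C₁ := by
    by_contra! hall
    have e : I ≤ C := fun y hy => ⟨⟨y, hIE hy⟩, hall _ hy, rfl⟩
    haveI := finite_of_le ((hCI.trans hIE).trans hES)
    haveI := finite_of_le (hIE.trans hES)
    have := card_le_of_le e
    rw [hIc] at this
    have h0 : 0 < Nat.card C := Nat.card_pos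
    nlinarith [hp.out.two_le]
  obtain ⟨v₀, hv₀⟩ : ∃ v, v ∉ T := by
    by_contra! hall
    rw [(eq_top_iff' T).2 hall, index_top] at hTi
    exact hp.out.one_lt.ne hTi
  obtain ⟨n, hnneg, hnp', hnu, hncom⟩ := hNeg.exists_rep (h.pS.to_le hES) h.odd hpowC u₀
  obtain ⟨u, huneg, hup, huv, hucom⟩ := hNeg.exists_rep (h.pS.to_le hES) h.odd hpowC v₀
  have hnT : n ∈ T := by
    have := T.mul_mem hu₀T (hC₁T hnu)
    rwa [mul_inv_cancel_left] at this
  have hnC : n ∉ C₁ := fun hn => hu₀C (by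
    have := C₁.mul_mem hn (C₁.inv_mem hnu)
    rwa [mul_inv_rev, inv_inv, mul_inv_cancel_left] at this)
  have huT : u ∉ T := fun hu => hv₀ (by
    have := T.mul_mem hu (T.inv_mem (hC₁T huv))
    rwa [mul_inv_rev, inv_inv, mul_inv_cancel_left] at this)
  have hrel₁ : C₁.relIndex T = p := by
    have h1 := relIndex_mul_index hC₁T
    rw [hTi, hC₁i] at h1
    exact Nat.eq_of_mul_eq_mul_right hp.out.pos h1
  have hTgen : C₁ ⊔ zpowers n = T := sup_zpowers_eq hC₁T hrel₁ hnT hnC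
  have hPgen : T ⊔ zpowers u = ⊤ :=
    sup_zpowers_eq le_top (by rw [relIndex_top_right, hTi]) (mem_top u) huT
  obtain ⟨hcen, -⟩ := central_of_two (h.pS.to_le hES) (sectional_of_le hES h.rank) hTgen hPgen hnp'
    hup hncom hucom (hcomC n u) (by rw [hEc, hC₁c])
  have hmemC : ∀ g : E, (g : Ω) ∈ C ↔ g ∈ C₁ := fun g => by
    rw [← hsub]; exact mem_subgroupOf.symm
  have hgenE : ∀ g ∈ E, g ∈ closure ((I : Set Ω) ∪ {(u : Ω)}) := by
    intro g hg
    have hle : T ⊔ zpowers u ≤ (closure ((I : Set Ω) ∪ {(u : Ω)})).subgroupOf E := sup_le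
      (fun y hy => Subgroup.subset_closure (Or.inl hy))
      (zpowers_le.2 (Subgroup.subset_closure (Set.mem_union_right _ (Set.mem_singleton _))))
    exact hle (hPgen.symm ▸ mem_top (⟨g, hg⟩ : E))
  refine ⟨C, β, (n : Ω), (u : Ω),
    { memD := pow_mem hβ₀ _
      le := hNC
      leI := hCI
      card := hIc
      nor := hCn
      exp := fun g hg => ⟨⟨g, hg⟩ ^ p, hpowC _, rfl⟩
      moves := ?_
      fix := ?_, neg := ?_, cen := ?_
      nI := hnT
      nC := fun hm => hnC ((hmemC n).1 hm)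
      np := congrArg Subtype.val hnp'
      nneg := ?_
      uE := u.2
      uI := fun hm => huT hm
      up := congrArg Subtype.val hup
      uneg := ?_
      igen := ?_
      egen := hgenE }⟩
  · intro hm
    obtain ⟨w, rfl⟩ := hqs w₀
    apply hw₀
    rw [hA₀, hφq, ← map_inv, ← map_mul]
    refine (hmemC _).1 ?_
    show (w : Ω)⁻¹ * ((a w : E) : Ω) ∈ C
    rw [haval, ecomm]
    refine comm_induction (S := S) hCn (s := (I : Set Ω) ∪ {(u : Ω)}) ?_ ?_ _
      (hgenE _ (E.inv_mem w.2))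
    · rintro y (hy | rfl)
      exacts [hES (hIE hy), hES u.2]
    · rintro y (hy | rfl)
      exacts [hNC (hIN y hy x hxS), hm]
  · intro c hc
    obtain ⟨c', hc', rfl⟩ := hc
    rw [coe_subtype, hβE, hNeg.fix c' hc']
  · intro g hg
    have := (hmemC _).2 (hNeg.neg ⟨g, hg⟩)
    rw [Subgroup.coe_mul, ← hβE] at this
    exact this
  · intro c hc g hg
    obtain ⟨c', hc', rfl⟩ := hc
    exact congrArg Subtype.val (hcen c' hc' ⟨g, hg⟩)
  · rw [hβE, hnneg]; rfl
  · rw [hβE, huneg]; rfl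
  · intro y hy
    have h1 : C₁ ⊔ zpowers n ≤ (C ⊔ zpowers (n : Ω)).subgroupOf E := sup_le
      (fun c hc => mem_sup_left ((hmemC c).2 hc))
      (zpowers_le.2 (mem_sup_right (mem_zpowers _)))
    exact h1 (hTgen.symm ▸ (show (⟨y, hIE hy⟩ : E) ∈ T from hy))

end Cfsg.Agent.FusRankThreeChar
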